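import Groth.Prelude.Def_AlgSt5

/-!
# Quotient stacks are fibred in groupoids

`isFibGrpd_quotSt`: for `K` stable under base change the category `[X/G]` of scheme torsors is fibred in groupoids.
-/

set_option autoImplicit false
set_option backward.isDefEq.respectTransparency false
set_option backward.isDefEq.respectTransparency.types false

universe u

open CategoryTheory CategoryTheory.Limits MonoidalCategory CartesianMonoidalCategory AlgebraicGeometry

namespace K998.QuotFib

variable {S : Scheme.{u}} {K : Precoverage Scheme.{u}} {G : Over S} [GrpObj G] {X : Over S}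
  {aX : AlgGrp.Action G X}

/-- Local triviality is stable under base change. -/
theorem isLocallyTrivialFor_of_isPullback [K.IsStableUnderBaseChange] {T T' P P' : Over S} {π : P ⟶ T}
    {π' : P' ⟶ T'} {f : T' ⟶ T} {t : P' ⟶ P} (h : IsPullback t π' π f)
    (hπ : NonAbH1.IsLocallyTrivialFor K (Over.mk π.left : Over T.left)) :
    NonAbH1.IsLocallyTrivialFor K (Over.mk π'.left : Over T'.left) := by
  obtain ⟨R, hR, hsec⟩ := hπ
  have h0 : IsPullback t.left π'.left π.left f.left := h.map (Over.forget S)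
  rw [← Presieve.ofArrows_category R] at hR
  have hpb := Precoverage.mem_coverings_of_isPullback (J := K) (S := T.left) (X := fun g : R.category => g.obj.left)
    (fun g => g.obj.hom) hR f.left (P := fun g => pullback f.left g.obj.hom)
    (fun g => pullback.fst _ _) (fun g => pullback.snd _ _) (fun g => IsPullback.of_hasPullback _ _)
  refine ⟨_, hpb, ?_⟩
  rintro V g ⟨i⟩
  obtain ⟨s, hs⟩ := hsec i.obj.hom i.property
  have hs' : s ≫ π.left = i.obj.hom := hs
  refine ⟨h0.lift (pullback.snd _ _ ≫ s) (pullback.fst _ _) ?_, ?_⟩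
  · rw [Category.assoc, hs', pullback.condition]
  · exact h0.lift_snd _ _ _

/-- The pulled back object of `[X/G]`. -/
noncomputable def pull [K.IsStableUnderBaseChange] (A : AlgSt.QuotObj K G aX) {T' P' : Over S} {f : T' ⟶ A.base}
    {t : P' ⟶ A.P} {π' : P' ⟶ T'} (h : IsPullback t π' A.π f) : AlgSt.QuotObj K G aX := by
  have hinv : A.act.act ≫ A.π = snd G A.P ≫ A.π := A.cart.w
  have hw : ((G ◁ t) ≫ A.act.act) ≫ A.π = (snd G P' ≫ π') ≫ f := by
    rw [Category.assoc, hinv, whiskerLeft_snd_assoc, h.w, Category.assoc]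
  let act : G ⊗ P' ⟶ P' := h.lift ((G ◁ t) ≫ A.act.act) (snd G P' ≫ π') hw
  have act_t : act ≫ t = (G ◁ t) ≫ A.act.act := h.lift_fst _ _ _
  have act_π : act ≫ π' = snd G P' ≫ π' := h.lift_snd _ _ _
  refine
    { base := T'
      P := P'
      act :=
        { act := act
          one_act := ?_
          mul_act := ?_ }
      π := π'
      cart := ?_
      loc := isLocallyTrivialFor_of_isPullback h A.loc
      φ := t ≫ A.φ
      eqv := ?_ }
  · apply h.hom_ext
    · rw [Category.assoc, act_t, ← MonoidalCategory.whisker_exchange_assoc, A.act.one_act, leftUnitor_naturality]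
    · rw [Category.assoc, act_π, whiskerRight_snd_assoc, leftUnitor_hom]
  · apply h.hom_ext
    · rw [Category.assoc, act_t, ← MonoidalCategory.whisker_exchange_assoc, A.act.mul_act, Category.assoc,
        Category.assoc, act_t, ← MonoidalCategory.whiskerLeft_comp_assoc, act_t,
        MonoidalCategory.whiskerLeft_comp_assoc, associator_naturality_right_assoc]
    · rw [Category.assoc, act_π, whiskerRight_snd_assoc, Category.assoc, Category.assoc, act_π,
        whiskerLeft_snd_assoc, act_π]
      simp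
  · have h1 : IsPullback (G ◁ t) (snd G P') (snd G A.P) t := AlgSt.isPullback_whiskerLeft t
    have h2 : IsPullback ((G ◁ t) ≫ A.act.act) (snd G P') A.π (t ≫ A.π) := h1.paste_horiz A.cart
    rw [← act_t, h.w] at h2
    exact IsPullback.of_right h2 act_π h
  · rw [reassoc_of% act_t, A.eqv, MonoidalCategory.whiskerLeft_comp_assoc]

section

variable [K.IsStableUnderBaseChange] (A : AlgSt.QuotObj K G aX) {T' P' : Over S} {f : T' ⟶ A.base}
    {t : P' ⟶ A.P} {π' : P' ⟶ T'} (h : IsPullback t π' A.π f)

/-- The canonical morphism from the pull-back. -/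
noncomputable def pullHom : pull A h ⟶ A where
  base := f
  top := t
  eqv := h.lift_fst _ _ _
  cart := h
  wφ := rfl

end

theorem isHomLift_iff {A B : AlgSt.QuotObj K G aX} (φ : A ⟶ B) (f : A.base ⟶ B.base) :
    (AlgSt.QuotSt K G aX).p.IsHomLift f φ ↔ φ.base = f := by
  constructor
  · intro hh
    exact (IsHomLift.eq_of_isHomLift (AlgSt.QuotSt K G aX).p f φ).symm
  · rintro rfl
    exact IsHomLift.map (AlgSt.QuotSt K G aX).p φ

/-- Every morphism of `[X/G]` is strongly cartesian, in elementary terms. -/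
theorem existsUnique_fac {a' y x : AlgSt.QuotObj K G aX} (φ : y ⟶ x) (g : a'.base ⟶ y.base) (φ' : a' ⟶ x)
    (hb : φ'.base = g ≫ φ.base) : ∃! χ : a' ⟶ y, χ.base = g ∧ χ ≫ φ = φ' := by
  have hw : φ'.top ≫ x.π = (a'.π ≫ g) ≫ φ.base := by
    rw [φ'.cart.w, hb, Category.assoc]
  let top : a'.P ⟶ y.P := φ.cart.lift φ'.top (a'.π ≫ g) hw
  have h1 : top ≫ φ.top = φ'.top := φ.cart.lift_fst _ _ _
  have h2 : top ≫ y.π = a'.π ≫ g := φ.cart.lift_snd _ _ _
  have hinv : a'.act.act ≫ a'.π = snd G a'.P ≫ a'.π := a'.cart.w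
  have hinvy : y.act.act ≫ y.π = snd G y.P ≫ y.π := y.cart.w
  let χ : a' ⟶ y :=
    { base := g
      top := top
      eqv := by
        apply φ.cart.hom_ext
        · rw [Category.assoc, h1, Category.assoc, φ.eqv, φ'.eqv, ← MonoidalCategory.whiskerLeft_comp_assoc, h1]
        · rw [Category.assoc, h2, Category.assoc, hinvy, whiskerLeft_snd_assoc, h2, reassoc_of% hinv]
      cart := by
        have hc := φ'.cart
        rw [← h1, hb] at hc
        exact IsPullback.of_right hc h2 φ.cart
      wφ := by rw [← φ.wφ, reassoc_of% h1, φ'.wφ] }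
  refine ⟨χ, ⟨rfl, AlgSt.QuotObj.hom_ext hb.symm h1⟩, ?_⟩
  rintro χ' ⟨hb', he⟩
  apply AlgSt.QuotObj.hom_ext hb'
  apply φ.cart.hom_ext
  · rw [h1]
    exact congrArg AlgSt.QuotObj.Hom.top he
  · rw [h2, χ'.cart.w, hb']

variable (K G aX) in
/-- `[X/G]` is fibred in groupoids. -/
theorem isFibGrpd_quotSt [K.IsStableUnderBaseChange] : FibCat.IsFibGrpd (AlgSt.QuotSt K G aX).p where
  exists_lift := fun {x} {V} f =>
    ⟨pull x (f := f) (IsPullback.of_hasPullback x.π f), pullHom x (f := f) (IsPullback.of_hasPullback x.π f),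
      (isHomLift_iff _ _).2 rfl⟩
  isStronglyCartesian := fun {y x} φ =>
    { toIsHomLift := IsHomLift.map (AlgSt.QuotSt K G aX).p φ
      universal_property' := fun {a'} g φ' hφ' => by
        have hb : φ'.base = g ≫ φ.base := (isHomLift_iff _ _).1 hφ'
        obtain ⟨χ, ⟨h1, h2⟩, h3⟩ := existsUnique_fac φ g φ' hb
        exact ⟨χ, ⟨(isHomLift_iff χ g).2 h1, h2⟩, fun χ' h => h3 χ' ⟨(isHomLift_iff χ' g).1 h.1, h.2⟩⟩ }

end K998.QuotFib
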