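import Mathlib.AlgebraicGeometry.Morphisms.Finite
import Mathlib.AlgebraicGeometry.Morphisms.Flat
import Mathlib.AlgebraicGeometry.Morphisms.FinitePresentation
import Mathlib.RingTheory.Localization.Free
import Mathlib.RingTheory.LocalRing.Module
import Mathlib.RingTheory.Finiteness.ModuleFinitePresentation

/-!
# Finite locally free morphisms are free over suitable affine charts
-/

set_option autoImplicit false

universe u

open CategoryTheory CategoryTheory.Limits AlgebraicGeometry
open scoped TensorProduct

namespace K998.FreeChart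

theorem exists_away_free {A B : Type u} [CommRing A] [CommRing B] [Algebra A B] [Module.Finite A B] [Module.Flat A B]
    [Module.FinitePresentation A B] (p : PrimeSpectrum A) : ∃ f : A, f ∉ p.asIdeal ∧
      Module.Free (Localization.Away f) (Localization.Away f ⊗[A] B) := by
  have hfree : Module.Free (Localization.AtPrime p.asIdeal) (LocalizedModule p.asIdeal.primeCompl B) := by
    have h1 : Module.Flat (Localization.AtPrime p.asIdeal) (LocalizedModule p.asIdeal.primeCompl B) := inferInstance
    have h2 : Module.Finite (Localization.AtPrime p.asIdeal) (LocalizedModule p.asIdeal.primeCompl B) :=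
      Module.Finite.of_isLocalizedModule p.asIdeal.primeCompl
        (LocalizedModule.mkLinearMap p.asIdeal.primeCompl B)
    exact Module.free_of_flat_of_isLocalRing
  obtain ⟨r, hr, h1, -⟩ := Module.FinitePresentation.exists_free_localizedModule_powers
    p.asIdeal.primeCompl (LocalizedModule.mkLinearMap p.asIdeal.primeCompl B)
    (Localization.AtPrime p.asIdeal)
  exact ⟨r, hr, Module.Free.of_equiv (LocalizedModule.equivTensorProduct (.powers r) B)⟩

/-- affine case -/
theorem exists_chart_affine {P : Scheme.{u}} {A : Type u} [CommRing A] (π : P ⟶ Spec (CommRingCat.of A)) [IsFinite π] [Flat π]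
    [LocallyOfFinitePresentation π] (s : Spec (CommRingCat.of A)) :
    ∃ (A' B : Type u) (_ : CommRing A') (_ : CommRing B) (_ : Algebra A' B)
      (j : Spec (CommRingCat.of A') ⟶ Spec (CommRingCat.of A)) (k : Spec (CommRingCat.of B) ⟶ P),
      Module.Free A' B ∧ Module.Finite A' B ∧ IsOpenImmersion j ∧ s ∈ Set.range j ∧
      IsPullback k (Spec.map (CommRingCat.ofHom (algebraMap A' B))) π j := by
  have hP : IsAffine P := isAffine_of_isAffineHom π
  let B₁ := Γ(P, ⊤)
  let φ : CommRingCat.of A ⟶ B₁ := (Scheme.ΓSpecIso (CommRingCat.of A)).inv ≫ π.appTop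
  have hφ : P.isoSpec.hom ≫ Spec.map φ = π := by
    rw [Spec.map_comp, ← Category.assoc, Scheme.isoSpec_hom_naturality]
    simp [Scheme.isoSpec_Spec_hom]
  have hφ' : Spec.map φ = P.isoSpec.inv ≫ π := by rw [← hφ, Iso.inv_hom_id_assoc]
  algebraize [φ.hom]
  have hmap : CommRingCat.ofHom (algebraMap A B₁) = φ := rfl
  have hfin : IsFinite (Spec.map φ) := by rw [hφ']; infer_instance
  have hflat : Flat (Spec.map φ) := by rw [hφ']; infer_instance
  have hfp : LocallyOfFinitePresentation (Spec.map φ) := by rw [hφ']; infer_instance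
  rw [IsFinite.SpecMap_iff] at hfin
  rw [Flat.SpecMap_iff] at hflat
  rw [LocallyOfFinitePresentation.SpecMap_iff] at hfp
  have h1 : Module.Finite A B₁ := hfin
  have h2 : Module.Flat A B₁ := hflat
  have h3 : Algebra.FinitePresentation A B₁ := hfp
  have h4 : Module.FinitePresentation A B₁ := Module.FinitePresentation.of_finite_of_finitePresentation A B₁
  obtain ⟨f, hf, hfree⟩ := exists_away_free (A := A) (B := B₁) s
  refine ⟨Localization.Away f, Localization.Away f ⊗[A] B₁, inferInstance, inferInstance, inferInstance,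
    Spec.map (CommRingCat.ofHom (algebraMap A (Localization.Away f))),
    Spec.map (CommRingCat.ofHom (Algebra.TensorProduct.includeRight.toRingHom)) ≫ P.isoSpec.inv,
    hfree, inferInstance, inferInstance, ?_, ?_⟩
  · have h1 := PrimeSpectrum.localization_away_comap_range (Localization.Away f) f
    have h2 : s ∈ Set.range (PrimeSpectrum.comap (algebraMap A (Localization.Away f))) := by
      rw [h1]
      exact hf
    obtain ⟨y, hy⟩ := h2
    exact ⟨y, hy⟩
  · have h5 := isPullback_SpecMap_of_isPushout _ _ _ _
      (CommRingCat.isPushout_tensorProduct A (Localization.Away f) B₁)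
    refine IsPullback.of_iso h5.flip (Iso.refl _) P.isoSpec.symm (Iso.refl _) (Iso.refl _) ?_ ?_ ?_ ?_
    · simp
    · simp
    · rw [Iso.refl_hom, Category.comp_id]
      exact hφ'
    · simp

/-- general case -/
theorem exists_chart {P S : Scheme.{u}} (π : P ⟶ S) [IsFinite π] [Flat π]
    [LocallyOfFinitePresentation π] (s : S) :
    ∃ (A B : Type u) (_ : CommRing A) (_ : CommRing B) (_ : Algebra A B)
      (j : Spec (CommRingCat.of A) ⟶ S) (k : Spec (CommRingCat.of B) ⟶ P),
      Module.Free A B ∧ Module.Finite A B ∧ IsOpenImmersion j ∧ s ∈ Set.range j ∧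
      IsPullback k (Spec.map (CommRingCat.ofHom (algebraMap A B))) π j := by
  obtain ⟨O, hO, hs, -⟩ := exists_isAffineOpen_mem_and_subset (U := ⊤) (x := s) trivial
  have hr : s ∈ Set.range hO.fromSpec := by
    rw [hO.range_fromSpec]
    exact hs
  obtain ⟨s', rfl⟩ := hr
  obtain ⟨A, B, _, _, _, j, k, h1, h2, h3, h4, h5⟩ := exists_chart_affine (A := Γ(S, O)) (pullback.snd π hO.fromSpec) s'
  obtain ⟨t, rfl⟩ := h4
  refine ⟨A, B, inferInstance, inferInstance, inferInstance, j ≫ hO.fromSpec, k ≫ pullback.fst _ _, h1, h2,
    inferInstance, ⟨t, rfl⟩, ?_⟩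
  exact h5.paste_horiz (IsPullback.of_hasPullback π hO.fromSpec)

end K998.FreeChart
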