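import Groth.Agent.StCoh.K998.Evc
import Groth.Agent.StCoh.K998.FreeChart
import Groth.Agent.Etrest.FppfMain3
import Groth.Agent.FlatA.EtaleSections
import Groth.Prelude.Def_GmPts2

/-!
# Étale-local Čech acyclicity of the multiplicative group
-/

set_option autoImplicit false
set_option linter.unusedSectionVars false
set_option linter.style.haveILetI false
set_option backward.isDefEq.respectTransparency false
set_option backward.isDefEq.respectTransparency.types false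

universe u

open CategoryTheory CategoryTheory.Limits AlgebraicGeometry Opposite
open scoped TensorProduct

namespace K998.GmCA

open UnitCx Amitsur Groth.Agent.Etrest FppfCoch FppfMain

section EvS

variable {A B : Type u} [CommRing A] [CommRing B] [Algebra A B]

/-- structure map -/
noncomputable abbrev str (A B : Type u) [CommRing A] [CommRing B] [Algebra A B] :
    Spec (CommRingCat.of B) ⟶ Spec (CommRingCat.of A) :=
  Spec.map (CommRingCat.ofHom (algebraMap A B))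

/-- The algebra structure on functions. -/
noncomputable abbrev ga {W : Scheme.{u}} (a : W ⟶ Spec (CommRingCat.of A)) : Algebra A Γ(W, ⊤) :=
  RingHom.toAlgebra (R := A) (fs a)

theorem fs_str {W : Scheme.{u}} (a : W ⟶ Spec (CommRingCat.of A)) (x : W ⟶ Spec (CommRingCat.of B))
    (h : x ≫ str A B = a) : (fs x : B →+* Γ(W, ⊤)).comp (algebraMap A B) = fs a := by
  rw [← h, fs_comp_map]
  rfl

/-- The algebra map of a point. -/
noncomputable def pt {W : Scheme.{u}} (a : W ⟶ Spec (CommRingCat.of A)) (x : W ⟶ Spec (CommRingCat.of B))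
    (h : x ≫ str A B = a) : letI := ga a; B →ₐ[A] Γ(W, ⊤) :=
  letI := ga a
  { (fs x : B →+* Γ(W, ⊤)) with
    commutes' := fun r => DFunLike.congr_fun (fs_str a x h) r }

/-- restriction as an algebra map -/
noncomputable def rs {W W' : Scheme.{u}} (g : W' ⟶ W) (a : W ⟶ Spec (CommRingCat.of A)) :
    letI := ga a; letI := ga (g ≫ a); Γ(W, ⊤) →ₐ[A] Γ(W', ⊤) :=
  letI := ga a
  letI := ga (g ≫ a)
  { g.appTop.hom with
    commutes' := fun r => (DFunLike.congr_fun (fs_comp g a) r).symm }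

theorem rs_pt {W W' : Scheme.{u}} (g : W' ⟶ W) (a : W ⟶ Spec (CommRingCat.of A)) (x : W ⟶ Spec (CommRingCat.of B))
    (h : x ≫ str A B = a) (h' : (g ≫ x) ≫ str A B = g ≫ a) : letI := ga a; letI := ga (g ≫ a);
    (rs g a).comp (pt a x h) = pt (g ≫ a) (g ≫ x) h' := by
  letI := ga a
  letI := ga (g ≫ a)
  apply AlgHom.ext
  intro b
  exact (DFunLike.congr_fun (fs_comp g x) b).symm

/-- Evaluation with coefficients at points of a scheme. -/
noncomputable def EvS {D : Type u} [CommRing D] [Algebra A D] {W : Scheme.{u}} (a : W ⟶ Spec (CommRingCat.of A))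
    (k : W ⟶ Spec (CommRingCat.of D)) (hk : k ≫ str A D = a)
    (n : ℕ) (x : Fin n → (W ⟶ Spec (CommRingCat.of B))) (h : ∀ i, x i ≫ str A B = a) :
    D ⊗[A] E A B n →+* Γ(W, ⊤) :=
  letI := ga a
  (evc (pt a k hk) n (fun i => pt a (x i) (h i))).toRingHom

/-- Evaluation at points of a scheme. -/
noncomputable def EvT {W : Scheme.{u}} (a : W ⟶ Spec (CommRingCat.of A))
    (n : ℕ) (x : Fin n → (W ⟶ Spec (CommRingCat.of B))) (h : ∀ i, x i ≫ str A B = a) :
    E A B n →+* Γ(W, ⊤) :=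
  letI := ga a
  (ev n (fun i => pt a (x i) (h i))).toRingHom

theorem appTop_EvS {D : Type u} [CommRing D] [Algebra A D] {W W' : Scheme.{u}} (g : W' ⟶ W)
    (a : W ⟶ Spec (CommRingCat.of A)) (k : W ⟶ Spec (CommRingCat.of D)) (hk : k ≫ str A D = a)
    (n : ℕ) (x : Fin n → (W ⟶ Spec (CommRingCat.of B))) (h : ∀ i, x i ≫ str A B = a)
    (hk' : (g ≫ k) ≫ str A D = g ≫ a) (h' : ∀ i, (g ≫ x i) ≫ str A B = g ≫ a) (y : D ⊗[A] E A B n) :
    g.appTop.hom (EvS a k hk n x h y) = EvS (g ≫ a) (g ≫ k) hk' n (fun i => g ≫ x i) h' y := by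
  letI := ga a
  letI := ga (g ≫ a)
  have h1 := comp_evc (rs g a) (pt a k hk) n (fun i => pt a (x i) (h i)) y
  refine h1.trans ?_
  rw [rs_pt g a k hk hk']
  simp only [rs_pt g a _ _ (h' _)]
  rfl

theorem appTop_EvT {W W' : Scheme.{u}} (g : W' ⟶ W)
    (a : W ⟶ Spec (CommRingCat.of A))
    (n : ℕ) (x : Fin n → (W ⟶ Spec (CommRingCat.of B))) (h : ∀ i, x i ≫ str A B = a)
    (h' : ∀ i, (g ≫ x i) ≫ str A B = g ≫ a) (y : E A B n) :
    g.appTop.hom (EvT a n x h y) = EvT (g ≫ a) n (fun i => g ≫ x i) h' y := by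
  letI := ga a
  letI := ga (g ≫ a)
  have h1 := ev_comp_apply (rs g a) n (fun i => pt a (x i) (h i)) y
  refine h1.trans ?_
  simp only [rs_pt g a _ _ (h' _)]
  rfl

/-- The unit maps. -/
noncomputable abbrev uS {D : Type u} [CommRing D] [Algebra A D] {W : Scheme.{u}} (a : W ⟶ Spec (CommRingCat.of A))
    (k : W ⟶ Spec (CommRingCat.of D)) (hk : k ≫ str A D = a)
    (n : ℕ) (x : Fin n → (W ⟶ Spec (CommRingCat.of B))) (h : ∀ i, x i ≫ str A B = a) :
    Additive (D ⊗[A] E A B n)ˣ →+ Additive (Γ(W, ⊤))ˣ :=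
  um ((EvS a k hk n x h : D ⊗[A] E A B n →+* Γ(W, ⊤)) : D ⊗[A] E A B n →* Γ(W, ⊤))

/-- The unit maps. -/
noncomputable abbrev uT {W : Scheme.{u}} (a : W ⟶ Spec (CommRingCat.of A))
    (n : ℕ) (x : Fin n → (W ⟶ Spec (CommRingCat.of B))) (h : ∀ i, x i ≫ str A B = a) :
    Additive (E A B n)ˣ →+ Additive (Γ(W, ⊤))ˣ :=
  um ((EvT a n x h : E A B n →+* Γ(W, ⊤)) : E A B n →* Γ(W, ⊤))

theorem sum_uS {D : Type u} [CommRing D] [Algebra A D] {W : Scheme.{u}} (a : W ⟶ Spec (CommRingCat.of A))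
    (k : W ⟶ Spec (CommRingCat.of D)) (hk : k ≫ str A D = a)
    (n : ℕ) (x : Fin (n + 1) → (W ⟶ Spec (CommRingCat.of B))) (h : ∀ i, x i ≫ str A B = a)
    (y : Additive (D ⊗[A] E A B n)ˣ)
    (z : Additive (E A B (n + 1))ˣ) (hy : Dm D (d A B n) y = zB D z) :
    ∑ i : Fin (n + 1), (-1 : ℤ) ^ (i : ℕ) • uS a k hk n (fun k => x (i.succAbove k)) (fun _ => h _) y =
      uT a (n + 1) x h z := by
  letI := ga a
  exact sum_um_evc (pt a k hk) n (fun i => pt a (x i) (h i)) y z hy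

theorem sum_uT {W : Scheme.{u}} (a : W ⟶ Spec (CommRingCat.of A))
    (n : ℕ) (x : Fin (n + 1) → (W ⟶ Spec (CommRingCat.of B))) (h : ∀ i, x i ≫ str A B = a)
    (z : Additive (E A B n)ˣ) :
    ∑ i : Fin (n + 1), (-1 : ℤ) ^ (i : ℕ) • uT a n (fun k => x (i.succAbove k)) (fun _ => h _) z =
      uT a (n + 1) x h (DM n z) := by
  letI := ga a
  exact sum_um_ev n (fun i => pt a (x i) (h i)) z

/-- the universal point -/
noncomputable abbrev unS (A B : Type u) [CommRing A] [CommRing B] [Algebra A B] (m : ℕ) (i : Fin m) :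
    Spec (CommRingCat.of (E A B m)) ⟶ Spec (CommRingCat.of B) :=
  Spec.map (CommRingCat.ofHom (un (A := A) (B := B) m i).toRingHom)

theorem unS_str (m : ℕ) (i : Fin m) : unS A B m i ≫ str A B = str A (E A B m) := by
  rw [← Spec.map_comp]
  congr 1
  ext r
  exact (un (A := A) (B := B) m i).commutes r

theorem EvT_univ {W : Scheme.{u}} (a : W ⟶ Spec (CommRingCat.of A)) (m : ℕ)
    (f : W ⟶ Spec (CommRingCat.of (E A B m))) (hf : f ≫ str A (E A B m) = a)
    (h : ∀ i, (f ≫ unS A B m i) ≫ str A B = a) (y : E A B m) :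
    EvT a m (fun i => f ≫ unS A B m i) h y = (fs f : E A B m →+* Γ(W, ⊤)) y := by
  letI := ga a
  have h1 : ∀ i, pt a (f ≫ unS A B m i) (h i) = (pt a f hf).comp (un m i) := by
    intro i
    apply AlgHom.ext
    intro b
    exact DFunLike.congr_fun (fs_comp_map (CommRingCat.ofHom (un (A := A) (B := B) m i).toRingHom) f) b
  have h2 : EvT a m (fun i => f ≫ unS A B m i) h y = ev m (fun i => (pt a f hf).comp (un m i)) y := by
    rw [← funext h1]
    rfl
  rw [h2, ← ev_comp_apply, ev_un_apply]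
  rfl

/-- the classifying morphism of a tuple -/
noncomputable def cl {W : Scheme.{u}} (a : W ⟶ Spec (CommRingCat.of A))
    (m : ℕ) (x : Fin m → (W ⟶ Spec (CommRingCat.of B))) (h : ∀ i, x i ≫ str A B = a) :
    W ⟶ Spec (CommRingCat.of (E A B m)) :=
  toSp (R := CommRingCat.of (E A B m)) (EvT a m x h)

theorem fs_cl {W : Scheme.{u}} (a : W ⟶ Spec (CommRingCat.of A))
    (m : ℕ) (x : Fin m → (W ⟶ Spec (CommRingCat.of B))) (h : ∀ i, x i ≫ str A B = a) :
    fs (cl a m x h) = EvT a m x h := fs_toSp _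

theorem cl_str {W : Scheme.{u}} (a : W ⟶ Spec (CommRingCat.of A))
    (m : ℕ) (x : Fin m → (W ⟶ Spec (CommRingCat.of B))) (h : ∀ i, x i ≫ str A B = a) :
    cl a m x h ≫ str A (E A B m) = a := by
  apply fs_injective
  rw [fs_comp_map, fs_cl]
  letI := ga a
  ext r
  exact (ev m (fun i => pt a (x i) (h i))).commutes r

theorem cl_unS {W : Scheme.{u}} (a : W ⟶ Spec (CommRingCat.of A))
    (m : ℕ) (x : Fin m → (W ⟶ Spec (CommRingCat.of B))) (h : ∀ i, x i ≫ str A B = a) (i : Fin m) :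
    cl a m x h ≫ unS A B m i = x i := by
  apply fs_injective
  rw [fs_comp_map, fs_cl]
  letI := ga a
  ext r
  exact ev_un' m (fun i => pt a (x i) (h i)) i r

end EvS

section Main

variable {A B : Type u} [CommRing A] [CommRing B] [Algebra A B] {X : Scheme.{u}} (v : Spec (CommRingCat.of A) ⟶ X)

/-- the base -/
noncomputable abbrev Vo : Over X := Over.mk v

/-- an affine scheme over the base -/
noncomputable abbrev Zo (B : Type u) [CommRing B] [Algebra A B] : Over X := Over.mk (str A B ≫ v)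

/-- structure map -/
noncomputable abbrev qo (B : Type u) [CommRing B] [Algebra A B] : Zo v B ⟶ Vo v := Over.homMk (str A B) rfl

theorem compat_left {W : Over X} {a : W ⟶ Vo v} {m : ℕ} {x : Fin m → (W ⟶ Zo v B)}
    (h : Compat (qo v B) (𝟙 (Vo v)) a x) (i : Fin m) : (x i).left ≫ str A B = a.left := by
  have := congrArg (fun k => k.left) (h i)
  simpa using this

/-- the universal tuple -/
noncomputable abbrev uno (B : Type u) [CommRing B] [Algebra A B] (m : ℕ) (i : Fin m) :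
    Zo v (E A B m) ⟶ Zo v B := Over.homMk (unS A B m i) (by
  dsimp
  rw [← Category.assoc, unS_str])

theorem compat_uno (m : ℕ) : Compat (qo v B) (𝟙 (Vo v)) (qo v (E A B m)) (uno v B m) := fun i => by
  ext
  dsimp
  rw [Category.comp_id]
  exact unS_str m i

/-- the unit of a cochain -/
noncomputable def zz {n : ℕ} (c : Fam (GmPts.unitsPre X) (Vo v) (Zo v B) n) : Additive (E A B (n + 1))ˣ :=
  um (((Scheme.ΓSpecIso (CommRingCat.of (E A B (n + 1)))).hom.hom :
      Γ(Spec (CommRingCat.of (E A B (n + 1))), ⊤) →+* E A B (n + 1)) :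
      Γ(Spec (CommRingCat.of (E A B (n + 1))), ⊤) →* E A B (n + 1))
    (Additive.ofMul (GmPts.unitOfSect (c (Zo v (E A B (n + 1))) (qo v (E A B (n + 1))) (uno v B (n + 1)))))

theorem down_eq {n : ℕ} {c : Fam (GmPts.unitsPre X) (Vo v) (Zo v B) n} (hc : IsCoch (qo v B) (𝟙 (Vo v)) c)
    {W : Over X} (a : W ⟶ Vo v) (x : Fin (n + 1) → (W ⟶ Zo v B)) (h : Compat (qo v B) (𝟙 (Vo v)) a x) :
    GmPts.unitOfSect (c W a x) = (uT a.left (n + 1) (fun i => (x i).left) (compat_left v h) (zz v c)).toMul := by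
  let f₀ := cl a.left (n + 1) (fun i => (x i).left) (compat_left v h)
  have hf₀ : f₀ ≫ str A (E A B (n + 1)) = a.left := cl_str _ _ _ _
  let f : W ⟶ Zo v (E A B (n + 1)) := Over.homMk f₀ (by
    dsimp
    rw [← Category.assoc, hf₀]
    exact Over.w a)
  have h1 : f ≫ qo v (E A B (n + 1)) = a := by
    ext
    exact hf₀
  have h2 : ∀ i, f ≫ uno v B (n + 1) i = x i := fun i => by
    ext
    exact cl_unS _ _ _ (compat_left v h) i
  have h3 := hc f (qo v (E A B (n + 1))) (uno v B (n + 1)) (compat_uno v (n + 1))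
  rw [h1, funext h2] at h3
  have key : ∀ w : Γ(Spec (CommRingCat.of (E A B (n + 1))), ⊤), f₀.appTop.hom w =
      EvT a.left (n + 1) (fun i => (x i).left) (compat_left v h)
        ((Scheme.ΓSpecIso (CommRingCat.of (E A B (n + 1)))).hom.hom w) := by
    intro w
    have h4 := DFunLike.congr_fun (fs_cl a.left (n + 1) (fun i => (x i).left) (compat_left v h))
      ((Scheme.ΓSpecIso (CommRingCat.of (E A B (n + 1)))).hom.hom w)
    rw [← h4]
    have h5 : (Scheme.ΓSpecIso (CommRingCat.of (E A B (n + 1)))).inv.hom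
        ((Scheme.ΓSpecIso (CommRingCat.of (E A B (n + 1)))).hom.hom w) = w := by
      rw [← CommRingCat.comp_apply, Iso.hom_inv_id]
      rfl
    exact congrArg f₀.appTop.hom h5.symm
  rw [← h3]
  exact Units.ext (key _)

/-- sections as units, additively -/
noncomputable def dn (T : Over X) : (GmPts.unitsPre X).obj (op T) →+ Additive (Γ(T.left, ⊤))ˣ where
  toFun s := Additive.ofMul (GmPts.unitOfSect s)
  map_zero' := rfl
  map_add' _ _ := rfl

theorem dn_injective (T : Over X) : Function.Injective (dn T) := fun s t h => by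
  have h1 : GmPts.unitOfSect s = GmPts.unitOfSect t := h
  rw [← GmPts.sectOfUnit_unitOfSect s, h1, GmPts.sectOfUnit_unitOfSect]

theorem dn_eq {n : ℕ} {c : Fam (GmPts.unitsPre X) (Vo v) (Zo v B) n} (hc : IsCoch (qo v B) (𝟙 (Vo v)) c)
    {W : Over X} (a : W ⟶ Vo v) (x : Fin (n + 1) → (W ⟶ Zo v B)) (h : Compat (qo v B) (𝟙 (Vo v)) a x) :
    dn W (c W a x) = uT a.left (n + 1) (fun i => (x i).left) (compat_left v h) (zz v c) :=
  congrArg Additive.ofMul (down_eq v hc a x h)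

theorem dn_dS {n : ℕ} {c : Fam (GmPts.unitsPre X) (Vo v) (Zo v B) n} (hc : IsCoch (qo v B) (𝟙 (Vo v)) c)
    {W : Over X} (a : W ⟶ Vo v) (x : Fin (n + 2) → (W ⟶ Zo v B)) (h : Compat (qo v B) (𝟙 (Vo v)) a x) :
    dn W (dS (c W a) x) =
      uT a.left (n + 2) (fun i => (x i).left) (compat_left v h) (DM (n + 1) (zz v c)) := by
  rw [dS, map_sum, ← sum_uT]
  refine Finset.sum_congr rfl fun i _ => ?_
  rw [map_zsmul, dn_eq v hc a _ (h.face i)]

theorem DM_zz {n : ℕ} {c : Fam (GmPts.unitsPre X) (Vo v) (Zo v B) n} (hc : IsCoch (qo v B) (𝟙 (Vo v)) c)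
    (hz : IsCocycle (qo v B) (𝟙 (Vo v)) c) : DM (n + 1) (zz v c) = 0 := by
  have h1 := dn_dS v hc (qo v (E A B (n + 2))) (uno v B (n + 2)) (compat_uno v (n + 2))
  rw [hz _ _ (compat_uno v (n + 2)), map_zero] at h1
  generalize DM (n + 1) (zz v c) = w at h1 ⊢
  apply Additive.toMul.injective
  apply Units.ext
  have h2 := congrArg (fun k => ((Scheme.ΓSpecIso (CommRingCat.of (E A B (n + 2)))).hom.hom :
      Γ(Spec (CommRingCat.of (E A B (n + 2))), ⊤) →+* E A B (n + 2))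
      ((Additive.toMul k : (Γ(Spec (CommRingCat.of (E A B (n + 2))), ⊤))ˣ) :
      Γ(Spec (CommRingCat.of (E A B (n + 2))), ⊤))) h1
  have h3 : ∀ y : E A B (n + 2), EvT (qo v (E A B (n + 2))).left (n + 2) (fun i => (uno v B (n + 2) i).left)
      (compat_left v (compat_uno v (n + 2))) y =
      (Scheme.ΓSpecIso (CommRingCat.of (E A B (n + 2)))).inv.hom y := by
    intro y
    have h4 := EvT_univ (A := A) (B := B) (str A (E A B (n + 2))) (n + 2) (𝟙 _) (Category.id_comp _)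
      (fun i => by rw [Category.id_comp, unS_str]) y
    simp only [Category.id_comp] at h4
    refine h4.trans ?_
    rw [fs]
    simp
  have h5 : (Scheme.ΓSpecIso (CommRingCat.of (E A B (n + 2)))).hom.hom
      (EvT (qo v (E A B (n + 2))).left (n + 2) (fun i => (uno v B (n + 2) i).left)
      (compat_left v (compat_uno v (n + 2))) (w.toMul : E A B (n + 2))) = (w.toMul : E A B (n + 2)) := by
    rw [h3]
    exact DFunLike.congr_fun (congrArg CommRingCat.Hom.hom
      (Scheme.ΓSpecIso (CommRingCat.of (E A B (n + 2)))).inv_hom_id) _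
  refine h5.symm.trans (h2.symm.trans ?_)
  exact map_one _

theorem compat_left' {V W : Over X} {g : V ⟶ Vo v} {a : W ⟶ V} {m : ℕ} {x : Fin m → (W ⟶ Zo v B)}
    (h : Compat (qo v B) (g ≫ 𝟙 (Vo v)) a x) (i : Fin m) : (x i).left ≫ str A B = a.left ≫ g.left := by
  have := congrArg (fun k => k.left) (h i)
  simpa using this

open Classical in
/-- the cochain of a unit with coefficients -/
noncomputable def bb {D : Type u} [CommRing D] [Algebra A D] {V : Over X} (g : V ⟶ Vo v)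
    (k : V.left ⟶ Spec (CommRingCat.of D)) (hk : k ≫ str A D = g.left) {n : ℕ}
    (y : Additive (D ⊗[A] E A B (n + 1))ˣ) : Fam (GmPts.unitsPre X) V (Zo v B) n := fun W a x =>
  if h : Compat (qo v B) (g ≫ 𝟙 _) a x then
    GmPts.sectOfUnit (uS (a.left ≫ g.left) (a.left ≫ k) (by rw [Category.assoc, hk]) (n + 1)
      (fun i => (x i).left) (compat_left' v h) y).toMul
  else 0

theorem dn_bb {D : Type u} [CommRing D] [Algebra A D] {V : Over X} (g : V ⟶ Vo v)
    (k : V.left ⟶ Spec (CommRingCat.of D)) (hk : k ≫ str A D = g.left) {n : ℕ}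
    (y : Additive (D ⊗[A] E A B (n + 1))ˣ) {W : Over X} (a : W ⟶ V) (x : Fin (n + 1) → (W ⟶ Zo v B))
    (h : Compat (qo v B) (g ≫ 𝟙 _) a x) :
    dn W (bb v g k hk y W a x) = uS (a.left ≫ g.left) (a.left ≫ k) (by rw [Category.assoc, hk]) (n + 1)
      (fun i => (x i).left) (compat_left' v h) y := by
  rw [bb, dif_pos h]
  rfl

theorem isCoch_bb {D : Type u} [CommRing D] [Algebra A D] {V : Over X} (g : V ⟶ Vo v)
    (k : V.left ⟶ Spec (CommRingCat.of D)) (hk : k ≫ str A D = g.left) {n : ℕ}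
    (y : Additive (D ⊗[A] E A B (n + 1))ˣ) : IsCoch (qo v B) (g ≫ 𝟙 _) (bb v g k hk y) := by
  intro W W' f a x h
  apply dn_injective
  rw [dn_bb v g k hk y _ _ (h.comp f)]
  have h1 := dn_bb v g k hk y a x h
  have h2 : dn W' ((GmPts.unitsPre X).map f.op (bb v g k hk y W a x)) =
      um ((f.left.appTop.hom : Γ(W.left, ⊤) →+* Γ(W'.left, ⊤)) : Γ(W.left, ⊤) →* Γ(W'.left, ⊤))
        (dn W (bb v g k hk y W a x)) := rfl
  rw [h2, h1]
  apply Additive.toMul.injective
  apply Units.ext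
  have hk' : (f.left ≫ a.left ≫ k) ≫ str A D = f.left ≫ a.left ≫ g.left := by
    rw [Category.assoc, Category.assoc, hk]
  have hx' : ∀ i, (f.left ≫ (x i).left) ≫ str A B = f.left ≫ a.left ≫ g.left := fun i => by
    rw [Category.assoc, compat_left' v h i]
  have h3 := appTop_EvS f.left (a.left ≫ g.left) (a.left ≫ k) (by rw [Category.assoc, hk]) (n + 1)
    (fun i => (x i).left) (compat_left' v h) hk' hx' (y.toMul : D ⊗[A] E A B (n + 1))
  refine h3.trans ?_
  have h4 : ∀ (a₁ a₂ : W'.left ⟶ Spec (CommRingCat.of A)) (_ : a₁ = a₂)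
      (k₁ k₂ : W'.left ⟶ Spec (CommRingCat.of D)) (_ : k₁ = k₂) (hk₁ : k₁ ≫ str A D = a₁)
      (hk₂ : k₂ ≫ str A D = a₂) (x₁ x₂ : Fin (n + 1) → (W'.left ⟶ Spec (CommRingCat.of B))) (_ : x₁ = x₂)
      (hx₁ : ∀ i, x₁ i ≫ str A B = a₁) (hx₂ : ∀ i, x₂ i ≫ str A B = a₂) (w : D ⊗[A] E A B (n + 1)),
      EvS a₁ k₁ hk₁ (n + 1) x₁ hx₁ w = EvS a₂ k₂ hk₂ (n + 1) x₂ hx₂ w := by
    rintro a₁ _ rfl k₁ _ rfl hk₁ hk₂ x₁ _ rfl hx₁ hx₂ w
    rfl
  exact h4 _ _ (by rw [Over.comp_left, Category.assoc]) _ _ (by rw [Over.comp_left, Category.assoc]) _ _ _ _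
    (by funext i; rw [Over.comp_left]) _ _ _

theorem isCob_bb {D : Type u} [CommRing D] [Algebra A D] {V : Over X} (g : V ⟶ Vo v)
    (k : V.left ⟶ Spec (CommRingCat.of D)) (hk : k ≫ str A D = g.left) {n : ℕ}
    (y : Additive (D ⊗[A] E A B (n + 1))ˣ) {c : Fam (GmPts.unitsPre X) (Vo v) (Zo v B) (n + 1)}
    (hc : IsCoch (qo v B) (𝟙 (Vo v)) c) (hy : Dm D (d A B (n + 1)) y = zB D (zz v c)) :
    IsCob (qo v B) (g ≫ 𝟙 _) (bb v g k hk y) (resF g c) := by
  intro W a x h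
  apply dn_injective
  have h1 : dn W (resF g c W a x) = uT (a ≫ g).left (n + 2) (fun i => (x i).left) (compat_left v h.res) (zz v c) :=
    dn_eq v hc (a ≫ g) x h.res
  rw [h1, dS, map_sum]
  refine Eq.trans ?_ (sum_uS (a.left ≫ g.left) (a.left ≫ k) (by rw [Category.assoc, hk]) (n + 1)
      (fun i => (x i).left) (compat_left' v h) y (zz v c) hy)
  refine Finset.sum_congr rfl fun i _ => ?_
  rw [map_zsmul, dn_bb v g k hk y a _ (h.face i)]

/-- The affine case. -/
theorem affine_case [Module.Free A B] [Module.Finite A B]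
    (hsurj : Function.Surjective (PrimeSpectrum.comap (algebraMap A B))) {n : ℕ}
    {c : Fam (GmPts.unitsPre X) (Vo v) (Zo v B) (n + 1)} (hc : IsCoch (qo v B) (𝟙 (Vo v)) c)
    (hz : IsCocycle (qo v B) (𝟙 (Vo v)) c) (u : (Vo v).left) :
    ∃ (V : Over X) (g : V ⟶ Vo v), Etale g.left ∧ u ∈ Set.range g.left ∧
      ∃ b : Fam (GmPts.unitsPre X) V (Zo v B) n, IsCoch (qo v B) (g ≫ 𝟙 _) b ∧
        IsCob (qo v B) (g ≫ 𝟙 _) b (resF g c) := by
  have hD := DM_zz v hc hz
  obtain ⟨lam, hlam⟩ := exists_retraction hsurj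
  have hs := smooth_Q (n + 1) (zz v c) lam hlam hD
  obtain ⟨φ⟩ := exists_hom_B (n + 1) (zz v c) hD
  have hsm : Smooth (str A (Q (n + 1) (zz v c))) := by
    rw [HasRingHomProperty.Spec_iff (P := @Smooth)]
    exact (RingHom.smooth_algebraMap ).2 hs
  have hu : u ∈ Set.range (str A (Q (n + 1) (zz v c))) := by
    obtain ⟨w, hw⟩ := hsurj u
    refine ⟨Spec.map (CommRingCat.ofHom φ.toRingHom) w, ?_⟩
    have h1 : Spec.map (CommRingCat.ofHom φ.toRingHom) ≫ str A (Q (n + 1) (zz v c)) = str A B := by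
      rw [← Spec.map_comp]
      congr 1
      ext r
      exact φ.commutes r
    rw [← Scheme.Hom.comp_apply, h1]
    exact hw
  obtain ⟨S', g₀, s', hg, hgs, k, hk⟩ := Groth.Agent.FlatA.EtaleSections.exists_section _ u hu
  exact ⟨Over.mk (g₀ ≫ v), Over.homMk g₀ rfl, hg, ⟨s', hgs⟩,
    bb v (Over.homMk g₀ rfl) k hk (yP (bas (n + 1)) (bas (n + 1 + 1)) (d A B (n + 1)) (zz v c)),
    isCoch_bb v _ _ _ _, isCob_bb v _ _ _ _ hc (Dm_yP _ _ _ _)⟩

end Main

section General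

open Classical in
theorem exists_push {C : Type*} [Category* C] {P : Cᵒᵖ ⥤ AddCommGrpCat.{u}} {T' T U V₀ Z₀ V : C} {p : T' ⟶ T}
    {e : U ⟶ T} (jo : V₀ ⟶ U) {κ : Z₀ ⟶ T'} {q : Z₀ ⟶ V₀} (hpb : IsPullback κ q p (jo ≫ e)) (g : V ⟶ V₀) {n : ℕ}
    (b' : Fam P V Z₀ n) (hb' : IsCoch q (g ≫ 𝟙 _) b') :
    ∃ b : Fam P V T' n, IsCoch p ((g ≫ jo) ≫ e) b ∧ ∀ ⦃W : C⦄ (a : W ⟶ V) (x' : Fin (n + 1) → (W ⟶ Z₀)),
      Compat q (g ≫ 𝟙 _) a x' → b W a (fun i => x' i ≫ κ) = b' W a x' := by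
  have key : ∀ {W : C} (a : W ⟶ V) (x : Fin (n + 1) → (W ⟶ T')) (h : Compat p ((g ≫ jo) ≫ e) a x) (i : Fin (n + 1)),
      x i ≫ p = (a ≫ g) ≫ jo ≫ e := fun a x h i => by
    rw [h i]
    simp only [Category.assoc]
  let b : Fam P V T' n := fun W a x =>
    if h : Compat p ((g ≫ jo) ≫ e) a x then b' W a (fun i => hpb.lift (x i) (a ≫ g) (key a x h i)) else 0
  have hb : ∀ ⦃W : C⦄ (a : W ⟶ V) (x' : Fin (n + 1) → (W ⟶ Z₀)),
      Compat q (g ≫ 𝟙 _) a x' → b W a (fun i => x' i ≫ κ) = b' W a x' := by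
    intro W a x' h
    have h' : Compat p ((g ≫ jo) ≫ e) a (fun i => x' i ≫ κ) := fun i => by
      have := h i
      rw [Category.comp_id] at this
      rw [Category.assoc, hpb.w, ← Category.assoc, this]
      simp only [Category.assoc]
    simp only [b]
    rw [dif_pos h']
    congr 1
    funext i
    apply hpb.hom_ext
    · rw [hpb.lift_fst]
    · rw [hpb.lift_snd, h i, Category.comp_id]
  refine ⟨b, ?_, hb⟩
  intro W W' f a x h
  let x' : Fin (n + 1) → (W ⟶ Z₀) := fun i => hpb.lift (x i) (a ≫ g) (key a x h i)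
  have hx' : ∀ i, x' i ≫ κ = x i := fun i => hpb.lift_fst _ _ _
  have hc : Compat q (g ≫ 𝟙 _) a x' := fun i => by
    rw [Category.comp_id]
    exact hpb.lift_snd _ _ _
  have h6 : (fun i => x' i ≫ κ) = x := funext hx'
  have h1 := hb a x' hc
  rw [h6] at h1
  rw [h1, hb' f a x' hc]
  have h2 := hb (f ≫ a) (fun i => f ≫ x' i) (hc.comp f)
  rw [← h2]
  simp only [Category.assoc, hx']

theorem isCob_push {C : Type*} [Category* C] {P : Cᵒᵖ ⥤ AddCommGrpCat.{u}} {T' T U V₀ Z₀ V : C} {p : T' ⟶ T}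
    {e : U ⟶ T} (jo : V₀ ⟶ U) {κ : Z₀ ⟶ T'} {q : Z₀ ⟶ V₀} (hpb : IsPullback κ q p (jo ≫ e)) (g : V ⟶ V₀) {n : ℕ}
    (b' : Fam P V Z₀ n) (b : Fam P V T' n) (hbb : ∀ ⦃W : C⦄ (a : W ⟶ V) (x' : Fin (n + 1) → (W ⟶ Z₀)),
      Compat q (g ≫ 𝟙 _) a x' → b W a (fun i => x' i ≫ κ) = b' W a x')
    (c' : Fam P V₀ Z₀ (n + 1)) (c : Fam P U T' (n + 1))
    (hcc : ∀ ⦃W : C⦄ (a : W ⟶ V₀) (x' : Fin (n + 2) → (W ⟶ Z₀)), c' W a x' = c W (a ≫ jo) (fun i => x' i ≫ κ))
    (hbc' : IsCob q (g ≫ 𝟙 _) b' (resF g c')) : IsCob p ((g ≫ jo) ≫ e) b (resF (g ≫ jo) c) := by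
  intro W a x h
  have key : ∀ i, x i ≫ p = (a ≫ g) ≫ jo ≫ e := fun i => by
    rw [h i]
    simp only [Category.assoc]
  let x' : Fin (n + 2) → (W ⟶ Z₀) := fun i => hpb.lift (x i) (a ≫ g) (key i)
  have hx' : ∀ i, x' i ≫ κ = x i := fun i => hpb.lift_fst _ _ _
  have hc2 : Compat q (g ≫ 𝟙 _) a x' := fun i => by
    rw [Category.comp_id]
    exact hpb.lift_snd _ _ _
  have h6 : (fun i => x' i ≫ κ) = x := funext hx'
  have h5 : dS (b W a) (fun i => x' i ≫ κ) = dS (b' W a) x' :=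
    (dS_comp (fun y : W ⟶ Z₀ => y ≫ κ) (b W a) x').trans
      (dS_congr fun i => hbb a (fun k => x' (i.succAbove k)) (hc2.face i))
  rw [hbc' a x' hc2, h6] at h5
  refine h5.trans ?_
  rw [resF, resF, hcc, h6, Category.assoc]

/-- The presheaf of units is étale-locally Čech acyclic. -/
theorem ca_units (X : Scheme.{u}) : CA (GmPts.unitsPre X) := by
  intro T T' U p e hp n c hc hz u
  have h1 := hp.fin
  have h2 := hp.flat
  have h3 := hp.lfp
  have h4 := hp.surj
  obtain ⟨A, B, _, _, _, j, k, hfree, hfin, hj, ⟨u', hu'⟩, hpb⟩ :=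
    FreeChart.exists_chart (pullback.snd p.left e.left) u
  have hpb₀ : IsPullback (k ≫ pullback.fst p.left e.left) (str A B) p.left (j ≫ e.left) :=
    hpb.paste_horiz (IsPullback.of_hasPullback p.left e.left)
  have hsurj : Function.Surjective (PrimeSpectrum.comap (algebraMap A B)) := by
    have : Surjective (str A B) := MorphismProperty.of_isPullback (P := @Surjective) hpb₀ h4
    exact this.surj
  let v : Spec (CommRingCat.of A) ⟶ X := j ≫ U.hom
  let jo : Vo v ⟶ U := Over.homMk j rfl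
  let κ : Zo v B ⟶ T' := Over.homMk (k ≫ pullback.fst p.left e.left) (by
    rw [← Over.w p, ← Category.assoc, hpb₀.w, Category.assoc, Category.assoc, Over.w e]
    rfl)
  have hpbo : IsPullback κ (qo v B) p (jo ≫ e) := by
    have h0 : IsPullback ((Over.forget X).map κ) ((Over.forget X).map (qo v B)) ((Over.forget X).map p)
        ((Over.forget X).map (jo ≫ e)) := hpb₀
    exact IsPullback.of_map (Over.forget X) (by ext; exact hpb₀.w) h0
  let c' : Fam (GmPts.unitsPre X) (Vo v) (Zo v B) (n + 1) := fun W a x => c W (a ≫ jo) (fun i => x i ≫ κ)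
  have hcomp : ∀ {W : Over X} (a : W ⟶ Vo v) {m : ℕ} (x : Fin m → (W ⟶ Zo v B)), Compat (qo v B) (𝟙 (Vo v)) a x →
      Compat p e (a ≫ jo) (fun i => x i ≫ κ) := fun a m x h i => by
    have := h i
    rw [Category.comp_id] at this
    rw [Category.assoc, hpbo.w, ← Category.assoc, this, Category.assoc]
  have hc' : IsCoch (qo v B) (𝟙 (Vo v)) c' := by
    intro W W' f a x h
    have := hc f (a ≫ jo) (fun i => x i ≫ κ) (hcomp a x h)
    refine this.trans ?_
    simp only [c', Category.assoc]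
  have hz' : IsCocycle (qo v B) (𝟙 (Vo v)) c' := by
    intro W a x h
    exact hz (a ≫ jo) (fun i => x i ≫ κ) (hcomp a x h)
  obtain ⟨V, g, hg, ⟨w, hw⟩, b', hb', hbc'⟩ := affine_case v hsurj hc' hz' u'
  obtain ⟨b, hb, hbb⟩ := exists_push jo hpbo g b' hb'
  refine ⟨V, g ≫ jo, ?_, ⟨w, ?_⟩, b, hb, ?_⟩
  · rw [Over.comp_left]
    have : Etale jo.left := inferInstanceAs (Etale j)
    infer_instance
  · rw [Over.comp_left, Scheme.Hom.comp_apply, hw]
    exact hu'
  · exact isCob_push jo hpbo g b' b hbb c' c (fun _ _ _ => rfl) hbc'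

end General

end K998.GmCA
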