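import Groth.Agent.StCoh.K998.UnitRep
import Mathlib.Algebra.Category.CommAlgCat.Basic
import Mathlib.RingTheory.Spectrum.Prime.RingHom
import Mathlib.LinearAlgebra.FreeModule.Finite.Basic

/-!
# The Amitsur complex of units of a finite free algebra is étale-locally acyclic

`E n = B ⊗ (B ⊗ … ⊗ A)` (`n` factors), faces `d n i : E n → E (n+1)` (insert `1` at place `i`), evaluation at tuples
`ev n f : E n → R` for `f : Fin n → (B →ₐ[A] R)`.  For a cocycle `z ∈ (E (m+1))ˣ` the algebra `Q z` representing the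
cochains `y ∈ (E m)ˣ` with `D y = z` is smooth, and `Spec Q → Spec A` is surjective if `Spec B → Spec A` is.
-/

set_option autoImplicit false
set_option linter.unusedSectionVars false
set_option backward.isDefEq.respectTransparency false
set_option backward.isDefEq.respectTransparency.types false

universe u v w

open TensorProduct

namespace K998.Amitsur

open UnitCx

variable (A B : Type u) [CommRing A] [CommRing B] [Algebra A B]

/-- `B ⊗ (B ⊗ … ⊗ A)` -/
noncomputable def E : ℕ → CommAlgCat.{u} A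
  | 0 => CommAlgCat.of A A
  | n + 1 => CommAlgCat.of A (B ⊗[A] (E n))

/-- faces -/
noncomputable def d : (n : ℕ) → Fin (n + 1) → (E A B n →ₐ[A] E A B (n + 1))
  | 0, _ => (Algebra.TensorProduct.includeRight : E A B 0 →ₐ[A] B ⊗[A] E A B 0)
  | n + 1, i => Fin.cases (motive := fun _ => E A B (n + 1) →ₐ[A] E A B (n + 1 + 1))
      (Algebra.TensorProduct.includeRight : E A B (n + 1) →ₐ[A] B ⊗[A] E A B (n + 1))
      (fun i => (Algebra.TensorProduct.map (AlgHom.id A B) (d n i) : B ⊗[A] E A B n →ₐ[A] B ⊗[A] E A B (n + 1))) i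

theorem d_zero (n : ℕ) : d A B n 0 = (Algebra.TensorProduct.includeRight : E A B n →ₐ[A] B ⊗[A] E A B n) := by
  cases n <;> rfl

theorem d_succ (n : ℕ) (i : Fin (n + 1)) : d A B (n + 1) i.succ =
    (Algebra.TensorProduct.map (AlgHom.id A B) (d A B n i) : B ⊗[A] E A B n →ₐ[A] B ⊗[A] E A B (n + 1)) := rfl

theorem d_zero_apply (n : ℕ) (x : E A B n) : d A B n 0 x = (1 : B) ⊗ₜ[A] x := by
  rw [d_zero]; rfl

theorem d_succ_tmul (n : ℕ) (i : Fin (n + 1)) (b : B) (x : E A B n) :
    d A B (n + 1) i.succ (b ⊗ₜ[A] x) = b ⊗ₜ[A] (d A B n i x) := rfl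


theorem simpl_apply : ∀ (n : ℕ) (j : Fin (n + 2)) (i : Fin (n + 1)) (x : E A B n),
    d A B (n + 1) j (d A B n i x) = d A B (n + 1) (j.succAbove i) (d A B n (i.predAbove j) x)
  | n, j, i, x => by
    induction j using Fin.cases with
    | zero =>
      rw [Fin.succAbove_zero, Fin.predAbove_right_zero, d_zero_apply, d_zero_apply]
      rfl
    | succ j' =>
      induction i using Fin.cases with
      | zero =>
        rw [Fin.succ_succAbove_zero, Fin.predAbove_zero_succ, d_zero_apply, d_zero_apply]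
        rfl
      | succ i' =>
        match n, j', i', x with
        | n' + 1, j', i', x =>
          rw [Fin.succ_succAbove_succ, Fin.succ_predAbove_succ]
          induction x using TensorProduct.induction_on with
          | zero => simp
          | tmul b e =>
            change b ⊗ₜ[A] (d A B (n' + 1) j' (d A B n' i' e)) =
              b ⊗ₜ[A] (d A B (n' + 1) (j'.succAbove i') (d A B n' (i'.predAbove j') e))
            rw [simpl_apply n' j' i' e]
          | add x y hx hy => rw [map_add, map_add, map_add, map_add, hx, hy]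

/-- cosimplicial identities -/
theorem simpl (n : ℕ) : Simpl (d A B n) (d A B (n + 1)) := fun j i =>
  AlgHom.ext fun x => simpl_apply A B n j i x

section Ev

variable {A B} {R : Type w} [CommRing R] [Algebra A R]

/-- Evaluation at a tuple of points. -/
noncomputable def ev : (n : ℕ) → (Fin n → (B →ₐ[A] R)) → (E A B n →ₐ[A] R)
  | 0, _ => (Algebra.ofId A R : A →ₐ[A] R)
  | n + 1, f => (Algebra.TensorProduct.lift (f 0) (ev n (fun i => f i.succ)) (fun _ _ => Commute.all _ _) :
      B ⊗[A] E A B n →ₐ[A] R)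

theorem ev_succ_tmul (n : ℕ) (f : Fin (n + 1) → (B →ₐ[A] R)) (b : B) (x : E A B n) :
    ev (n + 1) f (b ⊗ₜ[A] x) = f 0 b * ev n (fun i => f i.succ) x := rfl

theorem ev_d_apply : ∀ (n : ℕ) (f : Fin (n + 1) → (B →ₐ[A] R)) (i : Fin (n + 1)) (x : E A B n),
    ev (n + 1) f (d A B n i x) = ev n (fun k => f (i.succAbove k)) x
  | n, f, i, x => by
    induction i using Fin.cases with
    | zero =>
      rw [d_zero_apply, ev_succ_tmul, map_one, one_mul]
      simp only [Fin.succAbove_zero]
    | succ i' =>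
      match n, i', x with
      | n' + 1, i', x =>
        induction x using TensorProduct.induction_on with
        | zero => simp
        | tmul b e =>
          change f 0 b * ev (n' + 1) (fun k => f k.succ) (d A B n' i' e) =
            f (i'.succ.succAbove 0) b * ev n' (fun k => f (i'.succ.succAbove k.succ)) e
          rw [ev_d_apply n' _ i' e, Fin.succ_succAbove_zero]
          simp only [Fin.succ_succAbove_succ]
        | add x y hx hy => rw [map_add, map_add, map_add, hx, hy]

theorem ev_comp_apply {R' : Type w} [CommRing R'] [Algebra A R'] (g : R →ₐ[A] R') : ∀ (n : ℕ)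
    (f : Fin n → (B →ₐ[A] R)) (x : E A B n), g (ev n f x) = ev n (fun i => g.comp (f i)) x
  | 0, f, x => g.commutes x
  | n + 1, f, x => by
    induction x using TensorProduct.induction_on with
    | zero => simp
    | tmul b e =>
      rw [ev_succ_tmul, ev_succ_tmul, map_mul, ev_comp_apply g n _ e]
      rfl
    | add x y hx hy => rw [map_add, map_add, map_add, hx, hy]

/-- The universal tuple. -/
noncomputable def un : (n : ℕ) → (Fin n → (B →ₐ[A] E A B n))
  | 0, i => i.elim0
  | n + 1, i => Fin.cases (motive := fun _ => B →ₐ[A] E A B (n + 1))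
      (Algebra.TensorProduct.includeLeft : B →ₐ[A] B ⊗[A] E A B n)
      (fun i => (Algebra.TensorProduct.includeRight : E A B n →ₐ[A] B ⊗[A] E A B n).comp (un n i)) i

theorem ev_un_apply : ∀ (n : ℕ) (x : E A B n), ev n (un (A := A) (B := B) n) x = x
  | 0, x => rfl
  | n + 1, x => by
    induction x using TensorProduct.induction_on with
    | zero => simp
    | tmul b e =>
      rw [ev_succ_tmul]
      change (b ⊗ₜ[A] (1 : E A B n)) * ev (R := B ⊗[A] E A B n) n
        (fun i => (Algebra.TensorProduct.includeRight : E A B n →ₐ[A] B ⊗[A] E A B n).comp (un n i)) e = b ⊗ₜ[A] e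
      rw [← ev_comp_apply, ev_un_apply n e]
      simp
    | add x y hx hy => rw [map_add, hx, hy]

end Ev

section Contraction

variable {A B} (lam : B →ₗ[A] A)

/-- the contraction -/
noncomputable def s (n : ℕ) : E A B (n + 1) →ₗ[A] E A B n :=
  (TensorProduct.lid A (E A B n)).toLinearMap ∘ₗ
    (LinearMap.rTensor (E A B n) lam : B ⊗[A] E A B n →ₗ[A] A ⊗[A] E A B n)

theorem s_tmul (n : ℕ) (b : B) (x : E A B n) : s lam n (b ⊗ₜ[A] x) = lam b • x := rfl

theorem s_d_zero (h1 : lam 1 = 1) (n : ℕ) (x : E A B n) : s lam n (d A B n 0 x) = x := by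
  rw [d_zero_apply, s_tmul, h1, one_smul]

theorem s_d_succ (n : ℕ) (i : Fin (n + 1)) (x : E A B (n + 1)) :
    s lam (n + 1) (d A B (n + 1) i.succ x) = d A B n i (s lam n x) := by
  induction x using TensorProduct.induction_on with
  | zero => simp
  | tmul b e =>
    rw [s_tmul, map_smul]
    rfl
  | add x y hx hy => rw [map_add, map_add, map_add, map_add, hx, hy]

theorem contraction (h1 : lam 1 = 1) (n : ℕ) (x : E A B (n + 1)) :
    alt (fun i => ((d A B n i : E A B n →+* E A B (n + 1)) : E A B n →+ E A B (n + 1))) (s lam n x) +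
      s lam (n + 1) (alt (fun i => ((d A B (n + 1) i : E A B (n + 1) →+* E A B (n + 1 + 1)) :
        E A B (n + 1) →+ E A B (n + 1 + 1))) x) = x := by
  have h := alt_comp_left (fun i => ((d A B (n + 1) i : E A B (n + 1) →+* E A B (n + 1 + 1)) :
        E A B (n + 1) →+ E A B (n + 1 + 1))) (s lam (n + 1)).toAddMonoidHom x
  change s lam (n + 1) _ = _ at h
  have e0 : ((-1 : ℤ) ^ ((0 : Fin (n + 2)) : ℕ)) • ((s lam (n + 1)).toAddMonoidHom.comp
      ((d A B (n + 1) 0 : E A B (n + 1) →+* E A B (n + 1 + 1)) : E A B (n + 1) →+ E A B (n + 1 + 1))) x = x := by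
    rw [Fin.val_zero, pow_zero, one_smul]
    exact s_d_zero lam h1 (n + 1) x
  have e1 : ∀ i : Fin (n + 1), ((-1 : ℤ) ^ ((i.succ : Fin (n + 2)) : ℕ)) • ((s lam (n + 1)).toAddMonoidHom.comp
      ((d A B (n + 1) i.succ : E A B (n + 1) →+* E A B (n + 1 + 1)) : E A B (n + 1) →+ E A B (n + 1 + 1))) x =
      - ((-1 : ℤ) ^ (i : ℕ) • (((d A B n i : E A B n →+* E A B (n + 1)) : E A B n →+ E A B (n + 1))) (s lam n x)) := by
    intro i
    rw [Fin.val_succ, pow_succ, mul_neg_one, neg_smul]
    exact congrArg (fun y => - ((-1 : ℤ) ^ (i : ℕ) • y)) (s_d_succ lam n i x)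
  have h2 : s lam (n + 1) (alt (fun i => ((d A B (n + 1) i : E A B (n + 1) →+* E A B (n + 1 + 1)) :
        E A B (n + 1) →+ E A B (n + 1 + 1))) x) = x +
      ∑ i : Fin (n + 1), - ((-1 : ℤ) ^ (i : ℕ) •
        (((d A B n i : E A B n →+* E A B (n + 1)) : E A B n →+ E A B (n + 1))) (s lam n x)) := by
    rw [h, alt_apply, Fin.sum_univ_succ, e0]
    exact congrArg (x + ·) (Finset.sum_congr rfl fun i _ => e1 i)
  rw [h2, alt_apply, Finset.sum_neg_distrib]
  abel

end Contraction

section Free

variable {A B} [Module.Free A B] [Module.Finite A B]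

theorem free_E : ∀ n : ℕ, Module.Free A (E A B n) ∧ Module.Finite A (E A B n)
  | 0 => ⟨inferInstanceAs (Module.Free A A), inferInstanceAs (Module.Finite A A)⟩
  | n + 1 => by
    obtain ⟨h1, h2⟩ := free_E n
    exact ⟨inferInstanceAs (Module.Free A (B ⊗[A] E A B n)), inferInstanceAs (Module.Finite A (B ⊗[A] E A B n))⟩

instance (n : ℕ) : Module.Free A (E A B n) := (free_E n).1

instance (n : ℕ) : Module.Finite A (E A B n) := (free_E n).2

variable (m : ℕ) (z : Additive (E A B (m + 1))ˣ)

/-- basis of `E n` -/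
noncomputable abbrev bas (n : ℕ) : Module.Basis (Module.Free.ChooseBasisIndex A (E A B n)) A (E A B n) :=
  Module.Free.chooseBasis A (E A B n)

/-- The representing algebra. -/
abbrev Q : Type u := P (bas (A := A) (B := B) m) (bas (m + 1)) (d A B m) z

/-- multiplicative differential -/
noncomputable abbrev DM (n : ℕ) : Additive (E A B n)ˣ →+ Additive (E A B (n + 1))ˣ :=
  alt (fun i => um ((d A B n i : E A B n →+* E A B (n + 1)) : E A B n →* E A B (n + 1)))

theorem smooth_Q (lam : B →ₗ[A] A) (h1 : lam 1 = 1) (hz : DM (m + 1) z = 0) : Algebra.Smooth A (Q m z) :=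
  smooth_P (bas m) (bas (m + 1)) (simpl A B m) (s lam m) (s lam (m + 1)) (contraction lam h1 m) z hz

/-- the cochain over `B` given by `z` itself -/
theorem Dm_self (hz : DM (m + 1) z = 0) :
    Dm B (d A B m) (show Additive (B ⊗[A] E A B m)ˣ from z) = zB B z := by
  have e2 : ∀ i : Fin (m + 1), ((-1 : ℤ) ^ ((i.succ : Fin (m + 2)) : ℕ)) •
      (um ((d A B (m + 1) i.succ : E A B (m + 1) →+* E A B (m + 1 + 1)) : E A B (m + 1) →* E A B (m + 1 + 1)) z) =
      -(((-1 : ℤ) ^ (i : ℕ)) • (show Additive (E A B (m + 1 + 1))ˣ from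
        (um ((bc B (d A B m i) : B ⊗[A] E A B m →+* B ⊗[A] E A B (m + 1)) : B ⊗[A] E A B m →* B ⊗[A] E A B (m + 1))
          (show Additive (B ⊗[A] E A B m)ˣ from z)))) := by
    intro i
    rw [Fin.val_succ, pow_succ, mul_neg_one, neg_smul]
    rfl
  have e1 : ((-1 : ℤ) ^ ((0 : Fin (m + 2)) : ℕ)) •
      (um ((d A B (m + 1) 0 : E A B (m + 1) →+* E A B (m + 1 + 1)) : E A B (m + 1) →* E A B (m + 1 + 1)) z) =
      (show Additive (E A B (m + 1 + 1))ˣ from zB B z) := by
    rw [Fin.val_zero, pow_zero, one_smul]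
    rfl
  rw [DM, alt_apply, Fin.sum_univ_succ, e1, Finset.sum_congr rfl fun i _ => e2 i, Finset.sum_neg_distrib,
    ← sub_eq_add_neg, sub_eq_zero] at hz
  refine Eq.trans ?_ hz.symm
  exact alt_apply _ _

theorem exists_hom_B (hz : DM (m + 1) z = 0) : Nonempty (Q m z →ₐ[A] B) := by
  obtain ⟨φ, -⟩ := exists_hom (bas (A := A) (B := B) m) (bas (m + 1)) (d A B m) z
    (show Additive (B ⊗[A] E A B m)ˣ from z) (Dm_self m z hz)
  exact ⟨φ⟩

end Free

section Retraction

/-- A retraction exists if `Spec B → Spec A` is surjective. -/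
theorem exists_retraction {A B : Type u} [CommRing A] [CommRing B] [Algebra A B] [Module.Free A B]
    [Module.Finite A B] (h : Function.Surjective (PrimeSpectrum.comap (algebraMap A B))) :
    ∃ lam : B →ₗ[A] A, lam 1 = 1 := by
  classical
  let b := Module.Free.chooseBasis A B
  let J : Ideal A := Ideal.span (Set.range fun i => b.repr 1 i)
  have hJ : J = ⊤ := by
    by_contra hJ
    obtain ⟨M, hM, hJM⟩ := Ideal.exists_le_maximal J hJ
    obtain ⟨q, hq⟩ := h ⟨M, hM.isPrime⟩
    have h1 : (1 : B) ∈ q.asIdeal := by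
      rw [← b.sum_repr 1]
      refine Ideal.sum_mem _ fun i _ => ?_
      rw [Algebra.smul_def]
      refine Ideal.mul_mem_right _ _ ?_
      have h2 : b.repr 1 i ∈ M := hJM (Ideal.subset_span ⟨i, rfl⟩)
      have h3 : (PrimeSpectrum.comap (algebraMap A B) q).asIdeal = M := by rw [hq]
      rw [← h3] at h2
      exact h2
    exact q.isPrime.ne_top ((Ideal.eq_top_iff_one _).2 h1)
  have h1 : (1 : A) ∈ J := hJ ▸ Submodule.mem_top
  obtain ⟨c, hc⟩ := (Ideal.mem_span_range_iff_exists_fun).1 h1
  refine ⟨∑ i, c i • (b.coord i : B →ₗ[A] A), ?_⟩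
  rw [LinearMap.sum_apply, ← hc]
  rfl

end Retraction

end K998.Amitsur
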