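import Mathlib.RingTheory.Smooth.Basic
import Mathlib.RingTheory.TensorProduct.Free
import Mathlib.RingTheory.TensorProduct.Maps
import Mathlib.LinearAlgebra.TensorProduct.RightExactness
import Mathlib.Algebra.Group.Units.Hom
import Mathlib.Order.Fin.Basic

/-!
# Unit complexes: lifting of cochains along square-zero ideals

`um f : Additive Cˣ →+ Additive C'ˣ`; `alt d = ∑ (-1)^i d_i`.

Data: `A`-algebras `C₀, C₁, C₂`, algebra maps `d₀ i : C₀ → C₁`, `d₁ j : C₁ → C₂` satisfying the cosimplicial identities,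
and `A`-linear `s₁ : C₁ → C₀`, `s₂ : C₂ → C₁` with `D s₁ + s₂ D = id`.  For a unit `z` of `C₁` with `D z = 1` the functor
`B ↦ {y ∈ (B ⊗ C₀)ˣ | D y = z}` on `A`-algebras has the lifting property along square-zero ideals (`exists_lift`).
-/

set_option autoImplicit false

universe u v w

open TensorProduct

namespace K998.UnitCx

section Alt

variable {M₀ M₁ M₂ : Type*} [AddCommGroup M₀] [AddCommGroup M₁] [AddCommGroup M₂]

/-- alternating sum of a family of homomorphisms -/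
def alt {n : ℕ} (d : Fin n → M₀ →+ M₁) : M₀ →+ M₁ := ∑ i : Fin n, (-1 : ℤ) ^ (i : ℕ) • d i

theorem alt_apply {n : ℕ} (d : Fin n → M₀ →+ M₁) (x : M₀) :
    alt d x = ∑ i : Fin n, (-1 : ℤ) ^ (i : ℕ) • d i x := by
  simp [alt]

theorem val_add_val {n : ℕ} (i : Fin (n + 2)) (j : Fin (n + 1)) :
    (-1 : ℤ) ^ ((i.succAbove j : Fin (n + 2)) : ℕ) * (-1 : ℤ) ^ ((j.predAbove i : Fin (n + 1)) : ℕ) =
      - ((-1 : ℤ) ^ (i : ℕ) * (-1 : ℤ) ^ (j : ℕ)) := by
  rw [← pow_add, ← pow_add]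
  rcases lt_or_ge j.castSucc i with h | h
  · have h1 : ((i.succAbove j : Fin (n + 2)) : ℕ) = j := by
      rw [Fin.succAbove_of_castSucc_lt _ _ h]; rfl
    have h2 : ((j.predAbove i : Fin (n + 1)) : ℕ) = i - 1 := by
      rw [Fin.predAbove_of_castSucc_lt _ _ h]; rfl
    have h3 : (j : ℕ) < i := h
    rw [h1, h2, show (i : ℕ) + j = (j + (i - 1)) + 1 by omega, pow_succ, mul_neg_one, neg_neg]
  · have h1 : ((i.succAbove j : Fin (n + 2)) : ℕ) = j + 1 := by
      rw [Fin.succAbove_of_le_castSucc _ _ h]; rfl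
    have h2 : ((j.predAbove i : Fin (n + 1)) : ℕ) = i := by
      rw [Fin.predAbove_of_le_castSucc _ _ h]; rfl
    rw [h1, h2, show (j : ℕ) + 1 + i = (i + j) + 1 by omega, pow_succ, mul_neg_one]

/-- `D D = 0`. -/
theorem alt_alt {n : ℕ} (d₀ : Fin (n + 1) → M₀ →+ M₁) (d₁ : Fin (n + 2) → M₁ →+ M₂)
    (hd : ∀ (j : Fin (n + 2)) (i : Fin (n + 1)) (y : M₀),
      d₁ j (d₀ i y) = d₁ (j.succAbove i) (d₀ (i.predAbove j) y)) (y : M₀) : alt d₁ (alt d₀ y) = 0 := by
  simp only [alt_apply, map_sum, map_zsmul, Finset.smul_sum, smul_smul]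
  rw [← Finset.sum_product']
  refine Finset.sum_involution (fun ij _ => (ij.1.predAbove ij.2, ij.2.succAbove ij.1)) ?_ ?_
    (fun _ _ => Finset.mem_univ _) ?_
  · rintro ⟨i, j⟩ -
    dsimp only
    rw [← hd j i, ← add_smul, mul_comm ((-1 : ℤ) ^ ((i.predAbove j : Fin (n + 1)) : ℕ)), val_add_val,
      mul_comm ((-1 : ℤ) ^ (i : ℕ))]
    simp
  · rintro ⟨i, j⟩ - - h
    have h1 : j.succAbove i = j := congrArg Prod.snd h
    exact Fin.succAbove_ne _ _ h1
  · rintro ⟨i, j⟩ -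
    exact Prod.ext (Fin.predAbove_predAbove_succAbove j i) (Fin.succAbove_succAbove_predAbove j i)

theorem alt_comp_left {n : ℕ} (d : Fin n → M₀ →+ M₁) (f : M₁ →+ M₂) (x : M₀) :
    f (alt d x) = alt (fun i => f.comp (d i)) x := by
  simp [alt_apply]

theorem alt_congr {n : ℕ} {d : Fin n → M₀ →+ M₁} {d' : Fin n → M₂ →+ M₁} {x : M₀} {y : M₂}
    (h : ∀ i, d i x = d' i y) : alt d x = alt d' y := by
  simp only [alt_apply, h]

end Alt

section Units

variable {C C' C'' : Type*} [CommRing C] [CommRing C'] [CommRing C'']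

/-- The map on units, additively. -/
def um (f : C →* C') : Additive Cˣ →+ Additive C'ˣ := MonoidHom.toAdditive (Units.map f)

theorem um_apply (f : C →* C') (x : Additive Cˣ) : um f x = Additive.ofMul (Units.map f x.toMul) := rfl

theorem val_um (f : C →* C') (x : Additive Cˣ) : ((um f x).toMul : C') = f (x.toMul : C) := rfl

theorem um_um (f : C →* C') (g : C' →* C'') (x : Additive Cˣ) : um g (um f x) = um (g.comp f) x := rfl

/-- products of the even / odd faces -/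
def ev {n : ℕ} (d : Fin n → C →* C') (y : C) : C' := ∏ i : Fin n, if Even (i : ℕ) then d i y else 1

/-- products of the odd faces -/
def od {n : ℕ} (d : Fin n → C →* C') (y : C) : C' := ∏ i : Fin n, if Even (i : ℕ) then 1 else d i y

theorem toMul_alt {n : ℕ} (d : Fin n → C →* C') (y : Additive Cˣ) :
    (alt (fun i => um (d i)) y).toMul = ∏ i : Fin n, (Units.map (d i) y.toMul) ^ ((-1 : ℤ) ^ (i : ℕ)) := by
  rw [alt_apply, toMul_sum]
  rfl

theorem alt_eq_iff {n : ℕ} (d : Fin n → C →* C') (y : Additive Cˣ) (z : Additive C'ˣ) :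
    alt (fun i => um (d i)) y = z ↔ ev d (y.toMul : C) = (z.toMul : C') * od d (y.toMul : C) := by
  have h1 : (ev d (y.toMul : C)) = ((∏ i : Fin n, if Even (i : ℕ) then Units.map (d i) y.toMul else 1 : C'ˣ) : C') := by
    rw [ev, Units.coe_prod]
    refine Finset.prod_congr rfl fun i _ => ?_
    split_ifs <;> rfl
  have h2 : (od d (y.toMul : C)) = ((∏ i : Fin n, if Even (i : ℕ) then 1 else Units.map (d i) y.toMul : C'ˣ) : C') := by
    rw [od, Units.coe_prod]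
    refine Finset.prod_congr rfl fun i _ => ?_
    split_ifs <;> rfl
  rw [h1, h2, ← Units.val_mul, Units.val_inj, ← Additive.toMul.injective.eq_iff, toMul_alt, ← div_eq_iff_eq_mul,
    ← Finset.prod_div_distrib]
  refine Eq.congr (Finset.prod_congr rfl fun i _ => ?_) rfl
  split_ifs with h
  · rw [h.neg_one_pow, zpow_one, div_one]
  · rw [(Nat.not_even_iff_odd.1 h).neg_one_pow, zpow_neg_one, one_div]

/-- First order expansion of a product. -/
theorem toMul_alt_one_add {n : ℕ} (d : Fin n → C →+* C') (y : Additive Cˣ) (h : C) (hy : (y.toMul : C) = 1 + h)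
    (h0 : ∀ i j, d i h * d j h = 0) :
    ((alt (fun i => um (d i : C →* C')) y).toMul : C') = 1 + alt (fun i => (d i : C →+ C')) h := by
  have key : ∀ s : Finset (Fin n), ((∏ i ∈ s, (Units.map (d i : C →* C') y.toMul) ^ ((-1 : ℤ) ^ (i : ℕ)) : C'ˣ) : C') =
      1 + ∑ i ∈ s, (-1 : ℤ) ^ (i : ℕ) • d i h := by
    intro s
    induction s using Finset.induction_on with
    | empty => simp
    | insert a s ha ih =>
      rw [Finset.prod_insert ha, Units.val_mul, ih, Finset.sum_insert ha]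
      have h1 : (((Units.map (d a : C →* C') y.toMul) ^ ((-1 : ℤ) ^ (a : ℕ)) : C'ˣ) : C') =
          1 + (-1 : ℤ) ^ (a : ℕ) • d a h := by
        rcases Nat.even_or_odd (a : ℕ) with he | ho
        · rw [he.neg_one_pow, zpow_one, one_smul]
          change d a (y.toMul : C) = _
          rw [hy, map_add, map_one]
        · rw [ho.neg_one_pow, zpow_neg_one, neg_smul, one_smul]
          apply Units.inv_eq_of_mul_eq_one_right
          change d a (y.toMul : C) * _ = _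
          rw [hy, map_add, map_one]
          linear_combination - h0 a a
      rw [h1]
      have h2 : ((-1 : ℤ) ^ (a : ℕ) • d a h) * ∑ i ∈ s, (-1 : ℤ) ^ (i : ℕ) • d i h = 0 := by
        rw [Finset.mul_sum]
        refine Finset.sum_eq_zero fun i _ => ?_
        rw [smul_mul_smul_comm, h0, smul_zero]
      linear_combination h2
  rw [toMul_alt, key, alt_apply]
  rfl

end Units

section Tensor

variable {A : Type u} [CommRing A] {C₀ C₁ C₂ : Type v} [CommRing C₀] [CommRing C₁] [CommRing C₂]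
  [Algebra A C₀] [Algebra A C₁] [Algebra A C₂]

/-- Base change of the coefficient algebra: `B ⊗ C → B' ⊗ C`. -/
noncomputable abbrev cf (C : Type v) [CommRing C] [Algebra A C] {B B' : Type w} [CommRing B] [CommRing B']
    [Algebra A B] [Algebra A B'] (φ : B →ₐ[A] B') : B ⊗[A] C →ₐ[A] B' ⊗[A] C :=
  Algebra.TensorProduct.map φ (AlgHom.id A C)

/-- Base change of a face map. -/
noncomputable abbrev bc (B : Type w) [CommRing B] [Algebra A B] (f : C₀ →ₐ[A] C₁) : B ⊗[A] C₀ →ₐ[B] B ⊗[A] C₁ :=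
  Algebra.TensorProduct.map (AlgHom.id B B) f

/-- the cosimplicial identities -/
def Simpl {n : ℕ} (d₀ : Fin (n + 1) → C₀ →ₐ[A] C₁) (d₁ : Fin (n + 2) → C₁ →ₐ[A] C₂) : Prop :=
  ∀ (j : Fin (n + 2)) (i : Fin (n + 1)), (d₁ j).comp (d₀ i) = (d₁ (j.succAbove i)).comp (d₀ (i.predAbove j))

/-- the additive differential after base change -/
noncomputable abbrev Da {n : ℕ} (B : Type w) [CommRing B] [Algebra A B] (d : Fin n → C₀ →ₐ[A] C₁) :
    B ⊗[A] C₀ →+ B ⊗[A] C₁ := alt (fun i => ((bc B (d i) : B ⊗[A] C₀ →+* B ⊗[A] C₁) : B ⊗[A] C₀ →+ B ⊗[A] C₁))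

/-- the multiplicative differential after base change -/
noncomputable abbrev Dm {n : ℕ} (B : Type w) [CommRing B] [Algebra A B] (d : Fin n → C₀ →ₐ[A] C₁) :
    Additive (B ⊗[A] C₀)ˣ →+ Additive (B ⊗[A] C₁)ˣ :=
  alt (fun i => um ((bc B (d i) : B ⊗[A] C₀ →+* B ⊗[A] C₁) : B ⊗[A] C₀ →* B ⊗[A] C₁))

/-- the map `Cˣ → (B ⊗ C)ˣ` -/
noncomputable abbrev zBh {C : Type v} [CommRing C] [Algebra A C] (B : Type w) [CommRing B] [Algebra A B] :
    Additive Cˣ →+ Additive (B ⊗[A] C)ˣ :=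
  um (((Algebra.TensorProduct.includeRight : C →ₐ[A] B ⊗[A] C) : C →+* B ⊗[A] C) : C →* B ⊗[A] C)

/-- the image of a unit of `C` in `B ⊗ C` -/
noncomputable abbrev zB {C : Type v} [CommRing C] [Algebra A C] (B : Type w) [CommRing B] [Algebra A B]
    (z : Additive Cˣ) : Additive (B ⊗[A] C)ˣ := zBh B z

theorem bc_bc {n : ℕ} {d₀ : Fin (n + 1) → C₀ →ₐ[A] C₁} {d₁ : Fin (n + 2) → C₁ →ₐ[A] C₂} (hd : Simpl d₀ d₁)
    (B : Type w) [CommRing B] [Algebra A B] (j : Fin (n + 2)) (i : Fin (n + 1)) (x : B ⊗[A] C₀) :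
    bc B (d₁ j) (bc B (d₀ i) x) = bc B (d₁ (j.succAbove i)) (bc B (d₀ (i.predAbove j)) x) := by
  induction x with
  | zero => simp
  | tmul b c => simpa using congrArg (b ⊗ₜ[A] ·) (DFunLike.congr_fun (hd j i) c)
  | add x y hx hy => simp only [map_add, hx, hy]

theorem Dm_Dm {n : ℕ} {d₀ : Fin (n + 1) → C₀ →ₐ[A] C₁} {d₁ : Fin (n + 2) → C₁ →ₐ[A] C₂} (hd : Simpl d₀ d₁)
    (B : Type w) [CommRing B] [Algebra A B] (y : Additive (B ⊗[A] C₀)ˣ) : Dm B d₁ (Dm B d₀ y) = 0 := by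
  refine alt_alt _ _ (fun j i y => ?_) y
  apply Additive.toMul.injective
  ext
  exact bc_bc hd B j i _

theorem cf_bc {B B' : Type w} [CommRing B] [CommRing B'] [Algebra A B] [Algebra A B'] (φ : B →ₐ[A] B')
    (f : C₀ →ₐ[A] C₁) (x : B ⊗[A] C₀) : cf C₁ φ (bc B f x) = bc B' f (cf C₀ φ x) := by
  induction x with
  | zero => simp
  | tmul b c => simp
  | add x y hx hy => simp only [map_add, hx, hy]

/-- The map on units induced by a change of coefficients. -/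
noncomputable abbrev cfu (C : Type v) [CommRing C] [Algebra A C] {B B' : Type w} [CommRing B] [CommRing B']
    [Algebra A B] [Algebra A B'] (φ : B →ₐ[A] B') : Additive (B ⊗[A] C)ˣ →+ Additive (B' ⊗[A] C)ˣ :=
  um ((cf C φ : B ⊗[A] C →+* B' ⊗[A] C) : B ⊗[A] C →* B' ⊗[A] C)

theorem cfu_Dm {n : ℕ} {B B' : Type w} [CommRing B] [CommRing B'] [Algebra A B] [Algebra A B'] (φ : B →ₐ[A] B')
    (d : Fin n → C₀ →ₐ[A] C₁) (y : Additive (B ⊗[A] C₀)ˣ) : cfu C₁ φ (Dm B d y) = Dm B' d (cfu C₀ φ y) := by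
  rw [alt_comp_left]
  rw [alt_apply, alt_apply]
  refine Finset.sum_congr rfl fun i _ => congrArg _ ?_
  apply Additive.toMul.injective
  ext
  exact cf_bc φ (d i) _

theorem cfu_zB {B B' : Type w} [CommRing B] [CommRing B'] [Algebra A B] [Algebra A B'] (φ : B →ₐ[A] B')
    (z : Additive C₁ˣ) : cfu C₁ φ (zB B z) = zB B' z := by
  apply Additive.toMul.injective
  ext
  change cf C₁ φ ((1 : B) ⊗ₜ[A] (z.toMul : C₁)) = 1 ⊗ₜ[A] (z.toMul : C₁)
  simp

theorem Dm_zB {n : ℕ} (B : Type w) [CommRing B] [Algebra A B] (d : Fin n → C₁ →ₐ[A] C₂) (z : Additive C₁ˣ)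
    (hz : alt (fun i => um ((d i : C₁ →+* C₂) : C₁ →* C₂)) z = 0) : Dm B d (zB B z) = 0 := by
  have h : Dm B d (zB B z) = zB B (alt (fun i => um ((d i : C₁ →+* C₂) : C₁ →* C₂)) z) := by
    refine Eq.trans ?_ (alt_comp_left (fun i => um ((d i : C₁ →+* C₂) : C₁ →* C₂)) (zBh B) z).symm
    rw [alt_apply, alt_apply]
    refine Finset.sum_congr rfl fun i _ => congrArg _ ?_
    apply Additive.toMul.injective
    ext
    change bc B (d i) ((1 : B) ⊗ₜ[A] (z.toMul : C₁)) = 1 ⊗ₜ[A] (d i (z.toMul : C₁))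
    simp
  rw [h, hz]
  exact map_zero (zBh B)

section Lift

variable (C : Type v) [CommRing C] [Algebra A C] {B : Type w} [CommRing B] [Algebra A B] (I : Ideal B)

theorem ker_cf : RingHom.ker (cf C (Ideal.Quotient.mkₐ A I)) = I.map (algebraMap B (B ⊗[A] C)) := by
  have h := Algebra.TensorProduct.rTensor_ker (R := A) (C := C) (Ideal.Quotient.mkₐ A I)
    (Ideal.Quotient.mkₐ_surjective A I)
  have h' : RingHom.ker (Ideal.Quotient.mkₐ A I) = I := Ideal.Quotient.mkₐ_ker A I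
  rw [h'] at h
  exact h

theorem mul_eq_zero_of_mem {I : Ideal B} (hI : I ^ 2 = ⊥) {x y : B ⊗[A] C} (hx : x ∈ I.map (algebraMap B (B ⊗[A] C)))
    (hy : y ∈ I.map (algebraMap B (B ⊗[A] C))) : x * y = 0 := by
  have h : x * y ∈ (I.map (algebraMap B (B ⊗[A] C))) ^ 2 := by
    rw [pow_two]
    exact Ideal.mul_mem_mul hx hy
  rw [← Ideal.map_pow, hI, Ideal.map_bot] at h
  exact h

variable {C}

theorem linear_mem {C' : Type v} [CommRing C'] [Algebra A C'] (f : B ⊗[A] C →ₗ[B] B ⊗[A] C') {x : B ⊗[A] C}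
    (hx : x ∈ I.map (algebraMap B (B ⊗[A] C))) : f x ∈ I.map (algebraMap B (B ⊗[A] C')) := by
  have h1 : x ∈ I • (⊤ : Submodule B (B ⊗[A] C)) := by
    rw [Ideal.smul_top_eq_map]
    exact hx
  have h2 : f x ∈ I • (⊤ : Submodule B (B ⊗[A] C')) := by
    have h3 : f x ∈ (I • (⊤ : Submodule B (B ⊗[A] C))).map f := Submodule.mem_map_of_mem h1
    rw [Submodule.map_smul''] at h3
    exact Submodule.smul_mono le_rfl le_top h3
  rw [Ideal.smul_top_eq_map] at h2
  exact h2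

theorem exists_unit_lift {I : Ideal B} (hI : I ^ 2 = ⊥) (y : Additive ((B ⧸ I) ⊗[A] C)ˣ) :
    ∃ y' : Additive (B ⊗[A] C)ˣ, cfu C (Ideal.Quotient.mkₐ A I) y' = y := by
  have hs : Function.Surjective (cf C (Ideal.Quotient.mkₐ A I)) :=
    Algebra.TensorProduct.map_surjective _ _ (Ideal.Quotient.mkₐ_surjective A I) Function.surjective_id
  obtain ⟨a, ha⟩ := hs (y.toMul : (B ⧸ I) ⊗[A] C)
  obtain ⟨b, hb⟩ := hs ((y.toMul⁻¹ : ((B ⧸ I) ⊗[A] C)ˣ) : (B ⧸ I) ⊗[A] C)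
  have hk : a * b - 1 ∈ RingHom.ker (cf C (Ideal.Quotient.mkₐ A I)) := by
    rw [RingHom.mem_ker, map_sub, map_mul, ha, hb, Units.mul_inv, map_one, sub_self]
  rw [ker_cf] at hk
  have h2 := mul_eq_zero_of_mem C hI hk hk
  have hu : a * (b * (2 - a * b)) = 1 := by linear_combination -h2
  refine ⟨Additive.ofMul (Units.mkOfMulEqOne _ _ hu), ?_⟩
  apply Additive.toMul.injective
  ext
  exact ha

end Lift

/-- The lifting property. -/
theorem exists_lift {n : ℕ} {d₀ : Fin (n + 1) → C₀ →ₐ[A] C₁} {d₁ : Fin (n + 2) → C₁ →ₐ[A] C₂} (hd : Simpl d₀ d₁)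
    (s₁ : C₁ →ₗ[A] C₀) (s₂ : C₂ →ₗ[A] C₁)
    (hs : ∀ x : C₁, alt (fun i => ((d₀ i : C₀ →+* C₁) : C₀ →+ C₁)) (s₁ x) +
      s₂ (alt (fun i => ((d₁ i : C₁ →+* C₂) : C₁ →+ C₂)) x) = x)
    (z : Additive C₁ˣ) (hz : alt (fun i => um ((d₁ i : C₁ →+* C₂) : C₁ →* C₂)) z = 0)
    {B : Type w} [CommRing B] [Algebra A B] {I : Ideal B} (hI : I ^ 2 = ⊥)
    (y₀ : Additive ((B ⧸ I) ⊗[A] C₀)ˣ) (hy₀ : Dm (B ⧸ I) d₀ y₀ = zB (B ⧸ I) z) :
    ∃ y : Additive (B ⊗[A] C₀)ˣ, Dm B d₀ y = zB B z ∧ cfu C₀ (Ideal.Quotient.mkₐ A I) y = y₀ := by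
  obtain ⟨y, hy⟩ := exists_unit_lift hI y₀
  let w : Additive (B ⊗[A] C₁)ˣ := zB B z - Dm B d₀ y
  have hw1 : Dm B d₁ w = 0 := by
    rw [map_sub, Dm_Dm hd, Dm_zB B d₁ z hz, sub_zero]
  have hw2 : cfu C₁ (Ideal.Quotient.mkₐ A I) w = 0 := by
    rw [map_sub, cfu_zB, cfu_Dm, hy, hy₀, sub_self]
  let h : B ⊗[A] C₁ := (w.toMul : B ⊗[A] C₁) - 1
  have hh : (w.toMul : B ⊗[A] C₁) = 1 + h := by simp [h]
  have hk : h ∈ I.map (algebraMap B (B ⊗[A] C₁)) := by
    rw [← ker_cf, RingHom.mem_ker, map_sub, map_one, sub_eq_zero]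
    have h1 := congrArg (fun x => (x.toMul : (B ⧸ I) ⊗[A] C₁)) hw2
    exact h1
  -- base change of the contraction
  let S₁ : B ⊗[A] C₁ →ₗ[B] B ⊗[A] C₀ := s₁.baseChange B
  let S₂ : B ⊗[A] C₂ →ₗ[B] B ⊗[A] C₁ := s₂.baseChange B
  have hS : ∀ x : B ⊗[A] C₁, Da B d₀ (S₁ x) + S₂ (Da B d₁ x) = x := by
    intro x
    induction x with
    | zero => simp
    | tmul b c =>
      have h1 : Da B d₀ (S₁ (b ⊗ₜ[A] c)) = b ⊗ₜ[A] (alt (fun i => ((d₀ i : C₀ →+* C₁) : C₀ →+ C₁)) (s₁ c)) := by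
        rw [alt_apply, alt_apply, TensorProduct.tmul_sum]
        refine Finset.sum_congr rfl fun i _ => ?_
        rw [TensorProduct.tmul_smul]
        rfl
      have h2 : Da B d₁ (b ⊗ₜ[A] c) = b ⊗ₜ[A] (alt (fun i => ((d₁ i : C₁ →+* C₂) : C₁ →+ C₂)) c) := by
        rw [alt_apply, alt_apply, TensorProduct.tmul_sum]
        refine Finset.sum_congr rfl fun i _ => ?_
        rw [TensorProduct.tmul_smul]
        rfl
      rw [h1, h2]
      change _ + b ⊗ₜ[A] (s₂ _) = _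
      rw [← TensorProduct.tmul_add, hs]
    | add x y hx hy =>
      simp only [map_add]
      rw [add_add_add_comm, hx, hy]
  have hz1 : Da B d₁ h = 0 := by
    have h1 := toMul_alt_one_add (fun i => ((bc B (d₁ i) : B ⊗[A] C₁ →+* B ⊗[A] C₂))) w h hh (fun i j =>
      mul_eq_zero_of_mem C₂ hI (linear_mem I (bc B (d₁ i)).toLinearMap hk) (linear_mem I (bc B (d₁ j)).toLinearMap hk))
    have h2 : ((Dm B d₁ w).toMul : B ⊗[A] C₂) = 1 := by
      rw [hw1]
      rfl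
    exact left_eq_add.1 (h2.symm.trans h1)
  have hs1 : Da B d₀ (S₁ h) = h := by
    have := hS h
    rwa [hz1, map_zero, add_zero] at this
  have hk1 : S₁ h ∈ I.map (algebraMap B (B ⊗[A] C₀)) := linear_mem I S₁ hk
  have hsq := mul_eq_zero_of_mem C₀ hI hk1 hk1
  have hu : (1 + S₁ h) * (1 - S₁ h) = 1 := by linear_combination -hsq
  let v : Additive (B ⊗[A] C₀)ˣ := Additive.ofMul (Units.mkOfMulEqOne _ _ hu)
  have hv : Dm B d₀ v = w := by
    apply Additive.toMul.injective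
    ext
    have h1 := toMul_alt_one_add (fun i => ((bc B (d₀ i) : B ⊗[A] C₀ →+* B ⊗[A] C₁))) v (S₁ h) rfl (fun i j =>
      mul_eq_zero_of_mem C₁ hI (linear_mem I (bc B (d₀ i)).toLinearMap hk1) (linear_mem I (bc B (d₀ j)).toLinearMap hk1))
    refine h1.trans ?_
    rw [hh]
    exact congrArg (1 + ·) hs1
  refine ⟨y + v, ?_, ?_⟩
  · rw [map_add, hv]
    simp [w]
  · rw [map_add, hy, add_eq_left]
    apply Additive.toMul.injective
    ext
    change cf C₀ (Ideal.Quotient.mkₐ A I) (1 + S₁ h) = 1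
    have h1 : cf C₀ (Ideal.Quotient.mkₐ A I) (S₁ h) = 0 := by
      rw [← RingHom.mem_ker, ker_cf]
      exact hk1
    rw [map_add, h1, map_one, add_zero]

end Tensor

end K998.UnitCx
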