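import Groth.Prelude.Def_StCoh
import Groth.Prelude.Def_GmPts2
import Groth.Agent.Etrest.BigEtDescent
import Groth.Agent.StCoh.K998.QuotFib
import Mathlib.CategoryTheory.Sites.EpiMono

/-!
# The `n`-th power map on the multiplicative group is an fppf epimorphism

* `exists_root`: fppf-locally a unit is an `n`-th power.
* `epi_powMap`: on the big fppf site of a category fibred in groupoids the `n`-th power map of `G_m` is epi.
-/

set_option autoImplicit false
set_option backward.isDefEq.respectTransparency false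
set_option backward.isDefEq.respectTransparency.types false

universe u

open CategoryTheory CategoryTheory.Limits AlgebraicGeometry Opposite Polynomial

namespace K998.PowEpi

theorem exists_alg (A : Type u) [CommRing A] (a : Aˣ) (n : ℕ) (hn : 0 < n) :
    ∃ (B : Type u) (_ : CommRing B) (_ : Algebra A B), Module.Free A B ∧ Module.Finite A B ∧
      Algebra.FinitePresentation A B ∧ Function.Surjective (PrimeSpectrum.comap (algebraMap A B)) ∧
      ∃ b : Bˣ, b ^ n = Units.map (algebraMap A B).toMonoidHom a := by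
  let f : A[X] := X ^ n - C (a : A)
  have hf : f.Monic := monic_X_pow_sub_C _ hn.ne'
  have h1 := hf.free_adjoinRoot
  have h2 := hf.finite_adjoinRoot
  have hroot : (AdjoinRoot.root f) ^ n = algebraMap A (AdjoinRoot f) a := by
    have h := AdjoinRoot.eval₂_root f
    simp only [f, eval₂_sub, eval₂_X_pow, eval₂_C] at h
    exact sub_eq_zero.1 h
  have hu : IsUnit (AdjoinRoot.root f) := by
    rw [← isUnit_pow_iff hn.ne', hroot]
    exact a.isUnit.map _
  refine ⟨AdjoinRoot f, inferInstance, inferInstance, h1, h2, inferInstance, ?_, hu.unit, ?_⟩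
  · rcases subsingleton_or_nontrivial A with hA | hA
    · intro q
      exact (q.isPrime.ne_top (Subsingleton.elim _ _)).elim
    have hne : Nontrivial (AdjoinRoot f) := by
      refine ⟨⟨AdjoinRoot.mk f 1, 0, AdjoinRoot.mk_ne_zero_of_degree_lt hf one_ne_zero ?_⟩⟩
      rw [degree_X_pow_sub_C hn, degree_one]
      exact_mod_cast hn
    have : Module.FaithfullyFlat A (AdjoinRoot f) := inferInstance
    exact PrimeSpectrum.comap_surjective_of_faithfullyFlat
  · ext
    simpa using hroot

theorem exists_root (U : Scheme.{u}) (v : (Γ(U, ⊤))ˣ) (n : ℕ) (hn : 0 < n) (t : U) :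
    ∃ (Y : Scheme.{u}) (g : Y ⟶ U), Flat g ∧ LocallyOfFinitePresentation g ∧ t ∈ Set.range g ∧
      ∃ w : (Γ(Y, ⊤))ˣ, w ^ n = Units.map g.appTop.hom.toMonoidHom v := by
  obtain ⟨i, t', ht'⟩ := U.affineCover.exists_eq t
  let R : CommRingCat := U.affineCover.X i |>.presheaf.obj (op ⊤)
  obtain ⟨R, j, hj, t', ht'⟩ : ∃ (R : CommRingCat.{u}) (j : Spec R ⟶ U), IsOpenImmersion j ∧
      ∃ t' : Spec R, j t' = t := ⟨_, U.affineCover.f i, inferInstance, t', ht'⟩
  let r : Rˣ := Units.map (Scheme.ΓSpecIso R).hom.hom.toMonoidHom (Units.map j.appTop.hom.toMonoidHom v)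
  obtain ⟨B, _, _, hfree, hfin, hfp, hsurj, b, hb⟩ := exists_alg R r n hn
  let φ : R ⟶ CommRingCat.of B := CommRingCat.ofHom (algebraMap R B)
  obtain ⟨y, hy⟩ := hsurj t'
  refine ⟨Spec (CommRingCat.of B), Spec.map φ ≫ j, ?_, ?_, ⟨y, ?_⟩,
    Units.map (Scheme.ΓSpecIso (CommRingCat.of B)).inv.hom.toMonoidHom b, ?_⟩
  · have : Flat (Spec.map φ) := by
      rw [Flat.SpecMap_iff]
      exact RingHom.flat_algebraMap_iff.2 inferInstance
    infer_instance
  · have : LocallyOfFinitePresentation (Spec.map φ) := by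
      rw [LocallyOfFinitePresentation.SpecMap_iff]
      exact RingHom.finitePresentation_algebraMap.2 hfp
    infer_instance
  · rw [Scheme.Hom.comp_apply, ← ht']
    congr 1
  · rw [← map_pow, hb]
    ext
    change (Scheme.ΓSpecIso (CommRingCat.of B)).inv.hom (φ.hom (r : R)) = (Spec.map φ ≫ j).appTop.hom v
    have h1 := ConcreteCategory.congr_hom (Scheme.ΓSpecIso_inv_naturality φ) (r : R)
    have h2 : (Scheme.ΓSpecIso R).inv.hom (r : R) = j.appTop.hom v := by
      change (Scheme.ΓSpecIso R).inv.hom ((Scheme.ΓSpecIso R).hom.hom (j.appTop.hom v)) = _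
      exact ConcreteCategory.congr_hom (Scheme.ΓSpecIso R).hom_inv_id _
    rw [Scheme.Hom.comp_appTop]
    change _ = (Spec.map φ).appTop.hom (j.appTop.hom v)
    rw [← h2]
    exact h1

variable {S : Scheme.{u}}

/-- fppf-locally a section of `G_m` is divisible by `n`. -/
theorem sieve_mem (U : Over S) (s : (CGrpSh.ptsPre (Red.Gm S)).obj (op U)) (n : ℕ) (hn : 0 < n) :
    Presheaf.imageSieve (n • 𝟙 (CGrpSh.ptsPre (Red.Gm S))) (U := U) s ∈ QuotSh.J Scheme.fppfPrecoverage S U := by
  change _ ∈ EtFppf.J S U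
  rw [Groth.Agent.Etrest.BigEtSite.mem_J_iff]
  intro t
  let e := GmPts.ptsUnitsPreIso S
  let v : (Γ(U.left, ⊤))ˣ := GmPts.unitOfSect (e.hom.app (op U) s)
  obtain ⟨Y, g, h1, h2, h3, w, hw⟩ := exists_root U.left v n hn t
  let Y' : Over S := Over.mk (g ≫ U.hom)
  let g' : Y' ⟶ U := Over.homMk g rfl
  refine ⟨Y', g', ⟨e.inv.app (op Y') (GmPts.sectOfUnit (T := op Y') w), ?_⟩, h1, h2, h3⟩
  rw [NatTrans.app_nsmul]
  change n • (e.inv.app (op Y') (GmPts.sectOfUnit (T := op Y') w)) = (CGrpSh.ptsPre (Red.Gm S)).map g'.op s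
  have hinj : Function.Injective (e.hom.app (op Y')) := by
    intro a b hab
    have h := congrArg (e.inv.app (op Y')) hab
    rw [← ConcreteCategory.comp_apply, ← ConcreteCategory.comp_apply, ← NatTrans.comp_app, e.hom_inv_id] at h
    exact h
  apply hinj
  rw [map_nsmul, ← ConcreteCategory.comp_apply (e.inv.app (op Y')), ← NatTrans.comp_app, e.inv_hom_id]
  have h4 := ConcreteCategory.congr_hom (e.hom.naturality g'.op) s
  rw [ConcreteCategory.comp_apply, ConcreteCategory.comp_apply] at h4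
  rw [h4]
  change n • GmPts.sectOfUnit (T := op Y') w = _
  have h5 : GmPts.sectOfUnit (T := op Y') (w ^ n) = n • GmPts.sectOfUnit (T := op Y') w := rfl
  rw [← h5, hw]
  rfl

/-- The `n`-th power map is an fppf epimorphism on every category fibred in groupoids. -/
theorem epi_powMap (𝒳 : AlgSt.Cat S) (h𝒳 : FibCat.IsFibGrpd 𝒳.p) [StCoh.BaseCont Scheme.fppfPrecoverage 𝒳]
    (n : ℕ) (hn : 0 < n) : Epi (StCoh.powMap Scheme.fppfPrecoverage 𝒳 n) := by
  rw [← Sheaf.isLocallySurjective_iff_epi']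
  constructor
  intro x s
  apply Functor.mem_restrictedTopology_of_functorPushforward_mem
  refine GrothendieckTopology.superset_covering _ ?_ (sieve_mem (𝒳.p.obj x) s n hn)
  rintro V g ⟨t, ht⟩
  obtain ⟨y, φ, hφ⟩ := h𝒳.exists_lift (x := x) g
  obtain rfl := IsHomLift.domain_eq 𝒳.p g φ
  have hg : g = 𝒳.p.map φ := IsHomLift.eq_of_isHomLift 𝒳.p g φ
  subst hg
  refine ⟨y, φ, 𝟙 _, ⟨t, ?_⟩, by simp⟩
  exact ht

end K998.PowEpi
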