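import Groth.Agent.StCoh.K998.NormLC
import Groth.Agent.S5062

/-!
# Strictly henselian bases
-/

set_option autoImplicit false
set_option backward.isDefEq.respectTransparency false
set_option backward.isDefEq.respectTransparency.types false

universe u

open CategoryTheory CategoryTheory.Limits Opposite AlgebraicGeometry

namespace K998.Hens

open FG Transfer Shift Coch Gm Norm NormLC Glob

/-- Étale neighbourhoods of the closed point of a strictly henselian local ring split. -/
theorem spl (R : Type u) [CommRing R] [HenselianLocalRing R] [IsSepClosed (IsLocalRing.ResidueField R)] :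
    Spl (Spec (CommRingCat.of R)) (IsLocalRing.closedPoint R) := by
  rintro T' h ⟨x, hx⟩
  obtain ⟨u, hu, -⟩ := Groth.Agent.S5062.forward R T'.left T'.hom x hx
  exact ⟨u, hu⟩

/-- No condition. -/
def triv (S : Scheme.{u}) : Pts S where
  Cd _ _ := True
  pull _ _ _ := trivial

instance isFinite_st (R A : Type u) [CommRing R] [CommRing A] [Algebra R A] [Module.Finite R A] : IsFinite (st R A) := by
  rw [st, IsFinite.SpecMap_iff]
  exact RingHom.finite_algebraMap.2 inferInstance

instance flat_st (R A : Type u) [CommRing R] [CommRing A] [Algebra R A] [Module.Flat R A] : Flat (st R A) := by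
  rw [st, Flat.SpecMap_iff]
  exact RingHom.flat_algebraMap_iff.2 inferInstance

instance lfp_st (R A : Type u) [CommRing R] [CommRing A] [Algebra R A] [Algebra.FinitePresentation R A] :
    LocallyOfFinitePresentation (st R A) := by
  rw [st, LocallyOfFinitePresentation.SpecMap_iff]
  exact RingHom.finitePresentation_algebraMap.2 inferInstance

end K998.Hens
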