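import Groth.Agent.StCoh.K998.Dual
import Groth.Agent.StCoh.K998.Hens

/-!
# `H¹(BG, G_m)` over a strictly henselian base
-/

set_option autoImplicit false
set_option linter.unusedSectionVars false
set_option backward.isDefEq.respectTransparency false
set_option backward.isDefEq.respectTransparency.types false

universe w v₁ u₁ v₂ u₂ u

open CategoryTheory CategoryTheory.Limits Opposite AlgebraicGeometry MonoidalCategory CartesianMonoidalCategory MonObj GrpObj

namespace K998.HOne

open BGc K998.Dual FG Transfer Shift Coch Gm Glob Hens BGs K998.Quot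

variable {S : Scheme.{u}} (G : Over S) [GrpObj G] [IsCommMonObj G]

/-- Cocycles to characters. -/
noncomputable def zc (T : Over S) : Zc (pp G) (xx G) (gmP (qf (pp G))) T 1 →+ Zf G T where
  toFun c := ⟨toF c.1, isFam_toF c.2.1, (dF_eq_zero_iff G _).1 ((isZ_iff c.2.1).1 c.2.2)⟩
  map_zero' := rfl
  map_add' _ _ := rfl

theorem zc_bijective (T : Over S) : Function.Bijective (zc G T) := by
  constructor
  · intro c c' h
    exact Subtype.ext (toF_injective c.2.1 c'.2.1 (congrArg Subtype.val h))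
  · rintro ⟨χ, h1, h2⟩
    have hc := isC_ofF h1
    refine ⟨⟨ofF χ, hc, ?_⟩, Subtype.ext (toF_ofF χ)⟩
    rw [isZ_iff hc, toF_ofF]
    exact (dF_eq_zero_iff G _).2 h2

theorem dF_zero {T : Over S} (F : Fam G T 0) : dF F = 0 := by
  funext T' t g
  rw [dF, Fin.sum_univ_one]
  have e : Fin.contractNth (0 : Fin 1) (· * ·) g = fun i : Fin 0 => g i.succ := by
    funext i
    exact i.elim0
  rw [e]
  change F T' t _ + (-1 : ℤ) ^ (0 + 1) • F T' t _ = 0
  simp

theorem bc_zero (T : Over S) {c : Zc (pp G) (xx G) (gmP (qf (pp G))) T 1} (h : c ∈ Bc (pp G) (xx G) (gmP (qf (pp G))) T 0) :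
    c = 0 := by
  obtain ⟨b, hb, hbc⟩ := h
  rw [isB_iff hb c.2.1, dF_zero] at hbc
  apply (zc_bijective G T).1
  rw [map_zero]
  exact Subtype.ext hbc.symm

/-- Čech `H¹`. -/
theorem exists_equiv (T : Over S) : Nonempty ((Zc (pp G) (xx G) (gmP (qf (pp G))) T 1 ⧸
    Bc (pp G) (xx G) (gmP (qf (pp G))) T 0) ≃+ Zf G T) := by
  have h : Bc (pp G) (xx G) (gmP (qf (pp G))) T 0 = ⊥ := by
    rw [eq_bot_iff]
    intro c hc
    rw [bc_zero G T hc]
    exact AddSubgroup.zero_mem _
  refine ⟨((QuotientAddGroup.quotientAddEquivOfEq h).trans QuotientAddGroup.quotientBot).trans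
    (AddEquiv.ofBijective (zc G T) (zc_bijective G T))⟩

theorem hOne (R : Type u) [CommRing R] [HenselianLocalRing R]
    [IsSepClosed (IsLocalRing.ResidueField R)] (G : Over (Spec (CommRingCat.of R))) [GrpObj G] [IsCommMonObj G]
    [IsFinite G.hom] [Flat G.hom] [LocallyOfFinitePresentation G.hom]
    [StCoh.BaseCont Scheme.etalePrecoverage (AlgSt.BG Scheme.fppfPrecoverage G)] :
    Nonempty (StCoh.H Scheme.etalePrecoverage (StCoh.Gm Scheme.etalePrecoverage (AlgSt.BG Scheme.fppfPrecoverage G)) 1 ≃+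
      (CGrpSh2.dualSh Scheme.etalePrecoverage (CGrpSh.pts Scheme.etalePrecoverage G)).obj.obj
        (op (Over.mk (𝟙 (Spec (CommRingCat.of R)))))) := by
  have hX : IsFinite (𝟙_ (Over (Spec (CommRingCat.of R)))).hom := inferInstanceAs (IsFinite (𝟙 _))
  obtain ⟨A, g, hA, hF⟩ := exists_ext_gm (isFG_quot G (AlgSt.trivAction G))
  obtain ⟨e⟩ := hF 1
  obtain ⟨e2⟩ := ext_one (isFG_quot G (AlgSt.trivAction G)) (cov_quot G (AlgSt.trivAction G)) hA
    (IsLocalRing.closedPoint R) (spl R) (gmF (isFG_qf (isFG_quot G (AlgSt.trivAction G)))) (pca_gm _)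
  obtain ⟨e3⟩ := exists_equiv G (Over.mk (𝟙 (Spec (CommRingCat.of R))))
  exact ⟨e.trans (e2.trans (e3.trans (dualEquiv Scheme.etalePrecoverage G _).symm))⟩

end K998.HOne
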