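import Groth.Agent.StCoh.K998.RPush
import Groth.Agent.StCoh.K998.HOne

/-!
# `R¹c_* G_m` for classifying stacks
-/

set_option autoImplicit false
set_option linter.unusedSectionVars false
set_option backward.isDefEq.respectTransparency false
set_option backward.isDefEq.respectTransparency.types false

universe w v₁ u₁ v₂ u₂ u

open CategoryTheory CategoryTheory.Limits Opposite AlgebraicGeometry MonoidalCategory CartesianMonoidalCategory

namespace K998.ROne

open BGc K998.Dual FG Transfer Shift Coch Gm Glob BGs K998.Quot HOne RPush Push Pf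

variable {S : Scheme.{u}} (K : Precoverage Scheme.{u}) [(QuotSh.J K S).Subcanonical]
  (G : Over S) [GrpObj G] [IsCommMonObj G]

/-- Families to cocycles. -/
noncomputable def ofZf (T : Over S) (χ : Zf G T) : Zc (pp G) (xx G) (gmP (qf (pp G))) T 1 :=
  (AddEquiv.ofBijective (zc G T) (zc_bijective G T)).symm χ

theorem ofZf_val (T : Over S) (χ : Zf G T) : (ofZf G T χ).1 = ofF χ.1 := by
  have h1 : zc G T (ofZf G T χ) = χ := (AddEquiv.ofBijective (zc G T) (zc_bijective G T)).apply_symm_apply χ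
  have h2 : toF (ofZf G T χ).1 = χ.1 := congrArg Subtype.val h1
  rw [← h2, ofF_toF (ofZf G T χ).2.1]

theorem ofF_resF {T T' : Over S} (f : T' ⟶ T) (χ : Fam G T 1) : ofF (resF G f χ) = resC f (ofF χ) := rfl

/-- The comparison at `T`. -/
noncomputable def dEq (T : Over S) : (CGrpSh2.dualSh K (CGrpSh.pts K G)).obj.obj (op T) ≃+
    Zc (pp G) (xx G) (gmP (qf (pp G))) T 1 :=
  (dualEquiv K G T).trans (AddEquiv.ofBijective (zc G T) (zc_bijective G T)).symm

theorem dEq_val (T : Over S) (φ : (CGrpSh2.dualSh K (CGrpSh.pts K G)).obj.obj (op T)) :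
    (dEq K G T φ).1 = ofF (dualEquiv K G T φ).1 := ofZf_val G T _

theorem dEq_nat {T T' : Over S} (f : T' ⟶ T) (φ : (CGrpSh2.dualSh K (CGrpSh.pts K G)).obj.obj (op T)) :
    dEq K G T' ((CGrpSh2.dualSh K (CGrpSh.pts K G)).obj.map f.op φ) = Zres (pp G) (xx G) f 1 (dEq K G T φ) := by
  apply Subtype.ext
  have h1 : (Zres (pp G) (xx G) f 1 (dEq K G T φ)).1 = resC f (dEq K G T φ).1 := rfl
  rw [h1, dEq_val, dEq_val, dualEquiv_res, ofF_resF]

/-- Isomorphisms of presheaves from additive equivalences. -/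
noncomputable def mkIso {D : Type u₁} [Category.{v₁} D] {P Q : Dᵒᵖ ⥤ AddCommGrpCat.{w}}
    (e : ∀ T : D, P.obj (op T) ≃+ Q.obj (op T))
    (h : ∀ {T T' : D} (f : T' ⟶ T) (x : P.obj (op T)), e T' (P.map f.op x) = Q.map f.op (e T x)) : P ≅ Q :=
  NatIso.ofComponents (fun T => (e T.unop).toAddCommGrpIso) (by
    intro T T' f
    ext x
    exact h f.unop x)

/-- The comparison of presheaves. -/
noncomputable def dIso : (CGrpSh2.dualSh K (CGrpSh.pts K G)).obj ≅ zPre (pp G) (xx G) (gmP (qf (pp G))) 1 :=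
  mkIso (fun T => dEq K G T) (fun f φ => dEq_nat K G f φ)

variable [StCoh.BaseCont K (AlgSt.BG Scheme.fppfPrecoverage G)]
  [StCoh.BaseCont K (FibCat.selfOver (Over S))]

/-- The dual sheaf on the base over itself. -/
noncomputable def dIso' : ((StCoh.ofBase K (FibCat.selfOver (Over S)) AddCommGrpCat.{u + 1}).obj
    (CGrpSh2.dualSh K (CGrpSh.pts K G))).obj ≅ zPre (pp G) (xx G) (gmP (qf (pp G))) 1 :=
  Functor.leftUnitor (CGrpSh2.dualSh K (CGrpSh.pts K G)).obj ≪≫ dIso K G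

variable {K} in
/-- The comparison of sheaves. -/
noncomputable def gmRR {𝒳 : AlgSt.Cat S} {hp : IsFG 𝒳.p} (hg : Good K hp) [StCoh.BaseCont K 𝒳] :
    (RR hg).obj (gmF (isFG_qf hp)) ≅ StCoh.Gm K 𝒳 where
  hom := ⟨(gmIso K).hom⟩
  inv := ⟨(gmIso K).inv⟩
  hom_inv_id := Sheaf.hom_ext (gmIso K).hom_inv_id
  inv_hom_id := Sheaf.hom_ext (gmIso K).inv_hom_id

theorem rOne [IsFinite G.hom] [Flat G.hom] [LocallyOfFinitePresentation G.hom]
    [StCoh.MorCont K (FibCat.toSelf (AlgSt.BG Scheme.fppfPrecoverage G))]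
    [StCoh.MorCocont K (FibCat.toSelf (AlgSt.BG Scheme.fppfPrecoverage G))]
    (hg : Good K (isFG_quot G (AlgSt.trivAction G))) :
    Nonempty (((StCoh.Rpush K (FibCat.toSelf (AlgSt.BG Scheme.fppfPrecoverage G)) 1).obj
      (StCoh.Gm K (AlgSt.BG Scheme.fppfPrecoverage G))) ≅
      (StCoh.ofBase K (FibCat.selfOver (Over S)) AddCommGrpCat.{u + 1}).obj
        (CGrpSh2.dualSh K (CGrpSh.pts K G))) := by
  have hX : IsFinite (𝟙_ (Over S)).hom := inferInstanceAs (IsFinite (𝟙 _))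
  obtain ⟨e⟩ := exists_iso_one hg (cov_quot G (AlgSt.trivAction G)) (gmF (isFG_qf (isFG_quot G (AlgSt.trivAction G))))
    (pca_gm _) (fun T c hc => bc_zero G T hc) _ (dIso' K G)
  exact ⟨(((pu (K := K) (AlgSt.BG Scheme.fppfPrecoverage G)).rightDerived 1).mapIso (gmRR hg)).symm ≪≫ e⟩

end K998.ROne
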