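import Groth.Agent.StCoh.K998.Hens

/-!
# Cohomology of `G_m` on a quotient stack over a strictly henselian base is killed by the order of the group
-/

set_option autoImplicit false
set_option backward.isDefEq.respectTransparency false
set_option backward.isDefEq.respectTransparency.types false

universe u

open CategoryTheory CategoryTheory.Limits Opposite AlgebraicGeometry

namespace K998.Killed

open FG Transfer Shift Coch Gm Norm NormLC Glob Hens K998.Quot

theorem killed (R : Type u) [CommRing R] [HenselianLocalRing R] [IsSepClosed (IsLocalRing.ResidueField R)]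
    (G : Over (Spec (CommRingCat.of R))) [GrpObj G] [IsFinite G.hom] [Flat G.hom] [LocallyOfFinitePresentation G.hom]
    {N : ℕ} (hG : HasRk G.hom N) {X : Over (Spec (CommRingCat.of R))} [IsFinite X.hom] (aX : AlgGrp.Action G X)
    [StCoh.BaseCont Scheme.etalePrecoverage (AlgSt.QuotSt Scheme.fppfPrecoverage G aX)]
    (i : ℕ) (hi : 1 ≤ i)
    (c : StCoh.H Scheme.etalePrecoverage (StCoh.Gm Scheme.etalePrecoverage
      (AlgSt.QuotSt Scheme.fppfPrecoverage G aX)) i) : N • c = 0 := by
  obtain ⟨n, rfl⟩ := Nat.exists_eq_succ_of_ne_zero (Nat.one_le_iff_ne_zero.1 hi)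
  obtain ⟨A, g, hA, hF⟩ := exists_ext_gm (isFG_quot G aX)
  obtain ⟨e⟩ := hF (n + 1)
  have h1 := kill (isFG_quot G aX) (cov_quot G aX) hA (triv _) (IsLocalRing.closedPoint R) trivial (spl R) N n
    (gmF (isFG_qf (isFG_quot G aX))) (pca_gm _) (lco_quot G aX hG _ n) (e c)
  apply e.injective
  rw [map_nsmul, map_zero, ← natCast_zsmul]
  exact h1

end K998.Killed
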