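import Groth.Agent.StCoh.K998.Sect3

/-!
# The section of a classifying stack
-/

set_option autoImplicit false
set_option linter.unusedSectionVars false
set_option backward.isDefEq.respectTransparency false
set_option backward.isDefEq.respectTransparency.types false

universe w v₁ u₁ v₂ u₂ u

open CategoryTheory CategoryTheory.Limits Opposite AlgebraicGeometry Abelian MonoidalCategory CartesianMonoidalCategory

namespace K998.BSec

open FG Transfer Coch Shift Glob Pf Push Gm RPush Groth.Agent.Etrest Sect BGs BGc K998.Quot K943.QuotAtlas AlgSt ROne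

variable {S : Scheme.{u}} (G : Over S) [GrpObj G]

/-- The section given by trivial torsors. -/
noncomputable def sbg : FibCat.selfOver (Over S) ⥤ᵇ AlgSt.BG Scheme.fppfPrecoverage G where
  obj T := tau Scheme.fppfPrecoverage G T
  map f := tmap f
  map_id T := QuotObj.hom_ext rfl (by
    rw [tmap_top]
    exact MonoidalCategory.whiskerLeft_id _ _)
  map_comp f g := QuotObj.hom_ext rfl (by
    change G ◁ (f ≫ g) = G ◁ f ≫ G ◁ g
    exact MonoidalCategory.whiskerLeft_comp _ _ _)
  w := rfl

/-- The section is a section. -/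
noncomputable def sbgIso : (sbg G).toFunctor ⋙ (AlgSt.BG Scheme.fppfPrecoverage G).p ≅ 𝟭 (Over S) := Iso.refl _


/-- The family of a unit. -/
noncomputable def famU {T : Over S} (x : U T) : GS (pp G) (gmP (qf (pp G))) T :=
  ⟨fun W t => res t x, fun W W' f t => res_comp t ((pp G).map f) x⟩

section

variable [IsFinite G.hom] [Flat G.hom] [LocallyOfFinitePresentation G.hom]

theorem cov_bg : Cov (pp G) (xx G) := by
  have hX : IsFinite (𝟙_ (Over S)).hom := inferInstanceAs (IsFinite (𝟙 _))
  exact cov_quot G (AlgSt.trivAction G)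

theorem gs_zero {T : Over S} (s : GS (pp G) (gmP (qf (pp G))) T) (h : s.1 (tau _ G T) (𝟙 _) = 0) : s = 0 := by
  apply Subtype.ext
  refine eq_of_cover (isSheaf_gmP (isFG_qf (isFG_quot G (AlgSt.trivAction G)))) (fun W => (cov_bg G).sv_mem
    (isFG_quot G (AlgSt.trivAction G)) W) s.2 (AddSubgroup.zero_mem (GS (pp G) (gmP (qf (pp G))) T)) ?_
  intro W t n
  have h1 := s.2 (iota n ≫ tmap t) (𝟙 _)
  have h2 : (pp G).map (iota n ≫ tmap t) ≫ 𝟙 _ = t := (Category.comp_id _).trans (Category.id_comp t)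
  exact (congrArg (s.1 W) h2).symm.trans (h1.symm.trans ((congrArg _ h).trans (map_zero _)))

theorem evp_bijective (T : Over S) :
    Function.Bijective ((evp (sbg G) (sbgIso G) (gmP (qf (pp G)))).app (op T)) := by
  constructor
  · rw [injective_iff_map_eq_zero]
    intro s hs
    exact gs_zero G s hs
  · intro x
    exact ⟨famU G x, res_id x⟩

instance : IsIso (evp (sbg G) (sbgIso G) (gmP (qf (pp G)))) := by
  have : ∀ T, IsIso ((evp (sbg G) (sbgIso G) (gmP (qf (pp G)))).app T) := fun T => by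
    rw [ConcreteCategory.isIso_iff_bijective]
    exact evp_bijective G T.unop
  exact NatIso.isIso_of_isIso_app _

variable {G} {K : Precoverage Scheme.{u}} (hg : Good K (isFG_quot G (AlgSt.trivAction G)))
  [StCoh.MorCont K (FibCat.toSelf (AlgSt.BG Scheme.fppfPrecoverage G))]
  [StCoh.MorCocont K (FibCat.toSelf (AlgSt.BG Scheme.fppfPrecoverage G))]
  [StCoh.MorCont K (sbg G)] [StCoh.MorCocont K (sbg G)]

/-- The sheaf. -/
noncomputable abbrev gF (G : Over S) [GrpObj G] : AF (isFG_quot G (AlgSt.trivAction G)) :=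
  gmF (isFG_qf (isFG_quot G (AlgSt.trivAction G)))

theorem isIso_ev : IsIso (ev hg (sbg G) (sbgIso G) (gF G)) := by
  have h0 : IsIso (puIso hg (gF G)).hom := inferInstance
  have h00 : IsIso (evp (sbg G) (sbgIso G) (gmP (qf (pp G)))) := inferInstance
  have h1 : IsIso ((puIso hg (gF G)).hom ≫ evp (sbg G) (sbgIso G) (gmP (qf (pp G)))) := IsIso.comp_isIso' h0 h00
  have h2 : IsIso ((sheafToPresheaf _ _).map (ev hg (sbg G) (sbgIso G) (gF G))) := h1
  exact isIso_of_fully_faithful (sheafToPresheaf _ _) _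

end

section

variable {G} {K : Precoverage Scheme.{u}} [(QuotSh.J K S).Subcanonical] (hg : Good K (isFG_quot G (AlgSt.trivAction G)))
  [StCoh.BaseCont K (FibCat.selfOver (Over S))]
  [StCoh.MorCont K (sbg G)] [StCoh.MorCocont K (sbg G)]

/-- The pull-back of the multiplicative group. -/
noncomputable def pullGmP (G : Over S) [GrpObj G] : (sbg G).toFunctor.op ⋙ gmP (qf (pp G)) ≅
    gmP (qf (FibCat.selfOver (Over S)).p) :=
  NatIso.ofComponents (fun _ => Iso.refl _) (fun _ => (Category.comp_id _).trans (Category.id_comp _).symm)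

/-- The pull-back of the multiplicative group. -/
noncomputable def pullGm : (StCoh.pull K (sbg G) AddCommGrpCat.{u + 1}).obj ((RR hg).obj (gF G)) ≅
    StCoh.Gm K (FibCat.selfOver (Over S)) where
  hom := ⟨(pullGmP G ≪≫ gmIso K).hom⟩
  inv := ⟨(pullGmP G ≪≫ gmIso K).inv⟩
  hom_inv_id := Sheaf.hom_ext (pullGmP G ≪≫ gmIso K).hom_inv_id
  inv_hom_id := Sheaf.hom_ext (pullGmP G ≪≫ gmIso K).inv_hom_id

end

/-- Natural families on a category with a terminal object. -/
noncomputable def ntTerm {C : Type u₁} [Category.{v₁} C] {X : C} (hX : IsTerminal X) (P : Cᵒᵖ ⥤ AddCommGrpCat.{w}) :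
    NtG P ≃+ P.obj (op X) where
  toFun s := s.1 X
  invFun x := ⟨fun W => P.map (hX.from W).op x, fun W W' f => by
    rw [map_app, hX.hom_ext (f ≫ hX.from W) (hX.from W')]⟩
  left_inv s := Subtype.ext (funext fun W => s.2 (hX.from W))
  right_inv x := by
    change P.map (hX.from X).op x = x
    rw [hX.hom_ext (hX.from X) (𝟙 _), op_id, P.map_id]
    rfl
  map_add' _ _ := rfl


section Fin

variable {G} [IsFinite G.hom] [Flat G.hom] [LocallyOfFinitePresentation G.hom] [IsCommMonObj G]
  [StCoh.BaseCont Scheme.etalePrecoverage (AlgSt.BG Scheme.fppfPrecoverage G)]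
  [StCoh.BaseCont Scheme.etalePrecoverage (FibCat.selfOver (Over S))]

/-- the constant sheaf on the base -/
noncomputable abbrev zS (S : Scheme.{u}) : StCoh.Ab Scheme.etalePrecoverage (FibCat.selfOver (Over S)) :=
  (constantSheaf (StCoh.J Scheme.etalePrecoverage (FibCat.selfOver (Over S))) AddCommGrpCat.{u + 1}).obj
    (AddCommGrpCat.of (ULift.{u + 1} ℤ))

variable (G) in
theorem hOneSplit : Nonempty (StCoh.H Scheme.etalePrecoverage (StCoh.Gm Scheme.etalePrecoverage
      (AlgSt.BG Scheme.fppfPrecoverage G)) 1 ≃+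
      StCoh.H Scheme.etalePrecoverage (StCoh.Gm Scheme.etalePrecoverage (FibCat.selfOver (Over S))) 1 ×
        (CGrpSh2.dualSh Scheme.etalePrecoverage (CGrpSh.pts Scheme.etalePrecoverage G)).obj.obj
          (op (Over.mk (𝟙 S)))) := by
  have hid : IsFG (FibCat.selfOver (Over S)).p := isFG_id
  have hq : IsFG (AlgSt.BG Scheme.fppfPrecoverage G).p := isFG_quot G (AlgSt.trivAction G)
  have i1 := morCont Scheme.etalePrecoverage (FibCat.toSelf (AlgSt.BG Scheme.fppfPrecoverage G)) hq hid
  have i2 := morCocont Scheme.etalePrecoverage (FibCat.toSelf (AlgSt.BG Scheme.fppfPrecoverage G)) hq hid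
  have i3 := morCont Scheme.etalePrecoverage (sbg G) hid hq
  have i4 := morCocont Scheme.etalePrecoverage (sbg G) hid hq
  obtain ⟨A, g, hA, hF⟩ := exists_ext_gm hq
  obtain ⟨e1⟩ := hF 1
  have hg : Good Scheme.etalePrecoverage hq := good_et hq
  have hZ : IsGS (zS S) _ := (isGP_const.{u + 1} (C := Over S)).isGS
    (StCoh.J Scheme.etalePrecoverage (FibCat.selfOver (Over S)))
  obtain ⟨e2⟩ := split_one hg (sbg G) (sbgIso G) hA hZ (gF G) (pca_gm _) (isIso_ev hg)
  let e3 := ((extFunctorObj (zS S) 1).mapIso (pullGm hg)).addCommGroupIsoToAddEquiv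
  obtain ⟨e4⟩ := rOne Scheme.etalePrecoverage G hg
  let e5 : ((pu (K := Scheme.etalePrecoverage) (AlgSt.BG Scheme.fppfPrecoverage G)).rightDerived 1).obj ((RR hg).obj (gF G)) ≅ _ :=
    ((pu (K := Scheme.etalePrecoverage) (AlgSt.BG Scheme.fppfPrecoverage G)).rightDerived 1).mapIso (gmRR hg) ≪≫ e4
  let e6 := ((extFunctorObj (zS S) 0).mapIso e5).addCommGroupIsoToAddEquiv
  let e7 := (Ext.addEquiv₀ (X := zS S) (Y := (StCoh.ofBase Scheme.etalePrecoverage (FibCat.selfOver (Over S)) AddCommGrpCat.{u + 1}).obj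
        (CGrpSh2.dualSh Scheme.etalePrecoverage (CGrpSh.pts Scheme.etalePrecoverage G)))).trans
    ((hZ.equiv _).trans (ntTerm Over.mkIdTerminal _))
  exact ⟨e1.trans (e2.trans (AddEquiv.prodCongr e3 (e6.trans e7)))⟩

end Fin

end K998.BSec
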