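import Mathlib
import Groth.Prelude.Def_Red

/-!
# Finiteness of diagonalisable group schemes
-/

set_option autoImplicit false
set_option linter.unusedSectionVars false

universe u

open CategoryTheory CategoryTheory.Limits AlgebraicGeometry

namespace K998.Diag

section

variable (R : Type u) [CommRing R] (M : Type) [AddCommGroup M] [Finite M]

instance isFinite_diag : IsFinite (Red.diag R M).hom := by
  change IsFinite (Spec.map (CommRingCat.ofHom (algebraMap R (MonoidAlgebra R (Multiplicative M)))))
  rw [IsFinite.SpecMap_iff]
  exact (RingHom.finite_algebraMap).2 inferInstance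

instance flat_diag : Flat (Red.diag R M).hom := by
  change Flat (Spec.map (CommRingCat.ofHom (algebraMap R (MonoidAlgebra R (Multiplicative M)))))
  rw [Flat.SpecMap_iff]
  exact RingHom.flat_algebraMap_iff.2 inferInstance

instance lfp_diag : LocallyOfFinitePresentation (Red.diag R M).hom := by
  change LocallyOfFinitePresentation (Spec.map (CommRingCat.ofHom (algebraMap R (MonoidAlgebra R (Multiplicative M)))))
  rw [LocallyOfFinitePresentation.SpecMap_iff]
  have : Module.FinitePresentation R (MonoidAlgebra R (Multiplicative M)) :=
    Module.finitePresentation_of_projective R _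
  have : Algebra.FinitePresentation R (MonoidAlgebra R (Multiplicative M)) :=
    Algebra.FinitePresentation.of_finitePresentation R _
  exact RingHom.finitePresentation_algebraMap.2 inferInstance

end

section

variable (S : Scheme.{u}) (M : Type) [AddCommGroup M] [Finite M]

instance isFinite_DS : IsFinite (Red.DS S M).hom :=
  inferInstanceAs (IsFinite (pullback.snd (Red.diag (ULift.{u} ℤ) M).hom (specULiftZIsTerminal.from S)))

instance flat_DS : Flat (Red.DS S M).hom :=
  inferInstanceAs (Flat (pullback.snd (Red.diag (ULift.{u} ℤ) M).hom (specULiftZIsTerminal.from S)))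

instance lfp_DS : LocallyOfFinitePresentation (Red.DS S M).hom :=
  inferInstanceAs (LocallyOfFinitePresentation (pullback.snd (Red.diag (ULift.{u} ℤ) M).hom (specULiftZIsTerminal.from S)))

end

end K998.Diag
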