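import Mathlib.Algebra.Homology.DerivedCategory.Ext.ExactSequences
import Mathlib.CategoryTheory.Abelian.Exact
import Mathlib.CategoryTheory.Sites.SheafCohomology.Basic

/-!
# Kummer type exact sequences in Ext groups
-/

set_option autoImplicit false
universe w v u

open CategoryTheory CategoryTheory.Limits CategoryTheory.Abelian

namespace K998.ExtKummer

variable {C : Type u} [Category.{v} C] [Abelian C] [HasExt.{w} C]

/-- Postcomposing with `n • 𝟙` is multiplication by `n`. -/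
theorem comp_mk₀_nsmul_id {X Y : C} {i : ℕ} (ξ : Ext X Y i) (n : ℕ) :
    ξ.comp (Ext.mk₀ (n • 𝟙 Y)) (add_zero i) = n • ξ := by
  induction n with
  | zero => simp
  | succ n ih => rw [succ_nsmul, Ext.mk₀_add, Ext.comp_add, ih, Ext.comp_mk₀_id, succ_nsmul]

variable (Z A : C) (n : ℕ)

/-- The short exact sequence `0 → A[n] → A → A → 0`. -/
theorem shortExact [Epi (n • 𝟙 A)] :
    (ShortComplex.mk (kernel.ι (n • 𝟙 A)) (n • 𝟙 A) (kernel.condition _)).ShortExact :=
  { exact := ShortComplex.exact_kernel (n • 𝟙 A)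
    mono_f := inferInstanceAs (Mono (kernel.ι (n • 𝟙 A)))
    epi_g := inferInstance }

/-- The image of `Ext^i(Z, A[n]) → Ext^i(Z, A)` is the `n`-torsion. -/
theorem range_eq [Epi (n • 𝟙 A)] (i : ℕ) :
    ((Ext.mk₀ (kernel.ι (n • 𝟙 A))).postcomp Z (add_zero i)).range =
      (DistribSMul.toAddMonoidHom (Ext Z A i) n).ker := by
  ext x
  constructor
  · rintro ⟨y, rfl⟩
    change n • (y.comp (Ext.mk₀ (kernel.ι (n • 𝟙 A))) (add_zero i)) = 0
    rw [← comp_mk₀_nsmul_id, Ext.comp_assoc_of_third_deg_zero, Ext.mk₀_comp_mk₀, kernel.condition,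
      Ext.mk₀_zero, Ext.comp_zero]
  · intro hx
    have hx' : n • x = 0 := hx
    obtain ⟨y, hy⟩ := Ext.covariant_sequence_exact₂ Z (shortExact A n) x ((comp_mk₀_nsmul_id x n).trans hx')
    exact ⟨y, hy⟩

/-- The kernel of `Ext^{i+1}(Z, A[n]) → Ext^{i+1}(Z, A)` is `Ext^i(Z, A) / n`. -/
theorem nonempty_ker_equiv [Epi (n • 𝟙 A)] (i : ℕ) :
    Nonempty (((Ext.mk₀ (kernel.ι (n • 𝟙 A))).postcomp Z (add_zero (i + 1))).ker ≃+
      Ext Z A i ⧸ (DistribSMul.toAddMonoidHom (Ext Z A i) n).range) := by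
  let hS := shortExact A n
  let δ : Ext Z A i →+ Ext Z (kernel (n • 𝟙 A)) (i + 1) := hS.extClass.postcomp Z rfl
  have hδ : ∀ x, δ x = x.comp hS.extClass rfl := fun _ => rfl
  have h1 : δ.range = ((Ext.mk₀ (kernel.ι (n • 𝟙 A))).postcomp Z (add_zero (i + 1))).ker := by
    ext y
    constructor
    · rintro ⟨x, rfl⟩
      change (x.comp hS.extClass rfl).comp (Ext.mk₀ (kernel.ι (n • 𝟙 A))) (add_zero (i + 1)) = 0
      rw [Ext.comp_assoc_of_third_deg_zero]
      have h : hS.extClass.comp (Ext.mk₀ (kernel.ι (n • 𝟙 A))) (add_zero 1) = 0 := hS.extClass_comp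
      rw [h, Ext.comp_zero]
    · intro hy
      obtain ⟨x, hx⟩ := Ext.covariant_sequence_exact₁ Z hS y hy rfl
      exact ⟨x, hx⟩
  have h2 : δ.ker = (DistribSMul.toAddMonoidHom (Ext Z A i) n).range := by
    ext x
    constructor
    · intro hx
      obtain ⟨y, hy⟩ := Ext.covariant_sequence_exact₃ Z hS x (n₁ := i + 1) rfl hx
      exact ⟨y, (comp_mk₀_nsmul_id y n).symm.trans hy⟩
    · rintro ⟨y, rfl⟩
      change δ (n • y) = 0
      rw [hδ, ← comp_mk₀_nsmul_id, Ext.comp_assoc_of_second_deg_zero]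
      have h : (Ext.mk₀ (n • 𝟙 A)).comp hS.extClass (zero_add 1) = 0 := hS.comp_extClass
      rw [h, Ext.comp_zero]
  refine ⟨?_⟩
  refine (AddEquiv.addSubgroupCongr h1).symm.trans ?_
  refine (QuotientAddGroup.quotientKerEquivRange δ).symm.trans ?_
  exact QuotientAddGroup.quotientAddEquivOfEq h2

end K998.ExtKummer
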