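import Groth.Agent.StCoh.K998.BGc
import Groth.Prelude.Def_CGrpSh2
import Groth.Prelude.Def_GmPts2

/-!
# Sections of the dual sheaf as families of characters
-/

set_option autoImplicit false
set_option linter.unusedSectionVars false
set_option backward.isDefEq.respectTransparency false
set_option backward.isDefEq.respectTransparency.types false

universe w v₁ u₁ v₂ u₂ u

open CategoryTheory CategoryTheory.Limits Opposite AlgebraicGeometry MonoidalCategory CartesianMonoidalCategory MonObj GrpObj

namespace K998.Dual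

open BGc

variable {S : Scheme.{u}} (K : Precoverage Scheme.{u}) [(QuotSh.J K S).Subcanonical]
  (G : Over S) [GrpObj G] [IsCommMonObj G]

/-- The multiplicativity of a family. -/
def IsMulF {T : Over S} (χ : Fam G T 1) : Prop :=
  ∀ (T' : Over S) (t : T' ⟶ T) (g h : T' ⟶ G), χ T' t (fun _ => g * h) = χ T' t (fun _ => g) + χ T' t (fun _ => h)

theorem dF_one {T : Over S} (χ : Fam G T 1) (T' : Over S) (t : T' ⟶ T) (g : Fin 2 → (T' ⟶ G)) :
    dF χ T' t g = χ T' t (fun _ => g 1) - χ T' t (fun _ => g 0 * g 1) + χ T' t (fun _ => g 0) := by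
  have e0 : (fun i : Fin 1 => g i.succ) = fun _ => g 1 := by
    funext i
    rw [Fin.fin_one_eq_zero i]
    rfl
  have e1 : Fin.contractNth (0 : Fin 2) (· * ·) g = fun _ => g 0 * g 1 := by
    funext i
    rw [Fin.fin_one_eq_zero i]
    rfl
  have e2 : Fin.contractNth (1 : Fin 2) (· * ·) g = fun _ => g 0 := by
    funext i
    rw [Fin.fin_one_eq_zero i]
    rfl
  rw [dF, Fin.sum_univ_two, e0, e1, e2]
  simp only [Fin.val_zero, Fin.val_one, zero_add, pow_one, neg_smul, one_smul, one_add_one_eq_two, even_two, Even.neg_pow,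
    one_pow]
  abel

theorem dF_eq_zero_iff {T : Over S} (χ : Fam G T 1) : dF χ = 0 ↔ IsMulF G χ := by
  constructor
  · intro h T' t g k
    have h1 := congrFun (congrFun (congrFun h T') t) (fun i => if i = 0 then g else k)
    rw [dF_one] at h1
    have h2 : χ T' t (fun _ => k) - χ T' t (fun _ => g * k) + χ T' t (fun _ => g) = 0 := h1
    have h3 : χ T' t (fun _ => g * k) = χ T' t (fun _ => g) + χ T' t (fun _ => k) := by
      rw [← sub_eq_zero]
      rw [← neg_eq_zero, ← h2]
      abel
    exact h3
  · intro h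
    funext T' t g
    rw [dF_one, h]
    change _ = 0
    abel

/-- Families of characters. -/
def Zf (T : Over S) : AddSubgroup (Fam G T 1) where
  carrier := {χ | IsFam χ ∧ IsMulF G χ}
  zero_mem' := ⟨fun _ _ f _ _ => map_zero _, fun _ _ _ _ => (add_zero _).symm⟩
  add_mem' := fun {s t} hs ht => ⟨fun T' T'' f a v => by
      change res f (s T' a v + t T' a v) = s T'' _ _ + t T'' _ _
      rw [map_add, hs.1 f, ht.1 f],
    fun T' a g h => by
      change s T' a _ + t T' a _ = (s T' a _ + t T' a _) + (s T' a _ + t T' a _)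
      rw [hs.2, ht.2]
      abel⟩
  neg_mem' := fun {s} hs => ⟨fun T' T'' f a v => by
      change res f (- s T' a v) = - s T'' _ _
      rw [map_neg, hs.1 f],
    fun T' a g h => by
      change - s T' a _ = - s T' a _ + - s T' a _
      rw [hs.2]
      abel⟩

/-- points as sections -/
noncomputable abbrev pt {T' : Over S} (g : T' ⟶ G) : (CGrpSh.ptsPre G).obj (op T') := ULift.up (Additive.ofMul g)

/-- components -/
noncomputable def comp {T : Over S} (φ : (CGrpSh2.dualSh K (CGrpSh.pts K G)).obj.obj (op T)) (T' : Over S) (t : T' ⟶ T) :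
    (CGrpSh.ptsPre G).obj (op T') →+ U T' :=
  (((show (CGrpSh.pts K G).over T ⟶ (CGrpSh2.Gm K S).over T from φ).hom.app (op (Over.mk t))) ≫
    (GmPts.ptsUnitsPreIso S).hom.app (op T')).hom

theorem comp_nat {T : Over S} (φ : (CGrpSh2.dualSh K (CGrpSh.pts K G)).obj.obj (op T)) {T' T'' : Over S} (f : T'' ⟶ T')
    (t : T' ⟶ T) (x : (CGrpSh.ptsPre G).obj (op T')) :
    res f (comp K G φ T' t x) = comp K G φ T'' (f ≫ t) ((CGrpSh.ptsPre G).map f.op x) := by
  let φ' : (CGrpSh.pts K G).over T ⟶ (CGrpSh2.Gm K S).over T := φ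
  let k : Over.mk (f ≫ t) ⟶ Over.mk t := Over.homMk f rfl
  have h1 := ConcreteCategory.congr_hom (φ'.hom.naturality k.op) x
  have h2 := ConcreteCategory.congr_hom ((GmPts.ptsUnitsPreIso S).hom.naturality f.op) (φ'.hom.app (op (Over.mk t)) x)
  have h3 : (GmPts.ptsUnitsPreIso S).hom.app (op T'') ((CGrpSh.ptsPre (Red.Gm S)).map f.op (φ'.hom.app (op (Over.mk t)) x)) =
    (GmPts.ptsUnitsPreIso S).hom.app (op T'') (φ'.hom.app (op (Over.mk (f ≫ t))) ((CGrpSh.ptsPre G).map f.op x)) :=
      congrArg _ h1.symm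
  exact h2.symm.trans h3

/-- Sections of the dual sheaf to families. -/
noncomputable def toZ (T : Over S) : (CGrpSh2.dualSh K (CGrpSh.pts K G)).obj.obj (op T) →+ Zf G T where
  toFun φ := ⟨fun T' t g => comp K G φ T' t (pt G (g 0)), fun T' T'' f t g => comp_nat K G φ f t _,
    fun T' t g h => map_add (comp K G φ T' t) (pt G g) (pt G h)⟩
  map_zero' := by
    apply Subtype.ext
    funext T' t g
    exact map_zero (((GmPts.ptsUnitsPreIso S).hom.app (op T')).hom)
  map_add' φ ψ := by
    apply Subtype.ext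
    funext T' t g
    exact map_add (((GmPts.ptsUnitsPreIso S).hom.app (op T')).hom) _ _

theorem toZ_injective (T : Over S) : Function.Injective (toZ K G T) := by
  intro φ ψ h
  let φ' : (CGrpSh.pts K G).over T ⟶ (CGrpSh2.Gm K S).over T := φ
  let ψ' : (CGrpSh.pts K G).over T ⟶ (CGrpSh2.Gm K S).over T := ψ
  have key : φ' = ψ' := by
    apply Sheaf.hom_ext
    ext X x
    have h1 := congrFun (congrFun (congrFun (congrArg Subtype.val h) X.unop.left) X.unop.hom) (fun _ => x.down.toMul)
    have hinj : Function.Injective ((GmPts.ptsUnitsPreIso S).hom.app (op X.unop.left)).hom :=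
      ((AddCommGrpCat.mono_iff_injective _).1 inferInstance)
    exact hinj h1
  exact key

theorem toZ_surjective (T : Over S) : Function.Surjective (toZ K G T) := by
  rintro ⟨χ, h1, h2⟩
  let φ : (CGrpSh.pts K G).over T ⟶ (CGrpSh2.Gm K S).over T :=
    ⟨{ app := fun X => AddCommGrpCat.ofHom (((GmPts.ptsUnitsPreIso S).inv.app (op X.unop.left)).hom.comp
          (AddMonoidHom.mk' (fun x : (CGrpSh.ptsPre G).obj (op X.unop.left) => χ X.unop.left X.unop.hom (fun _ => x.down.toMul))
            (fun x y => h2 _ _ _ _)))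
       naturality := fun X Y f => by
          ext x
          have e1 := ConcreteCategory.congr_hom ((GmPts.ptsUnitsPreIso S).inv.naturality f.unop.left.op)
            (χ X.unop.left X.unop.hom (fun _ => x.down.toMul))
          refine Eq.trans ?_ e1
          change ((GmPts.ptsUnitsPreIso S).inv.app (op Y.unop.left)).hom (χ Y.unop.left Y.unop.hom
            (fun _ => f.unop.left ≫ x.down.toMul)) = ((GmPts.ptsUnitsPreIso S).inv.app (op Y.unop.left)).hom
              (res f.unop.left (χ X.unop.left X.unop.hom (fun _ => x.down.toMul)))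
          rw [h1 f.unop.left, Over.w f.unop] }⟩
  refine ⟨φ, Subtype.ext ?_⟩
  funext T' t g
  have e1 : (fun _ => g 0) = g := by
    funext i
    rw [Fin.fin_one_eq_zero i]
  have e2 := ConcreteCategory.congr_hom ((GmPts.ptsUnitsPreIso S).inv_hom_id_app (op T')) (χ T' t (fun _ => g 0))
  exact e2.trans (congrArg (χ T' t) e1)

/-- Sections of the dual sheaf are families of characters. -/
noncomputable def dualEquiv (T : Over S) : (CGrpSh2.dualSh K (CGrpSh.pts K G)).obj.obj (op T) ≃+ Zf G T :=
  AddEquiv.ofBijective (toZ K G T) ⟨toZ_injective K G T, toZ_surjective K G T⟩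

/-- restriction of families -/
def resF {T T' : Over S} (f : T' ⟶ T) {n : ℕ} (F : Fam G T n) : Fam G T' n := fun T'' t g => F T'' (t ≫ f) g

theorem dualEquiv_res {T T' : Over S} (f : T' ⟶ T) (φ : (CGrpSh2.dualSh K (CGrpSh.pts K G)).obj.obj (op T)) :
    (dualEquiv K G T' ((CGrpSh2.dualSh K (CGrpSh.pts K G)).obj.map f.op φ)).1 = resF G f (dualEquiv K G T φ).1 := by
  funext T'' t g
  rfl

end K998.Dual
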