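import Groth.Agent.StCoh.K998.Eps
import Groth.Agent.StCoh.K998.GmCA
import Groth.Prelude.Def_EtDlF

/-!
# The multiplicative group on categories fibred in groupoids over schemes
-/

set_option autoImplicit false
set_option backward.isDefEq.respectTransparency false
set_option backward.isDefEq.respectTransparency.types false

universe w v₁ u₁ v₂ u₂ u

open CategoryTheory CategoryTheory.Limits Opposite AlgebraicGeometry

namespace K998.Gm

open FG Transfer Groth.Agent.Etrest FppfMain BigEtSite Glob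

variable {C : Type (u + 1)} [Category.{u} C] {q : C ⥤ Scheme.{u}}

/-- units of global functions -/
noncomputable abbrev gmP (q : C ⥤ Scheme.{u}) : Cᵒᵖ ⥤ AddCommGrpCat.{u + 1} := q.op ⋙ EtCoh.ΓUnits.{u}

/-- The unit of a section. -/
def uo {q : C ⥤ Scheme.{u}} {W : C} (s : (gmP q).obj (op W)) : (Γ(q.obj W, ⊤))ˣ := Additive.toMul s.down

/-- The section of a unit. -/
def ou {q : C ⥤ Scheme.{u}} {W : C} (s : (Γ(q.obj W, ⊤))ˣ) : (gmP q).obj (op W) := ULift.up (Additive.ofMul s)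

theorem uo_ou {W : C} (s : (Γ(q.obj W, ⊤))ˣ) : uo (ou (q := q) s) = s := rfl

theorem ou_uo {W : C} (s : (gmP q).obj (op W)) : ou (uo s) = s := rfl

theorem uo_add {W : C} (s t : (gmP q).obj (op W)) : uo (s + t) = uo s * uo t := rfl

theorem uo_zero {W : C} : uo (0 : (gmP q).obj (op W)) = 1 := rfl

theorem uo_injective {W : C} {s t : (gmP q).obj (op W)} (h : uo s = uo t) : s = t := by
  rw [← ou_uo s, h, ou_uo]

theorem uo_map {W W' : C} (f : W' ⟶ W) (s : (gmP q).obj (op W)) :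
    uo ((gmP q).map f.op s) = Units.map (q.map f).appTop.hom.toMonoidHom (uo s) := rfl

theorem isSheaf_gmP (hq : IsFG q) : Presheaf.IsSheaf (topo hq Scheme.fppfTopology.{u}) (gmP q) := by
  have := isContinuous hq Scheme.fppfTopology.{u}
  exact q.op_comp_isSheaf (topo hq Scheme.fppfTopology.{u}) Scheme.fppfTopology.{u}
    ⟨EtCoh.ΓUnits.{u}, EtDl.isSheaf_ΓUnits_fppf⟩

/-- The fppf sheaf. -/
noncomputable def gmF (hq : IsFG q) : AbC hq := ⟨gmP q, isSheaf_gmP hq⟩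

/-- The restriction to slices. -/
noncomputable def gmEx (hq : IsFG q) (x : C) : GmPts.unitsPre (q.obj x) ≅ (ex hq x).op ⋙ gmP q :=
  Functor.isoWhiskerRight (NatIso.op (exIso hq x)) EtCoh.ΓUnits.{u}

theorem pca_gm (hq : IsFG q) : PCA hq (gmP q) := fun x => (GmCA.ca_units (q.obj x)).of_iso (gmEx hq x)

section St

variable {S : Scheme.{u}} (K : Precoverage Scheme.{u}) [(QuotSh.J K S).Subcanonical]

/-- The comparison. -/
noncomputable def gmIso {𝒳 : AlgSt.Cat S} [StCoh.BaseCont K 𝒳] : gmP (Shift.qf 𝒳.p) ≅ (StCoh.Gm K 𝒳).obj :=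
  (Functor.isoWhiskerLeft 𝒳.p.op (GmPts.ptsUnitsPreIso S)).symm

theorem J_et {𝒳 : AlgSt.Cat S} (h : IsFG 𝒳.p) : StCoh.J Scheme.etalePrecoverage 𝒳 =
    topo (Shift.isFG_qf h) Scheme.etaleTopology.{u} := by
  rw [J_eq _ h, topo_comp _ h (IsFG.over_forget S) (Shift.isFG_qf h), ← over_eq]
  rfl

theorem J_fppf {𝒳 : AlgSt.Cat S} (h : IsFG 𝒳.p) : StCoh.J Scheme.fppfPrecoverage 𝒳 =
    topo (Shift.isFG_qf h) Scheme.fppfTopology.{u} := by
  rw [J_eq _ h, topo_comp _ h (IsFG.over_forget S) (Shift.isFG_qf h), ← over_eq]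

end St

/-- Étale cohomology of `G_m`. -/
theorem exists_ext_gm {S : Scheme.{u}} {𝒳 : AlgSt.Cat S} (h : IsFG 𝒳.p) [StCoh.BaseCont Scheme.etalePrecoverage 𝒳] :
    ∃ (A : Shift.AF h) (g : ∀ W : 𝒳.obj, A.obj.obj (op W)), IsGS A g ∧ ∀ n : ℕ,
      Nonempty (StCoh.H Scheme.etalePrecoverage (StCoh.Gm Scheme.etalePrecoverage 𝒳) n ≃+
        Abelian.Ext.{u + 1} A (gmF (Shift.isFG_qf h)) n) := by
  obtain ⟨A, g, hA, hF⟩ := Eps.exists_ext (Shift.isFG_qf h) (J_et h)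
  exact ⟨A, g, hA, fun n => hF _ (gmF (Shift.isFG_qf h)) (gmIso _) (pca_gm _) n⟩

/-- fppf cohomology of `G_m`. -/
theorem exists_ext_gm_fppf {S : Scheme.{u}} {𝒳 : AlgSt.Cat S} (h : IsFG 𝒳.p) [StCoh.BaseCont Scheme.fppfPrecoverage 𝒳] :
    ∃ (A : Shift.AF h) (g : ∀ W : 𝒳.obj, A.obj.obj (op W)), IsGS A g ∧ ∀ n : ℕ,
      Nonempty (StCoh.H Scheme.fppfPrecoverage (StCoh.Gm Scheme.fppfPrecoverage 𝒳) n ≃+
        Abelian.Ext.{u + 1} A (gmF (Shift.isFG_qf h)) n) := by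
  obtain ⟨A, g, hA, hF⟩ := Eps.exists_ext_fppf (Shift.isFG_qf h) (J_fppf h)
  exact ⟨A, g, hA, fun n => hF _ (gmF (Shift.isFG_qf h)) (gmIso _) n⟩

end K998.Gm
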