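import Groth.Agent.StCoh.K998.Push
import Groth.Agent.StCoh.K998.Gm

/-!
# Higher direct images to the base
-/

set_option autoImplicit false
set_option linter.unusedSectionVars false
set_option backward.isDefEq.respectTransparency false
set_option backward.isDefEq.respectTransparency.types false

universe w v₁ u₁ v₂ u₂ u

open CategoryTheory CategoryTheory.Limits Opposite AlgebraicGeometry

namespace K998.RPush

open FG Transfer Coch Shift Glob Pf Push Gm Groth.Agent.Etrest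

variable {S : Scheme.{u}} (K : Precoverage Scheme.{u}) {𝒳 : AlgSt.Cat S} (hp : IsFG 𝒳.p)

/-- The topologies for which everything works. -/
structure Good : Prop where
  le : StCoh.J K 𝒳 ≤ topo (isFG_qf hp) Scheme.fppfTopology.{u}
  epi : ∀ (E : ShortComplex (AF hp)), E.ShortExact → Injective E.X₂ → PCA (isFG_qf hp) E.X₁.obj →
    Epi ((Eps.R.{u + 1} le).map E.g)
  cov : ∀ (T : Over S) (R : Sieve T), (∀ τ : T.left, ∃ (T' : Over S) (g : T' ⟶ T), R g ∧ Etale g.left ∧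
    τ ∈ Set.range g.left) → R ∈ StCoh.J K (FibCat.selfOver (Over S)) T

theorem cov_self_et (T : Over S) (R : Sieve T) (h : ∀ τ : T.left, ∃ (T' : Over S) (g : T' ⟶ T), R g ∧ Etale g.left ∧
    τ ∈ Set.range g.left) : R ∈ StCoh.J Scheme.etalePrecoverage (FibCat.selfOver (Over S)) T := by
  have h0 : IsFG (FibCat.selfOver (Over S)).p := isFG_id
  rw [J_et h0]
  exact (mem_topo_et (isFG_qf h0) (W := T) R).2 h

theorem cov_self_fppf (T : Over S) (R : Sieve T) (h : ∀ τ : T.left, ∃ (T' : Over S) (g : T' ⟶ T), R g ∧ Etale g.left ∧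
    τ ∈ Set.range g.left) : R ∈ StCoh.J Scheme.fppfPrecoverage (FibCat.selfOver (Over S)) T := by
  have h0 : IsFG (FibCat.selfOver (Over S)).p := isFG_id
  rw [J_fppf h0]
  refine (mem_topo_fppf (isFG_qf h0) (W := T) R).2 fun z => ?_
  obtain ⟨T', g, h1, h2, h3⟩ := h z
  exact ⟨T', g, h1, inferInstanceAs (Flat g.left), inferInstanceAs (LocallyOfFinitePresentation g.left), h3⟩

theorem epi_R_et {J : GrothendieckTopology 𝒳.obj} (hJ : J = topo (isFG_qf hp) Scheme.etaleTopology.{u})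
    (hle : J ≤ topo (isFG_qf hp) Scheme.fppfTopology.{u}) {E : ShortComplex (AF hp)} (hE : E.ShortExact)
    (hI : Injective E.X₂) (hP : PCA (isFG_qf hp) E.X₁.obj) : Epi ((Eps.R.{u + 1} hle).map E.g) := by
  subst hJ
  exact Eps.epi_of_ls _ _ (ls_of (isFG_qf hp) (Transfer.shift (isFG_qf hp) hE hP).2)

theorem epi_R_fppf {J : GrothendieckTopology 𝒳.obj} (hJ : J = topo (isFG_qf hp) Scheme.fppfTopology.{u})
    (hle : J ≤ topo (isFG_qf hp) Scheme.fppfTopology.{u}) {E : ShortComplex (AF hp)} (hE : E.ShortExact) :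
    Epi ((Eps.R.{u + 1} hle).map E.g) := by
  subst hJ
  have h1 := hE.epi_g
  have h2 : Sheaf.IsLocallySurjective E.g := (Sheaf.isLocallySurjective_iff_epi' (φ := E.g)).2 h1
  exact (Sheaf.isLocallySurjective_iff_epi' (φ := (Eps.R.{u + 1} hle).map E.g)).1 h2

theorem good_et : Good Scheme.etalePrecoverage hp where
  le := by
    rw [J_et hp]
    exact Eps.le _
  epi E hE hI hP := epi_R_et hp (J_et hp) _ hE hI hP
  cov := cov_self_et

theorem good_fppf : Good Scheme.fppfPrecoverage hp where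
  le := by
    rw [J_fppf hp]
  epi E hE _ _ := epi_R_fppf hp (J_fppf hp) _ hE
  cov := cov_self_fppf

section Main

variable {K hp} (hg : Good K hp) [StCoh.MorCont K (FibCat.toSelf 𝒳)] [StCoh.MorCocont K (FibCat.toSelf 𝒳)]

/-- the inclusion -/
noncomputable abbrev RR : AF hp ⥤ StCoh.Ab K 𝒳 := Eps.R.{u + 1} hg.le

/-- the push-forward -/
noncomputable abbrev pu (𝒳 : AlgSt.Cat S) [StCoh.MorCocont K (FibCat.toSelf 𝒳)] :
    StCoh.Ab K 𝒳 ⥤ StCoh.Ab K (FibCat.selfOver (Over S)) := StCoh.push K (FibCat.toSelf 𝒳)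

theorem shortExact_RR {E : ShortComplex (AF hp)} (hE : E.ShortExact) (hI : Injective E.X₂)
    (hP : PCA (isFG_qf hp) E.X₁.obj) : (E.map (RR hg)).ShortExact := by
  have := hE.mono_f
  have h1 : Epi ((RR hg).map E.g) := hg.epi E hE hI hP
  have h2 : PreservesFiniteLimits (RR hg) := inferInstance
  exact { exact := hE.exact.map_of_mono_of_preservesKernel (RR hg) inferInstance inferInstance
          mono_f := inferInstanceAs (Mono ((RR hg).map E.f))
          epi_g := h1 }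

theorem injective_RR (I : AF hp) [hI : Injective I] : Injective ((RR hg).obj I) := Eps.injective_R hg.le I hI

/-- sections of the push-forward -/
noncomputable def puIso (F : AF hp) : ((pu 𝒳).obj ((RR hg).obj F)).obj ≅ (pf 𝒳.p).obj F.obj := (ranIso 𝒳.p).app F.obj

theorem puIso_nat {F F' : AF hp} (f : F ⟶ F') :
    ((pu 𝒳).map ((RR hg).map f)).hom ≫ (puIso hg F').hom = (puIso hg F).hom ≫ (pf 𝒳.p).map f.hom :=
  (ranIso 𝒳.p).hom.naturality f.hom

instance : PreservesFiniteLimits (pu (K := K) 𝒳) := by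
  have : PreservesLimitsOfSize.{0, 0} (pu (K := K) 𝒳) := (StCoh.pullPushAdj K (FibCat.toSelf 𝒳)).rightAdjoint_preservesLimits
  exact PreservesLimitsOfSize.preservesFiniteLimits _

variable {x₀ : 𝒳.obj} (h : Cov 𝒳.p x₀)

include h in
theorem epi_pu (F : AF hp) (hF : PCA (isFG_qf hp) F.obj) {D : Pts S} (hD : ∀ (T : Over S) (τ : T.left), D.Cd T τ)
    (hl : LCo 𝒳.p x₀ 1 D F.obj 0) {I Q : AF hp} {ι : F ⟶ I} {π : I ⟶ Q} {w : ι ≫ π = 0}
    (hE : (ShortComplex.mk ι π w).ShortExact) (hI : Injective I) : Epi ((pu 𝒳).map ((RR hg).map π)) := by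
  have h2 : Injective (ShortComplex.mk ι π w).X₂ := hI
  exact epi_of_lco hp h hg.cov hE hF ((pu 𝒳).map ((RR hg).map π)) (puIso hg I) (puIso hg Q) (puIso_nat hg π) hD hl

theorem t1 {E : ShortComplex (StCoh.Ab K 𝒳)} (hs : E.ShortExact) (hI : Injective E.X₂) (he : Epi ((pu 𝒳).map E.g)) :
    IsZero (((pu (K := K) 𝒳).rightDerived 1).obj E.X₁) := RD.isZero_one (pu 𝒳) hs he

theorem t2 {E : ShortComplex (StCoh.Ab K 𝒳)} (hs : E.ShortExact) (hI : Injective E.X₂) (n : ℕ) :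
    Nonempty (((pu (K := K) 𝒳).rightDerived (n + 1)).obj E.X₃ ≅ ((pu (K := K) 𝒳).rightDerived (n + 2)).obj E.X₁) :=
  RD.nonempty_succ (pu 𝒳) hs n

theorem t3 {E : ShortComplex (StCoh.Ab K 𝒳)} (hs : E.ShortExact) (hI : Injective E.X₂) :
    ∃ (δ : (pu 𝒳).obj E.X₃ ⟶ ((pu (K := K) 𝒳).rightDerived 1).obj E.X₁) (w : (pu 𝒳).map E.g ≫ δ = 0),
      (ShortComplex.mk ((pu 𝒳).map E.g) δ w).Exact ∧ Epi δ :=
  RD.exists_one (pu 𝒳) hs

include h in
/-- Vanishing of `R¹`. -/
theorem isZero_one (F : AF hp) (hF : PCA (isFG_qf hp) F.obj) {D : Pts S} (hD : ∀ (T : Over S) (τ : T.left), D.Cd T τ)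
    (hl : LCo 𝒳.p x₀ 1 D F.obj 0) : IsZero (((pu (K := K) 𝒳).rightDerived 1).obj ((RR hg).obj F)) := by
  obtain ⟨I, Q, ι, π, w, hE, hI⟩ := exists_ses F
  exact t1 (E := (ShortComplex.mk ι π w).map (RR hg)) (shortExact_RR hg hE hI hF) (injective_RR hg I)
    (epi_pu hg h F hF hD hl hE hI)

include h in
/-- Vanishing of `R²`. -/
theorem isZero_two (F : AF hp) (hF : PCA (isFG_qf hp) F.obj) {D : Pts S} (hD : ∀ (T : Over S) (τ : T.left), D.Cd T τ)
    (hl : LCo 𝒳.p x₀ 1 D F.obj 1) : IsZero (((pu (K := K) 𝒳).rightDerived 2).obj ((RR hg).obj F)) := by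
  obtain ⟨I, Q, ι, π, w, hE, hI⟩ := exists_ses F
  have h2 : Injective (ShortComplex.mk ι π w).X₂ := hI
  obtain ⟨e⟩ := t2 (E := (ShortComplex.mk ι π w).map (RR hg)) (shortExact_RR hg hE hI hF) (injective_RR hg I) 0
  exact IsZero.of_iso (isZero_one hg h Q (Transfer.shift (isFG_qf hp) hE hF).1 hD (shift_lc hp h hE hF hl)) e.symm

include h in
/-- The first direct image. -/
theorem exists_iso_one (F : AF hp) (hF : PCA (isFG_qf hp) F.obj)
    (hB : ∀ (T : Over S) (c : Zc 𝒳.p x₀ F.obj T 1), c ∈ Bc 𝒳.p x₀ F.obj T 0 → c = 0)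
    (D : StCoh.Ab K (FibCat.selfOver (Over S))) (eD : D.obj ≅ zPre 𝒳.p x₀ F.obj 1) :
    Nonempty (((pu (K := K) 𝒳).rightDerived 1).obj ((RR hg).obj F) ≅ D) := by
  obtain ⟨I, Q, ι, π, w, hE, hI⟩ := exists_ses F
  have h2 : Injective (ShortComplex.mk ι π w).X₂ := hI
  obtain ⟨δ, wδ, hex, hepi⟩ := t3 (E := (ShortComplex.mk ι π w).map (RR hg)) (shortExact_RR hg hE hI hF)
    (injective_RR hg I)
  obtain ⟨e⟩ := coker_iso hp h hg.cov hE hF ((pu 𝒳).map ((RR hg).map π)) (puIso hg I) (puIso hg Q) (puIso_nat hg π)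
    hB δ wδ hex hepi D eD
  exact ⟨e.symm⟩

end Main

end K998.RPush
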