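import Groth.Agent.StCoh.K998.BGs
import Mathlib.Data.Fin.Tuple.Basic
import Mathlib.Algebra.BigOperators.Fin

/-!
# Čech cochains of `G_m` on classifying stacks are Hochschild cochains
-/

set_option autoImplicit false
set_option backward.isDefEq.respectTransparency false
set_option backward.isDefEq.respectTransparency.types false

universe w v₁ u₁ v₂ u₂ u

open CategoryTheory CategoryTheory.Limits Opposite AlgebraicGeometry MonoidalCategory CartesianMonoidalCategory MonObj GrpObj

namespace K998.BGc

open FG Transfer Shift Coch Gm Glob K943.QuotAtlas AlgSt BGs Groth.Agent.Etrest FppfCoch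

variable {S : Scheme.{u}} {G : Over S} [GrpObj G]

/-- units -/
noncomputable abbrev U (T : Over S) : AddCommGrpCat.{u + 1} := EtCoh.ΓUnits.{u}.obj (op T.left)

/-- restriction of units -/
noncomputable abbrev res {T T' : Over S} (f : T' ⟶ T) : U T ⟶ U T' := EtCoh.ΓUnits.{u}.map f.left.op

theorem res_comp {T T' T'' : Over S} (f : T' ⟶ T) (g : T'' ⟶ T') (x : U T) : res g (res f x) = res (g ≫ f) x := by
  rw [← ConcreteCategory.comp_apply, ← Functor.map_comp]
  rfl

theorem res_id {T : Over S} (x : U T) : res (𝟙 T) x = x := by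
  change (EtCoh.ΓUnits.{u}.map (𝟙 T.left).op) x = x
  rw [op_id, CategoryTheory.Functor.map_id]
  rfl

variable (G) in
/-- Families of units indexed by tuples of points of `G`. -/
abbrev Fam (T : Over S) (n : ℕ) : Type _ := ∀ (T' : Over S) (_ : T' ⟶ T) (_ : Fin n → (T' ⟶ G)), U T'

/-- Naturality. -/
def IsFam {T : Over S} {n : ℕ} (F : Fam G T n) : Prop :=
  ∀ ⦃T' T'' : Over S⦄ (f : T'' ⟶ T') (t : T' ⟶ T) (g : Fin n → (T' ⟶ G)),
    res f (F T' t g) = F T'' (f ≫ t) (fun i => f ≫ g i)

/-- The Hochschild differential. -/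
noncomputable def dF {T : Over S} {n : ℕ} (F : Fam G T n) : Fam G T (n + 1) := fun T' t g =>
  F T' t (fun i => g i.succ) +
    ∑ j : Fin (n + 1), (-1 : ℤ) ^ ((j : ℕ) + 1) • F T' t (Fin.contractNth j (· * ·) g)

/-- the site -/
noncomputable abbrev pp (G : Over S) [GrpObj G] : QuotObj Scheme.fppfPrecoverage G (trivAction G) ⥤ Over S :=
  (AlgSt.BG Scheme.fppfPrecoverage G).p

/-- the covering object -/
noncomputable abbrev xx (G : Over S) [GrpObj G] : QuotObj Scheme.fppfPrecoverage G (trivAction G) :=
  xb Scheme.fppfPrecoverage G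

/-- Cochains to families. -/
noncomputable def toF {T : Over S} {n : ℕ} (c : Cc (pp G) (xx G) (gmP (qf (pp G))) T n) : Fam G T n := fun T' t g =>
  c (tau _ G T') t (fun i => rho (Fin.partialProd g i))

/-- Families to cochains. -/
noncomputable def ofF {T : Over S} {n : ℕ} (F : Fam G T n) : Cc (pp G) (xx G) (gmP (qf (pp G))) T n := fun W t v =>
  F W.base t (fun i => dv (v i.castSucc) (v i.succ))

theorem comp_partialProd {T T' : Over S} (f : T' ⟶ T) {n : ℕ} (g : Fin n → (T ⟶ G)) (i : Fin (n + 1)) :
    f ≫ Fin.partialProd g i = Fin.partialProd (fun j => f ≫ g j) i := by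
  induction i using Fin.induction with
  | zero => rw [Fin.partialProd_zero, Fin.partialProd_zero, comp_one]
  | succ i ih => rw [Fin.partialProd_succ, Fin.partialProd_succ, comp_mul, ih]

theorem isFam_toF {T : Over S} {n : ℕ} {c : Cc (pp G) (xx G) (gmP (qf (pp G))) T n} (hc : IsC c) : IsFam (toF c) := by
  intro T' T'' f t g
  refine (hc (tmap f) t (fun i => rho (Fin.partialProd g i))).trans ?_
  change c (tau _ G T'') (f ≫ t) _ = c (tau _ G T'') (f ≫ t) _
  congr 1
  funext i
  rw [tmap_rho, comp_partialProd]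

theorem isC_ofF {T : Over S} {n : ℕ} {F : Fam G T n} (hF : IsFam F) : IsC (ofF F) := by
  intro W W' f t v
  refine (hF f.base t _).trans ?_
  change F W'.base (f.base ≫ t) _ = F W'.base (f.base ≫ t) _
  congr 1
  funext i
  exact (dv_comp f _ _).symm

theorem toF_ofF {T : Over S} {n : ℕ} (F : Fam G T n) : toF (ofF F) = F := by
  funext T' t g
  change F T' t (fun i => dv (rho (Fin.partialProd g i.castSucc)) (rho (Fin.partialProd g i.succ))) = _
  congr 1
  funext i
  rw [dv_rho, Fin.partialProd_right_inv]

theorem partialProd_dv {W : QuotObj Scheme.fppfPrecoverage G (trivAction G)} {n : ℕ} (v : Fin (n + 1) → (W ⟶ xx G))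
    (i : Fin (n + 1)) : Fin.partialProd (fun i : Fin n => dv (v i.castSucc) (v i.succ)) i = dv (v 0) (v i) := by
  induction i using Fin.induction with
  | zero => rw [Fin.partialProd_zero, dv_self]
  | succ i ih => rw [Fin.partialProd_succ, ih, dv_mul]

theorem ofF_toF {T : Over S} {n : ℕ} {c : Cc (pp G) (xx G) (gmP (qf (pp G))) T n} (hc : IsC c) : ofF (toF c) = c := by
  funext W t v
  have h1 := hc (iota (v 0)) t (fun i => rho (dv (v 0) (v i)))
  have h2 : (fun i => iota (v 0) ≫ rho (dv (v 0) (v i))) = v := by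
    funext i
    exact iota_rho (v 0) (v i)
  rw [h2] at h1
  have h3 : (pp G).map (iota (v 0)) ≫ t = t := Category.id_comp _
  rw [h3] at h1
  rw [← h1]
  change c (tau _ G W.base) t (fun i => rho (Fin.partialProd (fun i : Fin n => dv (v i.castSucc) (v i.succ)) i)) = _
  have h4 : (fun i => rho (K := Scheme.fppfPrecoverage) (Fin.partialProd (fun i : Fin n => dv (v i.castSucc) (v i.succ)) i)) =
      (fun i => rho (dv (v 0) (v i))) := by
    funext i
    rw [partialProd_dv]
  rw [h4]
  exact (res_id _).symm

theorem toF_injective {T : Over S} {n : ℕ} {c c' : Cc (pp G) (xx G) (gmP (qf (pp G))) T n} (hc : IsC c) (hc' : IsC c')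
    (h : toF c = toF c') : c = c' := by
  rw [← ofF_toF hc, h, ofF_toF hc']

theorem toF_dC {T : Over S} {n : ℕ} {c : Cc (pp G) (xx G) (gmP (qf (pp G))) T n} (hc : IsC c) :
    toF (dC c) = dF (toF c) := by
  funext T' t g
  change dS (c (tau _ G T') t) (fun i => rho (Fin.partialProd g i)) = _
  rw [dS, Fin.sum_univ_succ, dF]
  congr 1
  · rw [Fin.val_zero, pow_zero, one_smul]
    have h1 := hc (th (g 0)) t (fun i => rho (Fin.partialProd (Fin.tail g) i))
    have h2 : (pp G).map (th (g 0)) ≫ t = t := Category.id_comp _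
    rw [h2] at h1
    have h3 : (fun k => rho (K := Scheme.fppfPrecoverage) (Fin.partialProd g ((0 : Fin (n + 2)).succAbove k))) =
        fun i => th (g 0) ≫ rho (Fin.partialProd (Fin.tail g) i) := by
      funext k
      rw [Fin.succAbove_zero, th_rho, Fin.partialProd_succ']
    rw [h3, ← h1]
    exact res_id _
  · refine Finset.sum_congr rfl fun j _ => ?_
    rw [Fin.val_succ]
    congr 2
    funext k
    exact congrArg rho (congrFun (Fin.partialProd_contractNth g j) k).symm

theorem toF_add {T : Over S} {n : ℕ} (c c' : Cc (pp G) (xx G) (gmP (qf (pp G))) T n) :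
    toF (c + c') = toF c + toF c' := rfl

theorem isZ_iff {T : Over S} {n : ℕ} {c : Cc (pp G) (xx G) (gmP (qf (pp G))) T n} (hc : IsC c) :
    IsZ c ↔ dF (toF c) = 0 := by
  rw [← toF_dC hc]
  constructor
  · intro h
    have : dC c = 0 := by
      funext W t v
      exact h t v
    rw [this]
    rfl
  · intro h W t v
    have : dC c = 0 := toF_injective hc.dC (fun _ _ f _ _ => map_zero _) h
    exact congrFun (congrFun (congrFun this W) t) v

theorem isB_iff {T : Over S} {n : ℕ} {b : Cc (pp G) (xx G) (gmP (qf (pp G))) T n}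
    {c : Cc (pp G) (xx G) (gmP (qf (pp G))) T (n + 1)} (hb : IsC b) (hc : IsC c) :
    IsB b c ↔ dF (toF b) = toF c := by
  rw [← toF_dC hb]
  constructor
  · intro h
    have : dC b = c := by
      funext W t v
      exact h t v
    rw [this]
  · intro h W t v
    have : dC b = c := toF_injective hb.dC hc h
    exact congrFun (congrFun (congrFun this W) t) v

end K998.BGc
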