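import Groth.Agent.StCoh.K998.Quot

/-!
# Points of classifying stacks
-/

set_option autoImplicit false
set_option backward.isDefEq.respectTransparency false
set_option backward.isDefEq.respectTransparency.types false

universe w v₁ u₁ v₂ u₂ u

open CategoryTheory CategoryTheory.Limits Opposite AlgebraicGeometry MonoidalCategory CartesianMonoidalCategory MonObj GrpObj

namespace K998.BGs

open FG Transfer Shift K943.QuotAtlas AlgSt

variable {S : Scheme.{u}} {G : Over S} [GrpObj G] {K : Precoverage Scheme.{u}} [K.HasIsos]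

/-- trivial torsors -/
noncomputable abbrev tau (K : Precoverage Scheme.{u}) [K.HasIsos] (G : Over S) [GrpObj G] (T : Over S) :
    QuotObj K G (trivAction G) := uObj K (trivAction G) T (toUnit T)

/-- the covering object -/
noncomputable abbrev xb (K : Precoverage Scheme.{u}) [K.HasIsos] (G : Over S) [GrpObj G] :
    QuotObj K G (trivAction G) := uObj K (trivAction G) (𝟙_ (Over S)) (𝟙 _)

/-- pull-back of trivial torsors -/
noncomputable def tmap {T T' : Over S} (f : T' ⟶ T) : tau K G T' ⟶ tau K G T := uMap f (toUnit_unique _ _)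

theorem tmap_base {T T' : Over S} (f : T' ⟶ T) : (tmap (K := K) (G := G) f).base = f := rfl

theorem tmap_top {T T' : Over S} (f : T' ⟶ T) : (tmap (K := K) (G := G) f).top = G ◁ f := rfl

/-- right translations -/
noncomputable def thTop {T : Over S} (g : T ⟶ G) : G ⊗ T ⟶ G ⊗ T := lift (fst G T * (snd G T ≫ g)) (snd G T)

theorem thTop_comp {T : Over S} (g h : T ⟶ G) : thTop g ≫ thTop h = thTop (g * h) := by
  simp only [thTop, comp_lift, comp_mul, lift_fst, lift_snd, lift_snd_assoc, _root_.mul_assoc]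

theorem thTop_one {T : Over S} : thTop (1 : T ⟶ G) = 𝟙 _ := by
  simp only [thTop, comp_one, _root_.mul_one, lift_fst_snd]

instance {T : Over S} (g : T ⟶ G) : IsIso (thTop g) :=
  ⟨thTop g⁻¹, by rw [thTop_comp, mul_inv_cancel, thTop_one], by rw [thTop_comp, inv_mul_cancel, thTop_one]⟩

theorem thTop_cart {T : Over S} (g : T ⟶ G) : IsPullback (thTop g) (snd G T) (snd G T) (𝟙 T) :=
  IsPullback.of_horiz_isIso ⟨by rw [thTop, lift_snd, Category.comp_id]⟩

/-- right translations -/
noncomputable def th {T : Over S} (g : T ⟶ G) : tau K G T ⟶ tau K G T where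
  base := 𝟙 T
  top := thTop g
  eqv := by
    apply eqv_of_sm (a := AlgSt.leftMul G T) (a' := AlgSt.leftMul G T)
    intro Z h x
    obtain ⟨x1, x2, rfl⟩ : ∃ (x1 : Z ⟶ G) (x2 : Z ⟶ T), x = lift x1 x2 :=
      ⟨x ≫ fst _ _, x ≫ snd _ _, by simp⟩
    rw [sm_leftMul, sm_leftMul]
    simp only [thTop, comp_lift, comp_mul, lift_fst, lift_snd, lift_snd_assoc, _root_.mul_assoc]
  cart := thTop_cart g
  wφ := toUnit_unique _ _

/-- points of the torsor -/
noncomputable def rho {T : Over S} (g : T ⟶ G) : tau K G T ⟶ xb K G := th g ≫ uMap (toUnit T) (Category.comp_id _)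

theorem rho_ntop {T : Over S} (g : T ⟶ G) : ntop (rho (K := K) g) = lift (fst G T * (snd G T ≫ g)) (toUnit _) := by
  change thTop g ≫ (G ◁ toUnit T) = _
  rw [thTop, lift_whiskerLeft]
  congr 1
  exact toUnit_unique _ _

theorem toG_rho {T : Over S} (g : T ⟶ G) : toG (rho (K := K) g) = fst G T * (snd G T ≫ g) := by
  rw [toG, rho_ntop, lift_fst]

/-- Morphisms to `xb` are determined by the map to `G`. -/
theorem hom_ext_toG {c : QuotObj K G (trivAction G)} {n n' : c ⟶ xb K G} (h : toG n = toG n') : n = n' := by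
  apply QuotObj.hom_ext
  · exact toUnit_unique (nbase n) (nbase n')
  · change ntop n = ntop n'
    rw [top_eq n, top_eq n', h]
    congr 1
    exact toUnit_unique _ _

theorem toG_comp {c c' : QuotObj K G (trivAction G)} (f : c' ⟶ c) (n : c ⟶ xb K G) : toG (f ≫ n) = f.top ≫ toG n := by
  rw [toG, toG, ← Category.assoc]
  rfl

theorem sec_comp {c c' : QuotObj K G (trivAction G)} (f : c' ⟶ c) (n : c ⟶ xb K G) : sec (f ≫ n) ≫ f.top = f.base ≫ sec n := by
  apply (ncart n).hom_ext
  · have h1 : f.top ≫ ntop n = ntop (f ≫ n) := rfl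
    rw [Category.assoc, h1, sec_top, Category.assoc, sec_top, comp_lift, comp_one]
    exact congrArg (lift _) (toUnit_unique _ _)
  · rw [Category.assoc, f.cart.w, sec_π_assoc, Category.assoc, sec_π, Category.comp_id]

/-- The difference of two points. -/
noncomputable def dv {c : QuotObj K G (trivAction G)} (n n' : c ⟶ xb K G) : c.base ⟶ G := sec n ≫ toG n'

theorem sec_eq {c : QuotObj K G (trivAction G)} (n n' : c ⟶ xb K G) : sec n = sm c.act (dv n n') (sec n') := by
  have h := congrArg (fun k => sec n ≫ k) (toG_sm_sec n')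
  rw [comp_sm, Category.comp_id, sec_π_assoc] at h
  exact h.symm

theorem toG_sec {c : QuotObj K G (trivAction G)} (n : c ⟶ xb K G) : sec n ≫ toG n = 1 := by
  rw [toG, ← Category.assoc, sec_top, lift_fst]

theorem dv_self {c : QuotObj K G (trivAction G)} (n : c ⟶ xb K G) : dv n n = 1 := toG_sec n

theorem dv_mul {c : QuotObj K G (trivAction G)} (n n' n'' : c ⟶ xb K G) : dv n n' * dv n' n'' = dv n n'' := by
  rw [dv, dv, dv, sec_eq n n', toG_sm, toG_sm, toG_sec, _root_.mul_one]

theorem dv_comp {c c' : QuotObj K G (trivAction G)} (f : c' ⟶ c) (n n' : c ⟶ xb K G) :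
    dv (f ≫ n) (f ≫ n') = f.base ≫ dv n n' := by
  rw [dv, dv, toG_comp, ← Category.assoc, sec_comp, Category.assoc]

theorem aux {T : Over S} (h : T ⟶ G) : lift (1 : T ⟶ G) (𝟙 T) ≫ (fst G T * (snd G T ≫ h)) = h := by
  rw [comp_mul, lift_fst, lift_snd_assoc, Category.id_comp, _root_.one_mul]

theorem sec_rho_one (T : Over S) : sec (rho (K := K) (1 : T ⟶ G)) = lift (1 : T ⟶ G) (𝟙 T) := by
  apply (ncart (rho (K := K) (1 : T ⟶ G))).hom_ext
  · rw [sec_top, rho_ntop, comp_lift, comp_mul, lift_fst]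
    simp only [comp_one, _root_.mul_one]
    exact congrArg (lift _) (toUnit_unique _ _)
  · rw [sec_π]
    exact (lift_snd _ _).symm

theorem dv_rho_one {T : Over S} (h : T ⟶ G) : dv (rho (K := K) (1 : T ⟶ G)) (rho h) = h := by
  rw [dv, sec_rho_one, toG_rho]
  exact aux h

theorem dv_rho {T : Over S} (g h : T ⟶ G) : dv (rho (K := K) g) (rho h) = g⁻¹ * h := by
  have h3 := dv_mul (rho (K := K) g) (rho 1) (rho h)
  have h4 := dv_mul (rho (K := K) (1 : T ⟶ G)) (rho g) (rho 1)
  rw [dv_rho_one, dv_self] at h4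
  rw [dv_rho_one] at h3
  rw [← h3, ← mul_eq_one_iff_inv_eq.1 h4]

/-- The trivialisation given by a point. -/
noncomputable def iota {c : QuotObj K G (trivAction G)} (n : c ⟶ xb K G) : c ⟶ tau K G c.base where
  base := 𝟙 _
  top := lift (toG n) c.π
  eqv := by
    apply eqv_of_sm (a := c.act) (a' := AlgSt.leftMul G c.base)
    intro Z g x
    rw [sm_leftMul]
    simp only [comp_lift, lift_fst, lift_snd, toG_sm, sm_π]
  cart := by
    have h2 : IsPullback (G ◁ nbase n) (snd G c.base) (snd G (𝟙_ (Over S))) (nbase n) :=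
      AlgSt.isPullback_whiskerLeft (nbase n)
    change IsPullback (lift (toG n) c.π) c.π (snd G c.base) (𝟙 _)
    refine IsPullback.of_right (h₁₂ := G ◁ nbase n) (h₂₂ := nbase n) ?_ (by rw [lift_snd, Category.comp_id]) h2
    rw [lift_whiskerLeft, ← top_eq, Category.id_comp]
    exact ncart n
  wφ := toUnit_unique _ _

theorem iota_base {c : QuotObj K G (trivAction G)} (n : c ⟶ xb K G) : (iota n).base = 𝟙 _ := rfl

theorem iota_rho {c : QuotObj K G (trivAction G)} (n n' : c ⟶ xb K G) : iota n ≫ rho (dv n n') = n' := by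
  apply hom_ext_toG
  rw [toG_comp, toG_rho]
  change lift (toG n) c.π ≫ _ = _
  rw [comp_mul, lift_fst, lift_snd_assoc]
  have h := congrArg (fun k => k ≫ toG n') (toG_sm_sec n)
  rw [toG_sm, Category.id_comp, Category.assoc] at h
  exact h

theorem tmap_rho {T T' : Over S} (f : T' ⟶ T) (g : T ⟶ G) : tmap f ≫ rho (K := K) g = rho (f ≫ g) := by
  apply hom_ext_toG
  rw [toG_comp, toG_rho, toG_rho, tmap_top, comp_mul, whiskerLeft_fst, whiskerLeft_snd_assoc]

theorem th_rho {T : Over S} (g h : T ⟶ G) : th g ≫ rho (K := K) h = rho (g * h) := by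
  apply hom_ext_toG
  rw [toG_comp, toG_rho, toG_rho]
  change thTop g ≫ _ = _
  rw [thTop, comp_mul, lift_fst, lift_snd_assoc, comp_mul, _root_.mul_assoc]

end K998.BGs
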