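import Groth.Agent.StCoh.K998.FinLoc

/-!
# Čech cochains on categories fibred over schemes

`p : C ⥤ B`, `x₀ : C`, `P` a presheaf of abelian groups on `C`, `T : B`.  An `n`-cochain over `T` is a natural family
`c (W, t : p W ⟶ T, v₀, …, vₙ : W ⟶ x₀) ∈ P W`.
-/

set_option autoImplicit false

universe w v₁ u₁ v₂ u₂ u

open CategoryTheory CategoryTheory.Limits Opposite AlgebraicGeometry

namespace K998.Coch

open FG Groth.Agent.Etrest FppfCoch

section Basic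

variable {C : Type u₁} [Category.{v₁} C] {B : Type u₂} [Category.{v₂} B] (p : C ⥤ B) (x₀ : C)
  (P Q : Cᵒᵖ ⥤ AddCommGrpCat.{w})

/-- Families of elements of `P`. -/
abbrev Cc (T : B) (n : ℕ) : Type _ :=
  ∀ (W : C) (_ : p.obj W ⟶ T) (_ : Fin (n + 1) → (W ⟶ x₀)), P.obj (op W)

/-- Families without points. -/
abbrev Gg (T : B) : Type _ := ∀ (W : C) (_ : p.obj W ⟶ T), P.obj (op W)

variable {p x₀ P Q}

/-- Naturality. -/
def IsC {T : B} {n : ℕ} (c : Cc p x₀ P T n) : Prop :=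
  ∀ ⦃W W' : C⦄ (f : W' ⟶ W) (t : p.obj W ⟶ T) (v : Fin (n + 1) → (W ⟶ x₀)),
    P.map f.op (c W t v) = c W' (p.map f ≫ t) (fun i => f ≫ v i)

/-- Naturality. -/
def IsG {T : B} (s : Gg p P T) : Prop :=
  ∀ ⦃W W' : C⦄ (f : W' ⟶ W) (t : p.obj W ⟶ T), P.map f.op (s W t) = s W' (p.map f ≫ t)

/-- Cocycle condition. -/
def IsZ {T : B} {n : ℕ} (c : Cc p x₀ P T n) : Prop :=
  ∀ ⦃W : C⦄ (t : p.obj W ⟶ T) (v : Fin (n + 2) → (W ⟶ x₀)), dS (c W t) v = 0

/-- `d b = c`. -/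
def IsB {T : B} {n : ℕ} (b : Cc p x₀ P T n) (c : Cc p x₀ P T (n + 1)) : Prop :=
  ∀ ⦃W : C⦄ (t : p.obj W ⟶ T) (v : Fin (n + 2) → (W ⟶ x₀)), dS (b W t) v = c W t v

/-- The differential. -/
def dC {T : B} {n : ℕ} (c : Cc p x₀ P T n) : Cc p x₀ P T (n + 1) := fun W t v => dS (c W t) v

/-- Restriction. -/
def resC {T T' : B} (g : T' ⟶ T) {n : ℕ} (c : Cc p x₀ P T n) : Cc p x₀ P T' n := fun W t v => c W (t ≫ g) v

/-- Restriction. -/
def resG {T T' : B} (g : T' ⟶ T) (s : Gg p P T) : Gg p P T' := fun W t => s W (t ≫ g)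

/-- Functoriality. -/
def mapC (α : P ⟶ Q) {T : B} {n : ℕ} (c : Cc p x₀ P T n) : Cc p x₀ Q T n := fun W t v => α.app (op W) (c W t v)

/-- Functoriality. -/
def mapG (α : P ⟶ Q) {T : B} (s : Gg p P T) : Gg p Q T := fun W t => α.app (op W) (s W t)

/-- Difference. -/
def subC {T : B} {n : ℕ} (c c' : Cc p x₀ P T n) : Cc p x₀ P T n := fun W t v => c W t v - c' W t v

/-- Multiples. -/
def smC (N : ℤ) {T : B} {n : ℕ} (c : Cc p x₀ P T n) : Cc p x₀ P T n := fun W t v => N • c W t v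

theorem IsC.dC {T : B} {n : ℕ} {c : Cc p x₀ P T n} (hc : IsC c) : IsC (dC c) := fun W W' f t v => by
  rw [Coch.dC, Coch.dC]
  refine (map_dS (P.map f.op).hom (c W t) v).trans ?_
  exact (dS_congr fun i => hc f t _).trans (dS_comp (fun g : W ⟶ x₀ => f ≫ g) (c W' (p.map f ≫ t)) v).symm

theorem isZ_dC {T : B} {n : ℕ} (c : Cc p x₀ P T n) : IsZ (dC c) := fun _ _ _ => dS_dS _ _

theorem IsC.res {T T' : B} (g : T' ⟶ T) {n : ℕ} {c : Cc p x₀ P T n} (hc : IsC c) : IsC (resC g c) :=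
  fun W W' f t v => by rw [resC, resC, hc f (t ≫ g) v, Category.assoc]

theorem IsG.res {T T' : B} (g : T' ⟶ T) {s : Gg p P T} (hs : IsG s) : IsG (resG g s) :=
  fun W W' f t => by rw [resG, resG, hs f (t ≫ g), Category.assoc]

theorem IsZ.res {T T' : B} (g : T' ⟶ T) {n : ℕ} {c : Cc p x₀ P T n} (hc : IsZ c) : IsZ (resC g c) :=
  fun _ t v => hc (t ≫ g) v

theorem IsB.res {T T' : B} (g : T' ⟶ T) {n : ℕ} {b : Cc p x₀ P T n} {c : Cc p x₀ P T (n + 1)} (hc : IsB b c) :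
    IsB (resC g b) (resC g c) := fun _ t v => hc (t ≫ g) v

theorem IsC.map (α : P ⟶ Q) {T : B} {n : ℕ} {c : Cc p x₀ P T n} (hc : IsC c) : IsC (mapC α c) :=
  fun W W' f t v => by
    have h := ConcreteCategory.congr_hom (α.naturality f.op) (c W t v)
    rw [ConcreteCategory.comp_apply, ConcreteCategory.comp_apply] at h
    rw [mapC, mapC, ← h, hc f t v]

theorem IsG.map (α : P ⟶ Q) {T : B} {s : Gg p P T} (hs : IsG s) : IsG (mapG α s) :=
  fun W W' f t => by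
    have h := ConcreteCategory.congr_hom (α.naturality f.op) (s W t)
    rw [ConcreteCategory.comp_apply, ConcreteCategory.comp_apply] at h
    rw [mapG, mapG, ← h, hs f t]

theorem dS_mapC (α : P ⟶ Q) {T : B} {n : ℕ} (c : Cc p x₀ P T n) (W : C) (t : p.obj W ⟶ T)
    (v : Fin (n + 2) → (W ⟶ x₀)) : dS (mapC α c W t) v = α.app (op W) (dS (c W t) v) :=
  (map_dS (α.app (op W)).hom (c W t) v).symm

theorem IsZ.map (α : P ⟶ Q) {T : B} {n : ℕ} {c : Cc p x₀ P T n} (hc : IsZ c) : IsZ (mapC α c) :=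
  fun W t v => by rw [dS_mapC, hc t v, map_zero]

theorem IsB.map (α : P ⟶ Q) {T : B} {n : ℕ} {b : Cc p x₀ P T n} {c : Cc p x₀ P T (n + 1)} (hc : IsB b c) :
    IsB (mapC α b) (mapC α c) := fun W t v => by rw [dS_mapC, hc t v, mapC]

theorem IsC.sub {T : B} {n : ℕ} {c c' : Cc p x₀ P T n} (hc : IsC c) (hc' : IsC c') : IsC (subC c c') :=
  fun W W' f t v => by rw [subC, subC, map_sub, hc f t v, hc' f t v]

theorem IsC.sm (N : ℤ) {T : B} {n : ℕ} {c : Cc p x₀ P T n} (hc : IsC c) : IsC (smC N c) :=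
  fun W W' f t v => by rw [smC, smC, map_zsmul, hc f t v]

theorem dS_subC {T : B} {n : ℕ} (c c' : Cc p x₀ P T n) (W : C) (t : p.obj W ⟶ T)
    (v : Fin (n + 2) → (W ⟶ x₀)) : dS (subC c c' W t) v = dS (c W t) v - dS (c' W t) v := dS_sub _ _ _

theorem dS_smC (N : ℤ) {T : B} {n : ℕ} (c : Cc p x₀ P T n) (W : C) (t : p.obj W ⟶ T)
    (v : Fin (n + 2) → (W ⟶ x₀)) : dS (smC N c W t) v = N • dS (c W t) v := by
  simp only [smC, dS, Finset.smul_sum]
  exact Finset.sum_congr rfl fun i _ => smul_comm _ _ _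

end Basic

section Injective

variable {C : Type (u + 1)} [Category.{u} C] {B : Type u₂} [Category.{v₂} B] {p : C ⥤ B} {x₀ : C}
  {P : Cᵒᵖ ⥤ AddCommGrpCat.{u + 1}}

open Classical in
/-- A chosen point. -/
noncomputable def sel (x₀ : C) {W : C} (dflt : W ⟶ x₀) : W ⟶ x₀ :=
  if h : Nonempty (W ⟶ x₀) then h.some else dflt

theorem sel_eq {W : C} (dflt dflt' : W ⟶ x₀) : sel x₀ dflt = sel x₀ dflt' := by
  rw [sel, sel, dif_pos ⟨dflt⟩, dif_pos ⟨dflt⟩]

/-- Cocycles of positive degree of an injective presheaf are coboundaries. -/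
theorem exists_cob_of_injective [Injective P] {T : B} {n : ℕ} (c : Cc p x₀ P T (n + 1)) (hc : IsC c) (hz : IsZ c) :
    ∃ b : Cc p x₀ P T n, IsC b ∧ IsB b c := by
  let r : cofree P ⟶ P := Injective.factorThru (𝟙 P) (toCofree P)
  have hr : toCofree P ≫ r = 𝟙 P := Injective.comp_factorThru _ _
  let b' : Cc p x₀ (cofree P) T n := fun V t y =>
    (show (∀ (W : C) (_ : W ⟶ V), P.obj (op W)) from fun W φ =>
      c W (p.map φ ≫ t) (Fin.cons (sel x₀ (φ ≫ y 0)) (fun i => φ ≫ y i) : Fin (n + 2) → (W ⟶ x₀)))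
  have hb' : IsC b' := by
    intro V V' f t y
    change (fun W φ => c W (p.map (φ ≫ f) ≫ t) (Fin.cons (sel x₀ ((φ ≫ f) ≫ y 0))
      (fun i => (φ ≫ f) ≫ y i) : Fin (n + 2) → (W ⟶ x₀))) = (fun W φ => c W (p.map φ ≫ p.map f ≫ t)
        (Fin.cons (sel x₀ (φ ≫ f ≫ y 0)) (fun i => φ ≫ f ≫ y i) : Fin (n + 2) → (W ⟶ x₀)))
    funext W φ
    simp only [Category.assoc, Functor.map_comp]
  have hcob : IsB b' (mapC (toCofree P) c) := by
    intro V t x
    have key : ∀ (W : C) (φ : W ⟶ V), (show (∀ (W : C) (_ : W ⟶ V), P.obj (op W)) from dS (b' V t) x) W φ =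
        P.map φ.op (c V t x) := by
      intro W φ
      let ev : (∀ (W : C) (_ : W ⟶ V), P.obj (op W)) →+ P.obj (op W) :=
        { toFun := fun s => s W φ
          map_zero' := rfl
          map_add' := fun _ _ => rfl }
      have h1 : (show (∀ (W : C) (_ : W ⟶ V), P.obj (op W)) from dS (b' V t) x) W φ =
          dS (fun y => ev (b' V t y)) x := map_dS ev (b' V t) x
      rw [h1]
      let s := sel x₀ (φ ≫ x 0)
      have h2 : dS (fun y => ev (b' V t y)) x =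
          dS (fun y => c W (p.map φ ≫ t) (Fin.cons s y : Fin (n + 2) → (W ⟶ x₀))) (fun i => φ ≫ x i) := by
        refine Eq.trans ?_ (dS_comp (fun g : V ⟶ x₀ => φ ≫ g)
          (fun y => c W (p.map φ ≫ t) (Fin.cons s y : Fin (n + 2) → (W ⟶ x₀))) x).symm
        refine dS_congr fun i => ?_
        change c W (p.map φ ≫ t) (Fin.cons (sel x₀ (φ ≫ x (i.succAbove 0))) _ : Fin (n + 2) → (W ⟶ x₀)) = _
        rw [sel_eq (φ ≫ x (i.succAbove 0)) (φ ≫ x 0)]
      have h3 := dS_cons (c W (p.map φ ≫ t)) s (fun i => φ ≫ x i)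
      rw [hz (p.map φ ≫ t) _] at h3
      rw [h2, hc φ t x]
      exact (sub_eq_zero.1 h3.symm).symm
    funext W φ
    exact key W φ
  refine ⟨mapC r b', hb'.map r, ?_⟩
  intro W t x
  rw [hcob.map r t x]
  change (toCofree P ≫ r).app (op W) (c W t x) = _
  rw [hr]
  rfl

end Injective

section Descend

variable {C : Type (u + 1)} [Category.{u} C] {B : Type u₂} [Category.{v₂} B] {p : C ⥤ B} {x₀ : C}
  {P : Cᵒᵖ ⥤ AddCommGrpCat.{u + 1}} (J : GrothendieckTopology C)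

/-- The sieve of morphisms from objects mapping to `x₀`. -/
def sv (x₀ W : C) : Sieve W where
  arrows W' _ := Nonempty (W' ⟶ x₀)
  downward_closed := fun ⟨v⟩ f => ⟨f ≫ v⟩

theorem isSheaf_ty' {J : GrothendieckTopology C} (hP : Presheaf.IsSheaf J P) :
    Presieve.IsSheaf J (P ⋙ forget AddCommGrpCat.{u + 1}) :=
  (isSheaf_iff_isSheaf_of_type _ _).1 (Presheaf.isSheaf_comp_of_isSheaf J P (forget AddCommGrpCat.{u + 1}) hP)

variable {J}

theorem IsZ.indep {T : B} {c : Cc p x₀ P T 0} (hz : IsZ c) {W : C} (t : p.obj W ⟶ T) (v v' : W ⟶ x₀) :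
    c W t (fun _ => v) = c W t (fun _ => v') := by
  have h := hz t (Fin.cons v' (fun _ => v) : Fin 2 → (W ⟶ x₀))
  rw [dS_zero_eq] at h
  exact sub_eq_zero.1 h

/-- Descent of degree zero cocycles. -/
theorem descend (hP : Presheaf.IsSheaf J P) (hx₀ : ∀ W, sv x₀ W ∈ J W) {T : B} {c : Cc p x₀ P T 0} (hc : IsC c)
    (hz : IsZ c) : ∃ s : Gg p P T, IsG s ∧ ∀ (W : C) (t : p.obj W ⟶ T) (v : W ⟶ x₀), s W t = c W t (fun _ => v) := by
  have key : ∀ (W : C) (t : p.obj W ⟶ T), ∃! s : P.obj (op W), ∀ (W' : C) (f : W' ⟶ W) (v : W' ⟶ x₀),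
      P.map f.op s = c W' (p.map f ≫ t) (fun _ => v) := by
    intro W t
    let fam : Presieve.FamilyOfElements (P ⋙ forget AddCommGrpCat.{u + 1}) (sv x₀ W).arrows :=
      fun W' f hf => c W' (p.map f ≫ t) (fun _ => hf.some)
    have hcomp : fam.Compatible := by
      intro Y₁ Y₂ Z g₁ g₂ f₁ f₂ h₁ h₂ h
      have e1 : P.map g₁.op (c Y₁ (p.map f₁ ≫ t) (fun _ => h₁.some)) =
          c Z (p.map g₁ ≫ p.map f₁ ≫ t) (fun _ => g₁ ≫ h₁.some) := hc g₁ _ _
      have e2 : P.map g₂.op (c Y₂ (p.map f₂ ≫ t) (fun _ => h₂.some)) =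
          c Z (p.map g₂ ≫ p.map f₂ ≫ t) (fun _ => g₂ ≫ h₂.some) := hc g₂ _ _
      change P.map g₁.op (c Y₁ (p.map f₁ ≫ t) (fun _ => h₁.some)) =
        P.map g₂.op (c Y₂ (p.map f₂ ≫ t) (fun _ => h₂.some))
      rw [e1, e2, ← Category.assoc, ← Category.assoc, ← p.map_comp, ← p.map_comp, ← h]
      exact hz.indep _ _ _
    obtain ⟨s, hs, hs'⟩ := (isSheaf_ty' hP) (sv x₀ W) (hx₀ W) fam hcomp
    refine ⟨s, fun W' f v => ?_, fun s' h' => hs' s' ?_⟩
    · have h1 : P.map f.op s = c W' (p.map f ≫ t) (fun _ => (⟨v⟩ : Nonempty (W' ⟶ x₀)).some) := hs f ⟨v⟩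
      rw [h1]
      exact hz.indep _ _ _
    · intro W' f hf
      exact h' W' f hf.some
  choose s hs hs' using key
  refine ⟨s, ?_, ?_⟩
  · intro W W' f t
    refine hs' W' _ _ fun W'' f' v => ?_
    dsimp only
    rw [FppfMain.map_map_apply, hs W t W'' (f' ≫ f) v, p.map_comp, Category.assoc]
  · intro W t v
    have := hs W t W (𝟙 W) v
    rw [op_id, P.map_id, p.map_id, Category.id_comp] at this
    exact this

/-- Families of a sheaf which agree on objects mapping to `x₀` are equal. -/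
theorem eq_of_cover (hP : Presheaf.IsSheaf J P) (hx₀ : ∀ W, sv x₀ W ∈ J W) {T : B} {s s' : Gg p P T}
    (hs : IsG s) (hs' : IsG s') (h : ∀ (W : C) (t : p.obj W ⟶ T) (_ : W ⟶ x₀), s W t = s' W t) : s = s' := by
  funext W t
  refine ((isSheaf_ty' hP).isSeparated _ (hx₀ W)).ext fun W' f hf => ?_
  change P.map f.op (s W t) = P.map f.op (s' W t)
  rw [hs f t, hs' f t, h _ _ hf.some]

end Descend

section Rep

variable {C : Type u₁} [Category.{v₁} C] {B : Type u₂} [Category.{v₂} B] {p : C ⥤ B} {x₀ : C}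

/-- An object representing tuples. -/
structure Rp (p : C ⥤ B) (x₀ : C) (T : B) (n : ℕ) where
  /-- the object -/
  Y : C
  /-- the projection -/
  t : p.obj Y ⟶ T
  /-- the coordinates -/
  v : Fin (n + 1) → (Y ⟶ x₀)
  /-- lifts -/
  lift : ∀ {W : C} (_ : p.obj W ⟶ T) (_ : Fin (n + 1) → (W ⟶ x₀)), (W ⟶ Y)
  lift_t : ∀ {W : C} (t' : p.obj W ⟶ T) (v' : Fin (n + 1) → (W ⟶ x₀)), p.map (lift t' v') ≫ t = t'
  lift_v : ∀ {W : C} (t' : p.obj W ⟶ T) (v' : Fin (n + 1) → (W ⟶ x₀)) (i : Fin (n + 1)), lift t' v' ≫ v i = v' i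
  hom_ext : ∀ {W : C} (f g : W ⟶ Y), p.map f ≫ t = p.map g ≫ t → (∀ i, f ≫ v i = g ≫ v i) → f = g

variable {P : Cᵒᵖ ⥤ AddCommGrpCat.{w}}

/-- The cochain given by a section over the representing object. -/
def ofSec {T : B} {n : ℕ} (R : Rp p x₀ T n) (s : P.obj (op R.Y)) : Cc p x₀ P T n := fun _ t v =>
  P.map (R.lift t v).op s

theorem isC_ofSec {T : B} {n : ℕ} (R : Rp p x₀ T n) (s : P.obj (op R.Y)) : IsC (ofSec R s) := by
  intro W W' f t v
  have h : f ≫ R.lift t v = R.lift (p.map f ≫ t) (fun i => f ≫ v i) := by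
    apply R.hom_ext
    · rw [R.lift_t, p.map_comp, Category.assoc, R.lift_t]
    · intro i
      rw [R.lift_v, Category.assoc, R.lift_v]
  rw [ofSec, ofSec, FppfMain.map_map_apply, h]

theorem ofSec_eq {T : B} {n : ℕ} (R : Rp p x₀ T n) (c : Cc p x₀ P T n) (hc : IsC c) :
    ofSec R (c R.Y R.t R.v) = c := by
  funext W t v
  rw [ofSec, hc, R.lift_t]
  congr 1
  funext i
  rw [R.lift_v]

/-- Base change of a representing object. -/
noncomputable def Rp.baseChange (hp : IsFG p) {T : B} {n : ℕ} (R : Rp p x₀ T n) {T₁ : B} (g : T₁ ⟶ T) {Z : C}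
    (a : Z ⟶ R.Y) (b : p.obj Z ⟶ T₁) (h : IsPullback (p.map a) b R.t g) : Rp p x₀ T₁ n :=
  have key : ∀ {W : C} (t' : p.obj W ⟶ T₁) (v' : Fin (n + 1) → (W ⟶ x₀)), ∃ χ : W ⟶ Z,
      p.map χ = h.lift (p.map (R.lift (t' ≫ g) v')) t' (R.lift_t _ _) ∧ χ ≫ a = R.lift (t' ≫ g) v' := by
    intro W t' v'
    exact hp.fac a (R.lift (t' ≫ g) v') (h.lift (p.map (R.lift (t' ≫ g) v')) t' (R.lift_t _ _)) (h.lift_fst _ _ _)
  { Y := Z
    t := b
    v := fun i => a ≫ R.v i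
    lift := fun t' v' => (key t' v').choose
    lift_t := fun t' v' => by rw [(key t' v').choose_spec.1, h.lift_snd]
    lift_v := fun t' v' i => by rw [← Category.assoc, (key t' v').choose_spec.2, R.lift_v]
    hom_ext := fun f f' h1 h2 => by
      have e1 : f ≫ a = f' ≫ a := by
        apply R.hom_ext
        · rw [p.map_comp, p.map_comp, Category.assoc, Category.assoc, h.w, reassoc_of% h1]
        · intro i
          rw [Category.assoc, Category.assoc, h2 i]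
      refine hp.uniq a f f' ?_ e1
      apply h.hom_ext
      · rw [← p.map_comp, ← p.map_comp, e1]
      · exact h1 }

end Rep

end K998.Coch
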