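import Groth.Agent.StCoh.K998.Glob2

/-!
# Comparison of étale and fppf cohomology on categories fibred in groupoids over schemes
-/

set_option autoImplicit false

universe w v₁ u₁ v₂ u₂ u

open CategoryTheory CategoryTheory.Limits Opposite AlgebraicGeometry Abelian

namespace K998.Eps

section Gen

variable {C : Type u₁} [Category.{v₁} C] {J K : GrothendieckTopology C} (hJK : J ≤ K)

/-- The inclusion of `K`-sheaves in `J`-sheaves for `J ≤ K`. -/
def R : Sheaf K AddCommGrpCat.{w} ⥤ Sheaf J AddCommGrpCat.{w} where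
  obj F := ⟨F.obj, fun E => Presieve.isSheaf_of_le _ hJK (F.property E)⟩
  map f := ⟨f.hom⟩

instance : (R.{w} hJK).Full where
  map_surjective f := ⟨⟨f.hom⟩, rfl⟩

instance : (R.{w} hJK).Faithful where
  map_injective h := Sheaf.hom_ext (congrArg (fun k => k.hom) h)

instance : (R.{w} hJK).Additive where

variable (J K) [HasSheafify K AddCommGrpCat.{w}]

/-- `K`-sheafification of `J`-sheaves. -/
noncomputable abbrev L : Sheaf J AddCommGrpCat.{w} ⥤ Sheaf K AddCommGrpCat.{w} :=
  sheafToPresheaf J _ ⋙ presheafToSheaf K _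

variable {J K}

/-- The adjunction. -/
noncomputable def adj : L.{w} J K ⊣ R.{w} hJK :=
  Adjunction.mkOfHomEquiv
    { homEquiv := fun F G => ((sheafificationAdjunction K AddCommGrpCat.{w}).homEquiv F.obj G).trans
        { toFun := fun f => ⟨f⟩
          invFun := fun f => f.hom
          left_inv := fun _ => rfl
          right_inv := fun _ => rfl }
      homEquiv_naturality_left_symm := fun f g =>
        (sheafificationAdjunction K AddCommGrpCat.{w}).homEquiv_naturality_left_symm f.hom g.hom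
      homEquiv_naturality_right := fun f g =>
        Sheaf.hom_ext ((sheafificationAdjunction K AddCommGrpCat.{w}).homEquiv_naturality_right f g) }

end Gen

section Ex

variable {C : Type (u + 1)} [Category.{u} C] {J K : GrothendieckTopology C} (hJK : J ≤ K)

theorem injective_R (I : Sheaf K AddCommGrpCat.{u + 1}) (hI : Injective I) : Injective ((R.{u + 1} hJK).obj I) := by
  have : (L.{u + 1} J K).PreservesMonomorphisms := inferInstance
  exact Injective.injective_of_adjoint (adj.{u + 1} hJK) I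

instance : PreservesFiniteLimits (R.{u + 1} hJK) := by
  have : PreservesLimitsOfSize.{0, 0} (R.{u + 1} hJK) := (adj.{u + 1} hJK).rightAdjoint_preservesLimits
  exact PreservesLimitsOfSize.preservesFiniteLimits _

end Ex

section Main

open FG Transfer Groth.Agent.Etrest FppfMain BigEtSite Glob

variable {C : Type (u + 1)} [Category.{u} C] {q : C ⥤ Scheme.{u}} (hq : IsFG q)

theorem le : topo hq Scheme.etaleTopology.{u} ≤ topo hq Scheme.fppfTopology.{u} :=
  topo_mono hq etaleTopology_le_fppfTopology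

theorem epi_of_ls {P Q : AbCE hq} (f : P ⟶ Q) (h : LS q f.hom) : Epi f := by
  rw [← Sheaf.isLocallySurjective_iff_epi']
  refine ⟨fun {W} s => ?_⟩
  rw [Shift.mem_topo_et]
  intro z
  obtain ⟨Y, φ, h1, h2, t, ht⟩ := h W s z
  exact ⟨Y, φ, ⟨t, ht⟩, h1, h2⟩

theorem rderived (F : AbC hq) (hF : PCA hq F.obj) (n : ℕ) (hn : 0 < n) :
    IsZero (((R.{u + 1} (le hq)).rightDerived n).obj F) := by
  refine RAcyc.isZero_rightDerived_of_class _ (fun F => PCA hq F.obj) ?_ hF n hn
  intro E hE hI hP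
  obtain ⟨h1, h2⟩ := shift hq hE hP
  exact ⟨h1, epi_of_ls hq _ (ls_of hq h2)⟩

/-- Étale cohomology of a sheaf in the class is computed by the fppf topology. -/
theorem comparison (A : AbCE hq) (F : AbC hq) (hF : PCA hq F.obj) (n : ℕ) :
    Nonempty (Ext.{u + 1} A ((R.{u + 1} (le hq)).obj F) n ≃+ Ext.{u + 1} ((L.{u + 1} _ _).obj A) F n) :=
  RAcyc.nonempty_extAddEquiv (adj.{u + 1} (le hq)) (injective_R (le hq)) (fun n hn => rderived hq F hF n hn) A n

/-- The constant sheaf. -/
theorem exists_const : ∃ (g : ∀ W : C, ((L.{u + 1} (topo hq Scheme.etaleTopology.{u}) (topo hq Scheme.fppfTopology.{u})).obj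
      ((constantSheaf (topo hq Scheme.etaleTopology.{u}) AddCommGrpCat.{u + 1}).obj
        (AddCommGrpCat.of (ULift.{u + 1} ℤ)))).obj.obj (op W)), IsGS _ g :=
  ⟨_, ((isGP_const.{u + 1} (C := C)).isGS (topo hq Scheme.etaleTopology.{u})).of_le (le hq)⟩

/-- Cohomology for topologies which are equal to the étale one. -/
theorem exists_ext {J : GrothendieckTopology C} (hJ : J = topo hq Scheme.etaleTopology.{u}) :
    ∃ (A : AbC hq) (g : ∀ W : C, A.obj.obj (op W)), IsGS A g ∧ ∀ (F : Sheaf J AddCommGrpCat.{u + 1})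
      (F' : AbC hq) (_ : F'.obj ≅ F.obj) (_ : PCA hq F'.obj) (n : ℕ), Nonempty (Sheaf.H F n ≃+ Ext.{u + 1} A F' n) := by
  subst hJ
  obtain ⟨g, hg⟩ := exists_const hq
  refine ⟨_, g, hg, fun F F' e hF n => ?_⟩
  obtain ⟨e1⟩ := comparison hq ((constantSheaf (topo hq Scheme.etaleTopology.{u}) AddCommGrpCat.{u + 1}).obj
        (AddCommGrpCat.of (ULift.{u + 1} ℤ))) F' hF n
  let e2 : (R.{u + 1} (le hq)).obj F' ≅ F :=
    { hom := ⟨e.hom⟩
      inv := ⟨e.inv⟩
      hom_inv_id := Sheaf.hom_ext e.hom_inv_id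
      inv_hom_id := Sheaf.hom_ext e.inv_hom_id }
  exact ⟨(((extFunctorObj _ n).mapIso e2).symm.addCommGroupIsoToAddEquiv).trans e1⟩

/-- Cohomology for topologies which are equal to the fppf one. -/
theorem exists_ext_fppf {J : GrothendieckTopology C} (hJ : J = topo hq Scheme.fppfTopology.{u}) :
    ∃ (A : AbC hq) (g : ∀ W : C, A.obj.obj (op W)), IsGS A g ∧ ∀ (F : Sheaf J AddCommGrpCat.{u + 1})
      (F' : AbC hq) (_ : F'.obj ≅ F.obj) (n : ℕ), Nonempty (Sheaf.H F n ≃+ Ext.{u + 1} A F' n) := by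
  subst hJ
  refine ⟨_, _, (isGP_const.{u + 1} (C := C)).isGS (topo hq Scheme.fppfTopology.{u}), fun F F' e n => ?_⟩
  let e2 : F' ≅ F :=
    { hom := ⟨e.hom⟩
      inv := ⟨e.inv⟩
      hom_inv_id := Sheaf.hom_ext e.hom_inv_id
      inv_hom_id := Sheaf.hom_ext e.inv_hom_id }
  exact ⟨((extFunctorObj _ n).mapIso e2).symm.addCommGroupIsoToAddEquiv⟩

end Main

end K998.Eps
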