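import Groth.Agent.StCoh.K998.Amitsur
import Mathlib.AlgebraicGeometry.AffineScheme

/-!
# Evaluation of elements of the Amitsur algebras at points of schemes
-/

set_option autoImplicit false
set_option linter.unusedSectionVars false
set_option backward.isDefEq.respectTransparency false
set_option backward.isDefEq.respectTransparency.types false

universe u v w

open TensorProduct

namespace K998.Amitsur

open UnitCx

section Evc

variable {A B : Type u} [CommRing A] [CommRing B] [Algebra A B] {R R' D : Type u} [CommRing R] [Algebra A R]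
  [CommRing R'] [Algebra A R'] [CommRing D] [Algebra A D]

/-- Evaluation with coefficients. -/
noncomputable def evc (ψ : D →ₐ[A] R) (n : ℕ) (f : Fin n → (B →ₐ[A] R)) : D ⊗[A] E A B n →ₐ[A] R :=
  Algebra.TensorProduct.lift ψ (ev n f) (fun _ _ => Commute.all _ _)

theorem evc_tmul (ψ : D →ₐ[A] R) (n : ℕ) (f : Fin n → (B →ₐ[A] R)) (x : D) (y : E A B n) :
    evc ψ n f (x ⊗ₜ[A] y) = ψ x * ev n f y := rfl

theorem evc_bc (ψ : D →ₐ[A] R) (n : ℕ) (f : Fin (n + 1) → (B →ₐ[A] R)) (i : Fin (n + 1)) (x : D ⊗[A] E A B n) :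
    evc ψ (n + 1) f (bc D (d A B n i) x) = evc ψ n (fun k => f (i.succAbove k)) x := by
  induction x using TensorProduct.induction_on with
  | zero => simp
  | tmul b e =>
    rw [evc_tmul, ← ev_d_apply]
    rfl
  | add x y hx hy => rw [map_add, map_add, map_add, hx, hy]

theorem evc_one_tmul (ψ : D →ₐ[A] R) (n : ℕ) (f : Fin n → (B →ₐ[A] R)) (y : E A B n) :
    evc ψ n f (1 ⊗ₜ[A] y) = ev n f y := by
  rw [evc_tmul, map_one, one_mul]

theorem comp_evc (g : R →ₐ[A] R') (ψ : D →ₐ[A] R) (n : ℕ) (f : Fin n → (B →ₐ[A] R)) (x : D ⊗[A] E A B n) :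
    g (evc ψ n f x) = evc (g.comp ψ) n (fun i => g.comp (f i)) x := by
  induction x using TensorProduct.induction_on with
  | zero => simp
  | tmul b e =>
    rw [evc_tmul, evc_tmul, map_mul, ev_comp_apply]
    rfl
  | add x y hx hy => rw [map_add, map_add, map_add, hx, hy]

theorem sum_um_evc (ψ : D →ₐ[A] R) (n : ℕ) (f : Fin (n + 1) → (B →ₐ[A] R)) (y : Additive (D ⊗[A] E A B n)ˣ)
    (z : Additive (E A B (n + 1))ˣ) (hy : Dm D (d A B n) y = zB D z) :
    ∑ i : Fin (n + 1), (-1 : ℤ) ^ (i : ℕ) •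
      um ((evc ψ n (fun k => f (i.succAbove k)) : D ⊗[A] E A B n →+* R) : D ⊗[A] E A B n →* R) y =
      um ((ev (n + 1) f : E A B (n + 1) →+* R) : E A B (n + 1) →* R) z := by
  have h1 := congrArg (um ((evc ψ (n + 1) f : D ⊗[A] E A B (n + 1) →+* R) : D ⊗[A] E A B (n + 1) →* R)) hy
  rw [alt_comp_left, alt_apply] at h1
  refine (Finset.sum_congr rfl fun i _ => congrArg _ ?_).trans (h1.trans ?_)
  · apply Additive.toMul.injective
    ext
    exact (evc_bc ψ n f i _).symm
  · apply Additive.toMul.injective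
    ext
    exact evc_one_tmul ψ (n + 1) f _

theorem sum_um_ev (n : ℕ) (f : Fin (n + 1) → (B →ₐ[A] R)) (z : Additive (E A B n)ˣ) :
    ∑ i : Fin (n + 1), (-1 : ℤ) ^ (i : ℕ) •
      um ((ev n (fun k => f (i.succAbove k)) : E A B n →+* R) : E A B n →* R) z =
      um ((ev (n + 1) f : E A B (n + 1) →+* R) : E A B (n + 1) →* R) (DM n z) := by
  rw [DM, alt_comp_left, alt_apply]
  refine Finset.sum_congr rfl fun i _ => congrArg _ ?_
  apply Additive.toMul.injective
  ext
  exact (ev_d_apply n f i _).symm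

theorem ev_un' : ∀ (n : ℕ) (f : Fin n → (B →ₐ[A] R)) (i : Fin n) (b : B),
    ev n f (un (A := A) (B := B) n i b) = f i b
  | 0, _, i, _ => i.elim0
  | n + 1, f, i, b => by
    induction i using Fin.cases with
    | zero =>
      change ev (n + 1) f (b ⊗ₜ[A] (1 : E A B n)) = f 0 b
      rw [ev_succ_tmul, map_one, mul_one]
    | succ i =>
      change ev (n + 1) f ((1 : B) ⊗ₜ[A] (un (A := A) (B := B) n i b)) = f i.succ b
      rw [ev_succ_tmul, map_one, one_mul, ev_un' n _ i b]

end Evc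

end K998.Amitsur

open CategoryTheory CategoryTheory.Limits AlgebraicGeometry Opposite

namespace K998.Amitsur

section Fs

/-- The ring map of a morphism to an affine scheme. -/
noncomputable def fs {W : Scheme.{u}} {R : CommRingCat.{u}} (f : W ⟶ Spec R) : R →+* Γ(W, ⊤) :=
  ((Scheme.ΓSpecIso R).inv ≫ f.appTop).hom

theorem fs_comp {W W' : Scheme.{u}} {R : CommRingCat.{u}} (g : W' ⟶ W) (f : W ⟶ Spec R) :
    fs (g ≫ f) = g.appTop.hom.comp (fs f) := by
  rw [fs, fs, Scheme.Hom.comp_appTop, ← Category.assoc]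
  rfl

theorem fs_comp_map {W : Scheme.{u}} {R S : CommRingCat.{u}} (φ : R ⟶ S) (f : W ⟶ Spec S) :
    fs (f ≫ Spec.map φ) = (fs f).comp φ.hom := by
  rw [fs, fs, Scheme.Hom.comp_appTop, ← Category.assoc, ← Scheme.ΓSpecIso_inv_naturality, Category.assoc]
  rfl

/-- The morphism of a ring map. -/
noncomputable def toSp {W : Scheme.{u}} {R : CommRingCat.{u}} (φ : R →+* Γ(W, ⊤)) : W ⟶ Spec R :=
  W.toSpecΓ ≫ Spec.map (CommRingCat.ofHom φ)

theorem fs_toSp {W : Scheme.{u}} {R : CommRingCat.{u}} (φ : R →+* Γ(W, ⊤)) : fs (toSp φ) = φ := by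
  rw [toSp, fs_comp_map]
  have : fs W.toSpecΓ = RingHom.id _ := by
    rw [fs]
    simp
  rw [this]
  rfl

theorem fs_injective {W : Scheme.{u}} {R : CommRingCat.{u}} {f g : W ⟶ Spec R} (h : fs f = fs g) : f = g := by
  have h1 : ∀ f : W ⟶ Spec R, toSp (fs f) = f := by
    intro f
    rw [toSp, fs, CommRingCat.ofHom_hom, Spec.map_comp, ← Category.assoc, ← Scheme.toSpecΓ_naturality]
    simp
  rw [← h1 f, ← h1 g, h]

end Fs

end K998.Amitsur
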