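import Mathlib.CategoryTheory.Sites.InducedTopology
import Mathlib.CategoryTheory.Sites.CoverLifting
import Mathlib.CategoryTheory.Sites.CoverPreserving
import Mathlib.CategoryTheory.Sites.Over
import Mathlib.CategoryTheory.Comma.Over.Basic

/-!
# Sites of categories fibred in groupoids (up to isomorphism on the base)

* `IsFG p`: every morphism to `p x` lifts up to isomorphism, and all morphisms of the source are cartesian.
* `topo p J`: sieves whose push-forward is covering; it is the restricted topology; `p` is continuous and cocontinuous.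
* functors over the base are again `IsFG`.
-/

set_option autoImplicit false

universe v₁ u₁ v₂ u₂ v₃ u₃ w

open CategoryTheory CategoryTheory.Limits Opposite

namespace K998.FG

variable {C : Type u₁} [Category.{v₁} C] {D : Type u₂} [Category.{v₂} D] {B : Type u₃} [Category.{v₃} B]

/-- Fibred in groupoids, up to isomorphism on the base. -/
structure IsFG (p : C ⥤ B) : Prop where
  lift : ∀ (x : C) {V : B} (f : V ⟶ p.obj x), ∃ (y : C) (e : p.obj y ≅ V) (φ : y ⟶ x), p.map φ = e.hom ≫ f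
  fac : ∀ {x y z : C} (φ : y ⟶ x) (ψ : z ⟶ x) (g : p.obj z ⟶ p.obj y), g ≫ p.map φ = p.map ψ →
    ∃ χ : z ⟶ y, p.map χ = g ∧ χ ≫ φ = ψ
  uniq : ∀ {x y z : C} (φ : y ⟶ x) (χ χ' : z ⟶ y), p.map χ = p.map χ' → χ ≫ φ = χ' ≫ φ → χ = χ'

namespace IsFG

variable {p : C ⥤ B} {q : D ⥤ B}

theorem isIso (hp : IsFG p) {x y : C} (φ : y ⟶ x) [IsIso (p.map φ)] : IsIso φ := by
  obtain ⟨χ, h1, h2⟩ := hp.fac φ (𝟙 x) (inv (p.map φ)) (by simp)
  refine ⟨χ, ?_, h2⟩
  exact hp.uniq φ _ _ (by rw [p.map_comp, h1]; simp) (by rw [Category.assoc, h2]; simp)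

/-- lifts are unique up to isomorphism -/
theorem exists_iso (hp : IsFG p) {x y z : C} (φ : y ⟶ x) (ψ : z ⟶ x) (e : p.obj z ≅ p.obj y)
    (h : e.hom ≫ p.map φ = p.map ψ) : ∃ ε : z ≅ y, p.map ε.hom = e.hom ∧ ε.hom ≫ φ = ψ := by
  obtain ⟨χ, h1, h2⟩ := hp.fac φ ψ e.hom h
  have : IsIso (p.map χ) := by rw [h1]; infer_instance
  have := hp.isIso χ
  exact ⟨asIso χ, h1, h2⟩

theorem comp {p : C ⥤ D} {q : D ⥤ B} (hp : IsFG p) (hq : IsFG q) : IsFG (p ⋙ q) where
  lift x V f := by
    obtain ⟨y', e', φ', h'⟩ := hq.lift (p.obj x) f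
    obtain ⟨y, e, φ, h⟩ := hp.lift x φ'
    refine ⟨y, q.mapIso e ≪≫ e', φ, ?_⟩
    rw [Functor.comp_map, h, q.map_comp, h']
    simp
  fac φ ψ g h := by
    obtain ⟨g', h1, h2⟩ := hq.fac (p.map φ) (p.map ψ) g h
    obtain ⟨χ, h3, h4⟩ := hp.fac φ ψ g' h2
    exact ⟨χ, by rw [Functor.comp_map, h3, h1], h4⟩
  uniq φ χ χ' h h' := by
    refine hp.uniq φ χ χ' (hq.uniq (p.map φ) _ _ h ?_) h'
    rw [← p.map_comp, h', p.map_comp]

theorem of_iso {p p' : C ⥤ B} (e : p ≅ p') (hp : IsFG p) : IsFG p' where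
  lift x V f := by
    obtain ⟨y, e', φ, h⟩ := hp.lift x (f ≫ e.inv.app x)
    refine ⟨y, (e.app y).symm ≪≫ e', φ, ?_⟩
    have h1 := e.inv.naturality φ
    have h2 : p'.map φ = e.inv.app y ≫ p.map φ ≫ e.hom.app x := by
      rw [← Category.assoc, ← h1]
      simp
    rw [h2, h]
    simp
  fac {x y z} φ ψ g h := by
    obtain ⟨χ, h1, h2⟩ := hp.fac φ ψ (e.hom.app z ≫ g ≫ e.inv.app y) (by
      have h1 := e.inv.naturality φ
      rw [Category.assoc, Category.assoc, ← h1, reassoc_of% h]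
      simp)
    refine ⟨χ, ?_, h2⟩
    have h3 := e.hom.naturality χ
    rw [h1] at h3
    simp only [Category.assoc, Iso.inv_hom_id_app, Category.comp_id] at h3
    exact ((cancel_epi _).1 h3).symm
  uniq {x y z} φ χ χ' h h' := by
    refine hp.uniq φ χ χ' ?_ h'
    have h1 := e.hom.naturality χ
    have h2 := e.hom.naturality χ'
    rw [h, ← h2] at h1
    exact (cancel_mono _).1 h1

/-- A functor over the base is again fibred in groupoids. -/
theorem over {f : C ⥤ D} (e : f ⋙ q ≅ p) (hp : IsFG p) (hq : IsFG q) : IsFG f := by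
  have hp' : IsFG (f ⋙ q) := of_iso e.symm hp
  refine ⟨?_, ?_, ?_⟩
  · intro x V g
    obtain ⟨y, e, φ, h⟩ := hp'.lift x (q.map g)
    obtain ⟨ε, h1, h2⟩ := hq.exists_iso g (f.map φ) e h.symm
    exact ⟨y, ε, φ, h2.symm⟩
  · intro x y z φ ψ g h
    obtain ⟨χ, h1, h2⟩ := hp'.fac φ ψ (q.map g) (by
      rw [Functor.comp_map, ← q.map_comp, h]
      rfl)
    refine ⟨χ, hq.uniq (f.map φ) _ _ h1 ?_, h2⟩
    rw [← f.map_comp, h2, h]
  · intro x y z φ χ χ' h h'
    exact hp'.uniq φ χ χ' (by rw [Functor.comp_map, h]; rfl) h'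

theorem over_forget (X : B) : IsFG (Over.forget X) where
  lift x V f := ⟨Over.mk (f ≫ x.hom), Iso.refl _, Over.homMk f rfl, (Category.id_comp _).symm⟩
  fac {x y z} φ ψ g h := by
    have key : ∀ (g : z.left ⟶ y.left) (_ : g ≫ φ.left = ψ.left), g ≫ y.hom = z.hom := by
      intro g h
      rw [← Over.w φ, ← Category.assoc, h, Over.w ψ]
    exact ⟨Over.homMk g (key g h), rfl, Over.OverMorphism.ext h⟩
  uniq φ χ χ' h _ := by
    ext
    exact h

theorem over_map {X Y : B} (f : X ⟶ Y) : IsFG (Over.map f) :=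
  over (q := Over.forget Y) (p := Over.forget X) (Iso.refl _) (over_forget X) (over_forget Y)

end IsFG

section Topo

variable {p : C ⥤ B} (hp : IsFG p) (J : GrothendieckTopology B)

include hp in
theorem mem_pushforward_iff {x : C} (R : Sieve x) {y : C} (ψ : y ⟶ x) {V : B} (e : p.obj y ≅ V) (f : V ⟶ p.obj x)
    (h : p.map ψ = e.hom ≫ f) : (R.functorPushforward p).arrows f ↔ R.arrows ψ := by
  constructor
  · rintro ⟨z, φ, g, hφ, hf⟩
    obtain ⟨χ, -, h2⟩ := hp.fac φ ψ (e.hom ≫ g) (by rw [Category.assoc, ← hf, h])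
    rw [← h2]
    exact R.downward_closed hφ _
  · intro hψ
    exact ⟨y, ψ, e.inv, hψ, by rw [h]; simp⟩

include hp in
theorem mem_pushforward_map_iff {x : C} (R : Sieve x) {y : C} (ψ : y ⟶ x) :
    (R.functorPushforward p).arrows (p.map ψ) ↔ R.arrows ψ :=
  mem_pushforward_iff hp R ψ (Iso.refl _) _ (by simp)

include hp in
theorem pushforward_pullback {x y : C} (R : Sieve x) (φ : y ⟶ x) :
    (R.pullback φ).functorPushforward p = (R.functorPushforward p).pullback (p.map φ) := by
  ext V f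
  obtain ⟨z, e, ψ, h⟩ := hp.lift y f
  rw [mem_pushforward_iff hp (R.pullback φ) ψ e f h, Sieve.pullback_apply, Sieve.pullback_apply,
    mem_pushforward_iff hp R (ψ ≫ φ) e (f ≫ p.map φ) (by rw [p.map_comp, h, Category.assoc])]

/-- The topology whose covering sieves are those with covering push-forward. -/
def topo : GrothendieckTopology C where
  sieves x := {R | R.functorPushforward p ∈ J (p.obj x)}
  top_mem' x := by
    have : (⊤ : Sieve x).functorPushforward p = ⊤ := by
      rw [← Sieve.id_mem_iff_eq_top]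
      exact ⟨x, 𝟙 x, 𝟙 _, trivial, by simp⟩
    change _ ∈ J _
    rw [this]
    exact J.top_mem _
  pullback_stable' x y R φ hR := by
    change _ ∈ J _
    rw [pushforward_pullback hp]
    exact J.pullback_stable _ hR
  transitive' x R hR R' h := by
    change _ ∈ J _
    refine J.transitive hR _ ?_
    rintro V _ ⟨y, φ, g, hφ, rfl⟩
    rw [Sieve.pullback_comp, ← pushforward_pullback hp]
    exact J.pullback_stable _ (h hφ)

theorem mem_topo_iff {x : C} (R : Sieve x) : R ∈ topo hp J x ↔ R.functorPushforward p ∈ J (p.obj x) := Iff.rfl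

theorem restrictedTopology_eq : p.restrictedTopology J = topo hp J := by
  apply le_antisymm
  · rw [Functor.restrictedTopology]
    refine (Precoverage.toGrothendieck_le_iff_le_toPrecoverage).2 ?_
    intro x R hR
    rw [GrothendieckTopology.mem_toPrecoverage_iff, mem_topo_iff]
    have h1 : R.map p ∈ J.toPrecoverage _ := hR
    rw [GrothendieckTopology.mem_toPrecoverage_iff] at h1
    rw [← Sieve.generate_map_eq_functorPushforward]
    exact h1
  · intro x R hR
    exact Functor.mem_restrictedTopology_of_functorPushforward_mem hR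

include hp in
theorem mem_restrictedTopology_iff {x : C} (R : Sieve x) :
    R ∈ p.restrictedTopology J x ↔ R.functorPushforward p ∈ J (p.obj x) := by
  rw [restrictedTopology_eq hp]
  rfl

theorem topo_comp {p : C ⥤ D} {q : D ⥤ B} (hp : IsFG p) (hq : IsFG q) (hpq : IsFG (p ⋙ q)) :
    topo hpq J = topo hp (topo hq J) := by
  ext x R
  rw [mem_topo_iff, mem_topo_iff, mem_topo_iff, Sieve.functorPushforward_comp]
  rfl

theorem topo_of_iso {p p' : C ⥤ B} (e : p ≅ p') (hp : IsFG p) (hp' : IsFG p') : topo hp J = topo hp' J := by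
  have key : ∀ {p p' : C ⥤ B} (e : p ≅ p') (hp : IsFG p) (hp' : IsFG p') (x : C) (R : Sieve x),
      R ∈ topo hp J x → R ∈ topo hp' J x := by
    intro p p' e hp hp' x R hR
    rw [mem_topo_iff] at hR ⊢
    have h := J.pullback_stable (e.inv.app x) hR
    refine J.superset_covering ?_ h
    intro V f hf
    obtain ⟨y, ε, φ, hφ⟩ := hp'.lift x f
    rw [mem_pushforward_iff hp' R φ ε f hφ]
    rw [Sieve.pullback_apply, mem_pushforward_iff hp R φ (e.app y ≪≫ ε) (f ≫ e.inv.app x) (by
      have h1 := e.hom.naturality φ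
      rw [Iso.trans_hom, Iso.app_hom, Category.assoc, ← reassoc_of% hφ, ← reassoc_of% h1]
      simp)] at hf
    exact hf
  ext x R
  exact ⟨key e hp hp' x R, key e.symm hp' hp x R⟩

theorem over_eq (X : B) : J.over X = topo (IsFG.over_forget X) J := by
  ext Y R
  rw [mem_topo_iff, GrothendieckTopology.mem_over_iff]
  rfl

theorem coverPreserving : CoverPreserving (topo hp J) J p := ⟨fun hR => hR⟩

include hp in
theorem compatiblePreserving : CompatiblePreserving.{w} J p := by
  refine ⟨fun P x T s hs Y₁ Y₂ X f₁ f₂ g₁ g₂ h₁ h₂ h => ?_⟩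
  obtain ⟨z, e, ζ, hζ⟩ := hp.lift x (f₁ ≫ p.map g₁)
  obtain ⟨χ₁, a₁, b₁⟩ := hp.fac g₁ ζ (e.hom ≫ f₁) (by rw [hζ, Category.assoc])
  obtain ⟨χ₂, a₂, b₂⟩ := hp.fac g₂ ζ (e.hom ≫ f₂) (by rw [hζ, Category.assoc, h])
  have h3 := hs χ₁ χ₂ h₁ h₂ (b₁.trans b₂.symm)
  have h4 : P.obj.map e.hom.op (P.obj.map f₁.op (s g₁ h₁)) = P.obj.map e.hom.op (P.obj.map f₂.op (s g₂ h₂)) := by
    have e1 : P.obj.map e.hom.op (P.obj.map f₁.op (s g₁ h₁)) = P.obj.map (p.map χ₁).op (s g₁ h₁) := by
      rw [a₁, op_comp, P.obj.map_comp]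
      rfl
    have e2 : P.obj.map e.hom.op (P.obj.map f₂.op (s g₂ h₂)) = P.obj.map (p.map χ₂).op (s g₂ h₂) := by
      rw [a₂, op_comp, P.obj.map_comp]
      rfl
    rw [e1, e2]
    exact h3
  have h5 : Function.Injective (P.obj.map e.hom.op) := by
    have : IsIso (P.obj.map e.hom.op) := inferInstance
    exact ((isIso_iff_bijective _).1 this).1
  exact h5 h4

theorem isContinuous : p.IsContinuous (topo hp J) J :=
  Functor.isContinuous_of_coverPreserving (compatiblePreserving hp J) (coverPreserving hp J)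

theorem isCocontinuous : p.IsCocontinuous (topo hp J) J where
  cover_lift {x R} hR := by
    rw [mem_topo_iff]
    refine J.superset_covering ?_ hR
    intro V f hf
    obtain ⟨y, e, φ, h⟩ := hp.lift x f
    rw [mem_pushforward_iff hp _ φ e f h]
    change R.arrows (p.map φ)
    rw [h]
    exact R.downward_closed hf _

end Topo

end K998.FG
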