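import Groth.Agent.StCoh.K998.FG
import Groth.Prelude.Def_StCoh

/-!
# Sites of categories fibred in groupoids over schemes
-/

set_option autoImplicit false
set_option backward.isDefEq.respectTransparency false
set_option backward.isDefEq.respectTransparency.types false

universe v₁ u₁ v₂ u₂ v₃ u₃ w u

open CategoryTheory CategoryTheory.Limits Opposite AlgebraicGeometry

namespace K998.FG

theorem isFG_of_isFibGrpd {C : Type u₁} [Category.{v₁} C] {B : Type u₂} [Category.{v₂} B] {p : C ⥤ B}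
    (h : FibCat.IsFibGrpd p) : IsFG p where
  lift x V f := by
    obtain ⟨y, φ, hφ⟩ := h.exists_lift f
    refine ⟨y, eqToIso (IsHomLift.domain_eq p f φ), φ, ?_⟩
    have := IsHomLift.fac' p f φ
    simpa using this
  fac {x y z} φ ψ g hg := by
    have := h.isStronglyCartesian φ
    have hψ : p.IsHomLift (g ≫ p.map φ) ψ := by
      rw [hg]
      infer_instance
    obtain ⟨χ, ⟨h1, h2⟩, -⟩ := Functor.IsStronglyCartesian.universal_property' (p := p) (f := p.map φ) (φ := φ) g ψ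
    refine ⟨χ, ?_, h2⟩
    exact (IsHomLift.eq_of_isHomLift p g χ).symm
  uniq {x y z} φ χ χ' h1 h2 := by
    have := h.isStronglyCartesian φ
    have hψ : p.IsHomLift (p.map χ ≫ p.map φ) (χ ≫ φ) := by
      rw [← p.map_comp]
      infer_instance
    obtain ⟨χ₀, -, h3⟩ := Functor.IsStronglyCartesian.universal_property' (p := p) (f := p.map φ) (φ := φ)
      (p.map χ) (χ ≫ φ)
    rw [h3 χ ⟨inferInstance, rfl⟩, h3 χ' ⟨by rw [h1]; infer_instance, h2.symm⟩]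

section Stack

variable {S : Scheme.{u}} (K : Precoverage Scheme.{u})

theorem J_eq {𝒳 : AlgSt.Cat S} (h : IsFG 𝒳.p) : StCoh.J K 𝒳 = topo h (QuotSh.J K S) := restrictedTopology_eq h _

theorem baseCont {𝒳 : AlgSt.Cat S} (h : IsFG 𝒳.p) : StCoh.BaseCont K 𝒳 := by
  have := isContinuous h (QuotSh.J K S)
  rwa [← J_eq K h] at this

theorem baseCocont {𝒳 : AlgSt.Cat S} (h : IsFG 𝒳.p) : 𝒳.p.IsCocontinuous (StCoh.J K 𝒳) (QuotSh.J K S) := by
  have := isCocontinuous h (QuotSh.J K S)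
  rwa [← J_eq K h] at this

/-- the isomorphism over the base of a based functor -/
def baseIso {𝒳 𝒴 : AlgSt.Cat S} (f : 𝒳 ⥤ᵇ 𝒴) : f.toFunctor ⋙ 𝒴.p ≅ 𝒳.p := eqToIso f.w

theorem isFG_mor {𝒳 𝒴 : AlgSt.Cat S} (f : 𝒳 ⥤ᵇ 𝒴) (h : IsFG 𝒳.p) (h' : IsFG 𝒴.p) : IsFG f.toFunctor :=
  IsFG.over (baseIso f) h h'

theorem J_mor {𝒳 𝒴 : AlgSt.Cat S} (f : 𝒳 ⥤ᵇ 𝒴) (h : IsFG 𝒳.p) (h' : IsFG 𝒴.p) :
    StCoh.J K 𝒳 = topo (isFG_mor f h h') (StCoh.J K 𝒴) := by
  rw [J_eq K h, J_eq K h', ← topo_comp _ (isFG_mor f h h') h' ((isFG_mor f h h').comp h'),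
    topo_of_iso _ (baseIso f) ((isFG_mor f h h').comp h') h]

theorem morCont {𝒳 𝒴 : AlgSt.Cat S} (f : 𝒳 ⥤ᵇ 𝒴) (h : IsFG 𝒳.p) (h' : IsFG 𝒴.p) : StCoh.MorCont K f := by
  have := isContinuous (isFG_mor f h h') (StCoh.J K 𝒴)
  rwa [← J_mor K f h h'] at this

theorem morCocont {𝒳 𝒴 : AlgSt.Cat S} (f : 𝒳 ⥤ᵇ 𝒴) (h : IsFG 𝒳.p) (h' : IsFG 𝒴.p) : StCoh.MorCocont K f := by
  have := isCocontinuous (isFG_mor f h h') (StCoh.J K 𝒴)
  rwa [← J_mor K f h h'] at this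

theorem isFG_id {C : Type u₁} [Category.{v₁} C] : IsFG (𝟭 C) where
  lift _ V f := ⟨V, Iso.refl _, f, (Category.id_comp _).symm⟩
  fac _ _ g h := ⟨g, rfl, h⟩
  uniq _ _ _ h _ := h

end Stack

end K998.FG
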