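import Groth.Agent.StCoh.K998.Transfer

/-!
# Étale localisation on the base of a finite morphism, for categories fibred in groupoids
-/

set_option autoImplicit false

universe u

open CategoryTheory CategoryTheory.Limits Opposite AlgebraicGeometry

namespace K998.FinLoc

open FG Transfer Groth.Agent.Etrest FppfLoc BigEtSite

/-- Lifting of sections, étale-locally on the target of a finite morphism. -/
theorem finLocY {Y₀ T₀ : Scheme.{u}} (f : Y₀ ⟶ T₀) [IsFinite f] {P Q : (Over Y₀)ᵒᵖ ⥤ AddCommGrpCat.{u + 1}}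
    (hP : Presheaf.IsSheaf (JE Y₀) P) (hQ : Presheaf.IsSheaf (JE Y₀) Q) (α : P ⟶ Q)
    (q : Q.obj (op (Over.mk (𝟙 Y₀))))
    (hq : ∀ y : Y₀, ∃ (W : Over Y₀) (g : W ⟶ Over.mk (𝟙 Y₀)), Etale g.left ∧ y ∈ Set.range g.left ∧
      ∃ s : P.obj (op W), α.app (op W) s = Q.map g.op q) (u : T₀) :
    ∃ (U₁ : Scheme.{u}) (g : U₁ ⟶ T₀), Etale g ∧ u ∈ Set.range g ∧
      ∃ s : P.obj (op (Over.mk (pullback.fst f g))), α.app (op (Over.mk (pullback.fst f g))) s =
        Q.map (Over.homMk (pullback.fst f g) (Category.comp_id _) :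
          Over.mk (pullback.fst f g) ⟶ Over.mk (𝟙 Y₀)).op q := by
  obtain ⟨Ω, _, _, η, rfl⟩ := exists_geomPt T₀ u
  let ι : Type u := {y : Spec (CommRingCat.of Ω) ⟶ Y₀ // y ≫ f = η}
  have H : ∀ y : ι, ∃ (W : Over Y₀) (g : W ⟶ Over.mk (𝟙 Y₀)) (w : Spec (CommRingCat.of Ω) ⟶ W.left)
      (s : P.obj (op W)), Etale g.left ∧ w ≫ g.left = y.1 ∧ α.app (op W) s = Q.map g.op q := by
    intro y
    obtain ⟨W, g, hg, ⟨z, hz⟩, s, hs⟩ := hq (y.1 default)
    obtain ⟨w, hw, -⟩ := Scheme.exists_fac_of_etale_of_isSepClosed g.left y.1 z hz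
    exact ⟨W, g, w, s, hg, hw, hs⟩
  choose W g w s hg hw hs using H
  obtain ⟨Z, j, h1, h2, h3, h4⟩ := exists_coprod W
  obtain ⟨k, hk, hke⟩ := h4 (Over.mk (𝟙 Y₀)) g
  have hke := hke hg
  obtain ⟨t, ht⟩ := exists_glue hP j h1 h2 h3 s
  have hαt : α.app (op Z) t = Q.map k.op q := by
    apply eq_of_local hQ
    intro z
    obtain ⟨i, z', hz'⟩ := h2 z
    have := h1 i
    refine ⟨W i, j i, inferInstance, ⟨z', hz'⟩, ?_⟩
    have e1 := ConcreteCategory.congr_hom (α.naturality (j i).op) t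
    rw [ConcreteCategory.comp_apply, ConcreteCategory.comp_apply] at e1
    rw [← e1, ht i, hs i, ← ConcreteCategory.comp_apply, ← Q.map_comp, ← op_comp, hk i]
  obtain ⟨U₁, g₁, hg₁, η₁, hη₁, τ, hτ, -⟩ := FppfPL.exists_pointed_lift f k.left η
    (fun y hy => w ⟨y, hy⟩ ≫ (j ⟨y, hy⟩).left) (fun y hy => by
      rw [Category.assoc, ← Over.comp_left, hk, hw])
  have hkl : k.left = Z.hom := by
    rw [← Over.w k]
    exact (Category.comp_id _).symm
  let τ' : Over.mk (pullback.fst f g₁) ⟶ Z := Over.homMk τ (by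
    rw [← hkl]
    exact hτ)
  have hτ' : τ' ≫ k = Over.homMk (pullback.fst f g₁) (Category.comp_id _) := by
    ext
    exact hτ
  refine ⟨U₁, g₁, hg₁, ⟨η₁ default, ?_⟩, P.map τ'.op t, ?_⟩
  · rw [← hη₁]
    rfl
  · have e1 := ConcreteCategory.congr_hom (α.naturality τ'.op) t
    rw [ConcreteCategory.comp_apply, ConcreteCategory.comp_apply] at e1
    rw [e1, hαt, ← ConcreteCategory.comp_apply, ← Q.map_comp, ← op_comp, hτ']

variable {C : Type (u + 1)} [Category.{u} C] {q : C ⥤ Scheme.{u}} (hq : IsFG q)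

include hq in
/-- The same for categories fibred in groupoids. -/
theorem finLocC {P Q : Cᵒᵖ ⥤ AddCommGrpCat.{u + 1}}
    (hP : Presheaf.IsSheaf (topo hq Scheme.etaleTopology.{u}) P)
    (hQ : Presheaf.IsSheaf (topo hq Scheme.etaleTopology.{u}) Q) {α : P ⟶ Q} (hα : LS q α) {Y : C} {T₀ : Scheme.{u}}
    (f : q.obj Y ⟶ T₀) [IsFinite f] (s : Q.obj (op Y)) (u : T₀) :
    ∃ (U₁ : Scheme.{u}) (g : U₁ ⟶ T₀) (Z : C) (a : Z ⟶ Y) (b : q.obj Z ⟶ U₁), Etale g ∧ u ∈ Set.range g ∧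
      IsPullback (q.map a) b f g ∧ ∃ t : P.obj (op Z), α.app (op Z) t = Q.map a.op s := by
  obtain ⟨ε, h1, h2⟩ := exists_ex hq Y (𝟙 Y)
  have h1' : exHom hq Y (Over.mk (q.map (𝟙 Y))) = ε.inv := by
    rw [← cancel_epi ε.hom, Iso.hom_inv_id]
    exact h1
  let i : Over.mk (q.map (𝟙 Y)) ≅ Over.mk (𝟙 (q.obj Y)) := Over.isoMk (Iso.refl _) (by simp)
  let s' : ((ex hq Y).op ⋙ Q).obj (op (Over.mk (𝟙 (q.obj Y)))) :=
    Q.map (exHom hq Y (Over.mk (𝟙 (q.obj Y)))).op s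
  obtain ⟨U₁, g, hg, hu, t, ht⟩ := finLocY f (isSheaf_exE hq hP Y) (isSheaf_exE hq hQ Y)
    (Functor.whiskerLeft (ex hq Y).op α) s' (fun y => by
      obtain ⟨y', φ, hφ, ⟨w, hw⟩, t, ht⟩ := hα Y s y
      obtain ⟨δ, d1, d2⟩ := exists_ex hq Y φ
      refine ⟨Over.mk (q.map φ), Over.homMk (q.map φ) (Category.comp_id _), hφ, ⟨w, hw⟩, P.map δ.inv.op t, ?_⟩
      change α.app _ (P.map δ.inv.op t) = Q.map ((ex hq Y).map _).op (Q.map (exHom hq Y (Over.mk (𝟙 (q.obj Y)))).op s)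
      rw [FppfMain.nat_apply, ht]
      rw [FppfMain.map_map_apply, FppfMain.map_map_apply, exHom_naturality]
      have d3 : δ.inv ≫ φ = exHom hq Y (Over.mk (q.map φ)) := (Iso.inv_comp_eq _).2 d1.symm
      rw [d3]) u
  let V : Over (q.obj Y) := Over.mk (pullback.fst f g)
  let k : q.obj ((ex hq Y).obj V) ≅ pullback f g := (exIso hq Y).app V
  have hk : q.map (exHom hq Y V) = k.hom ≫ pullback.fst f g := map_exHom hq Y V
  refine ⟨U₁, g, (ex hq Y).obj V, exHom hq Y V, k.hom ≫ pullback.snd f g, hg, hu, ?_, t, ?_⟩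
  · rw [hk]
    have e1 : IsPullback k.hom (k.hom ≫ pullback.snd f g) (pullback.snd f g) (𝟙 _) :=
      IsPullback.of_horiz_isIso ⟨(Category.comp_id _).symm⟩
    have e2 := e1.paste_horiz (IsPullback.of_hasPullback f g)
    rwa [Category.id_comp] at e2
  · refine ht.trans ?_
    change Q.map ((ex hq Y).map _).op (Q.map (exHom hq Y (Over.mk (𝟙 (q.obj Y)))).op s) = _
    rw [FppfMain.map_map_apply, exHom_naturality]

end K998.FinLoc
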