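import Groth.Agent.StCoh.K998.Shift2
import Groth.Prelude.Def_StCoh
import Mathlib.CategoryTheory.Sites.SheafCohomology.Basic
import Mathlib.Algebra.Homology.DerivedCategory.Ext.ExactSequences
import Mathlib.Algebra.Homology.DerivedCategory.Ext.EnoughInjectives

/-!
# Objects representing global sections
-/

set_option autoImplicit false

universe w v₁ u₁ v₂ u₂ u

open CategoryTheory CategoryTheory.Limits Opposite AlgebraicGeometry Abelian

namespace K998.Glob

section GS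

variable {C : Type u₁} [Category.{v₁} C]

/-- natural families -/
def Nt (P : Cᵒᵖ ⥤ AddCommGrpCat.{w}) (s : ∀ W : C, P.obj (op W)) : Prop :=
  ∀ ⦃W W' : C⦄ (f : W' ⟶ W), P.map f.op (s W) = s W'

/-- `(A, g)` represents the functor of natural families of elements. -/
structure IsGS {J : GrothendieckTopology C} (A : Sheaf J AddCommGrpCat.{w}) (g : ∀ W : C, A.obj.obj (op W)) : Prop where
  nat : Nt A.obj g
  ex : ∀ (F : Sheaf J AddCommGrpCat.{w}) (s : ∀ W : C, F.obj.obj (op W)), Nt F.obj s →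
    ∃ φ : A ⟶ F, ∀ W, φ.hom.app (op W) (g W) = s W
  uniq : ∀ (F : Sheaf J AddCommGrpCat.{w}) (φ ψ : A ⟶ F),
    (∀ W, φ.hom.app (op W) (g W) = ψ.hom.app (op W) (g W)) → φ = ψ

theorem Nt.map {P Q : Cᵒᵖ ⥤ AddCommGrpCat.{w}} {s : ∀ W : C, P.obj (op W)} (hs : Nt P s) (α : P ⟶ Q) :
    Nt Q (fun W => α.app (op W) (s W)) := fun W W' f => by
  have h := ConcreteCategory.congr_hom (α.naturality f.op) (s W)
  rw [ConcreteCategory.comp_apply, ConcreteCategory.comp_apply] at h
  dsimp only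
  rw [← h, hs f]

/-- The presheaf version of the universal property. -/
structure IsGP (A : Cᵒᵖ ⥤ AddCommGrpCat.{w}) (g : ∀ W : C, A.obj (op W)) : Prop where
  nat : Nt A g
  ex : ∀ (F : Cᵒᵖ ⥤ AddCommGrpCat.{w}) (s : ∀ W : C, F.obj (op W)), Nt F s →
    ∃ φ : A ⟶ F, ∀ W, φ.app (op W) (g W) = s W
  uniq : ∀ (F : Cᵒᵖ ⥤ AddCommGrpCat.{w}) (φ ψ : A ⟶ F),
    (∀ W, φ.app (op W) (g W) = ψ.app (op W) (g W)) → φ = ψ

theorem isGP_const : IsGP ((Functor.const Cᵒᵖ).obj (AddCommGrpCat.of (ULift.{w} ℤ))) (fun _ => ULift.up 1) where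
  nat _ _ _ := rfl
  ex F s hs := by
    refine ⟨{ app := fun W => AddCommGrpCat.ofHom (uliftZMultiplesHom (F.obj W) (s W.unop))
              naturality := fun W W' f => ?_ }, fun W => ?_⟩
    · ext ⟨n⟩
      change n • s W'.unop = F.map f (n • s W.unop)
      rw [map_zsmul]
      congr 1
      exact (hs f.unop).symm
    · exact one_zsmul _
  uniq F φ ψ h := by
    ext W ⟨n⟩
    have h1 := h W.unop
    have e : (ULift.up n : ULift.{w} ℤ) = n • (ULift.up 1 : ULift.{w} ℤ) := by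
      ext
      change n = n • 1
      simp
    change φ.app W (ULift.up n : ULift.{w} ℤ) = ψ.app W (ULift.up n : ULift.{w} ℤ)
    rw [e]
    exact (map_zsmul (φ.app W).hom n (ULift.up 1 : ULift.{w} ℤ)).trans
      ((congrArg (fun z => n • z) h1).trans (map_zsmul (ψ.app W).hom n (ULift.up 1 : ULift.{w} ℤ)).symm)

theorem IsGP.isGS {P : Cᵒᵖ ⥤ AddCommGrpCat.{w}} {g : ∀ W : C, P.obj (op W)} (h : IsGP P g)
    (J : GrothendieckTopology C) [HasSheafify J AddCommGrpCat.{w}] :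
    IsGS ((presheafToSheaf J AddCommGrpCat.{w}).obj P) (fun W => (toSheafify J P).app (op W) (g W)) where
  nat := h.nat.map _
  ex F s hs := by
    obtain ⟨φ, hφ⟩ := h.ex F.obj s hs
    refine ⟨⟨sheafifyLift J φ F.property⟩, fun W => ?_⟩
    change (toSheafify J P ≫ sheafifyLift J φ F.property).app (op W) (g W) = _
    rw [toSheafify_sheafifyLift]
    exact hφ W
  uniq F φ ψ hφ := by
    apply Sheaf.hom_ext
    refine sheafify_hom_ext J _ _ F.property ?_
    apply h.uniq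
    exact hφ

theorem IsGS.of_le {J K : GrothendieckTopology C} (hJK : J ≤ K) {A : Sheaf J AddCommGrpCat.{w}}
    {g : ∀ W : C, A.obj.obj (op W)} (h : IsGS A g) [HasSheafify K AddCommGrpCat.{w}] :
    IsGS ((presheafToSheaf K AddCommGrpCat.{w}).obj A.obj) (fun W => (toSheafify K A.obj).app (op W) (g W)) where
  nat := h.nat.map _
  ex F s hs := by
    have hF : Presheaf.IsSheaf J F.obj := fun E => Presieve.isSheaf_of_le _ hJK (F.property E)
    obtain ⟨φ, hφ⟩ := h.ex ⟨F.obj, hF⟩ s hs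
    refine ⟨⟨sheafifyLift K φ.hom F.property⟩, fun W => ?_⟩
    change (toSheafify K A.obj ≫ sheafifyLift K φ.hom F.property).app (op W) (g W) = _
    rw [toSheafify_sheafifyLift]
    exact hφ W
  uniq F φ ψ hφ := by
    have hF : Presheaf.IsSheaf J F.obj := fun E => Presieve.isSheaf_of_le _ hJK (F.property E)
    apply Sheaf.hom_ext
    refine sheafify_hom_ext K _ _ F.property ?_
    have := h.uniq ⟨F.obj, hF⟩ ⟨toSheafify K A.obj ≫ φ.hom⟩ ⟨toSheafify K A.obj ≫ ψ.hom⟩ hφ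
    exact congrArg (fun k => k.hom) this

/-- The subgroup of natural families. -/
def NtG (P : Cᵒᵖ ⥤ AddCommGrpCat.{w}) : AddSubgroup (∀ W : C, P.obj (op W)) where
  carrier := {s | Nt P s}
  zero_mem' := fun _ _ f => map_zero _
  add_mem' := fun {s t} hs ht W W' f => by
    change P.map f.op (s W + t W) = s W' + t W'
    rw [map_add, hs f, ht f]
  neg_mem' := fun {s} hs W W' f => by
    change P.map f.op (- s W) = - s W'
    rw [map_neg, hs f]

/-- Morphisms out of `A` are natural families. -/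
noncomputable def IsGS.equiv {J : GrothendieckTopology C} {A : Sheaf J AddCommGrpCat.{w}} {g : ∀ W : C, A.obj.obj (op W)}
    (h : IsGS A g) (F : Sheaf J AddCommGrpCat.{w}) : (A ⟶ F) ≃+ NtG F.obj :=
  AddEquiv.ofBijective
    ({ toFun := fun φ => ⟨fun W => φ.hom.app (op W) (g W), h.nat.map φ.hom⟩
       map_zero' := rfl
       map_add' := fun _ _ => rfl } : (A ⟶ F) →+ NtG F.obj)
    ⟨fun φ ψ hφ => h.uniq F φ ψ fun W => congrFun (congrArg Subtype.val hφ) W,
      fun s => ⟨(h.ex F s.1 s.2).choose, Subtype.ext (funext (h.ex F s.1 s.2).choose_spec)⟩⟩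

theorem IsGS.equiv_apply {J : GrothendieckTopology C} {A : Sheaf J AddCommGrpCat.{w}} {g : ∀ W : C, A.obj.obj (op W)}
    (h : IsGS A g) {F : Sheaf J AddCommGrpCat.{w}} (φ : A ⟶ F) (W : C) :
    (h.equiv F φ).1 W = φ.hom.app (op W) (g W) := rfl

end GS

section Ses

variable {A : Type u₁} [Category.{v₁} A] [Abelian A]

theorem exists_ses [EnoughInjectives A] (F : A) : ∃ (I Q : A) (ι : F ⟶ I) (π : I ⟶ Q) (w : ι ≫ π = 0),
    (ShortComplex.mk ι π w).ShortExact ∧ Injective I := by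
  obtain ⟨pr⟩ := EnoughInjectives.presentation F
  have hm : Mono pr.f := pr.mono
  have hi : Injective pr.J := pr.injective
  exact ⟨pr.J, cokernel pr.f, pr.f, cokernel.π pr.f, cokernel.condition pr.f,
    { exact := ShortComplex.exact_cokernel pr.f
      mono_f := hm
      epi_g := inferInstanceAs (Epi (cokernel.π pr.f)) }, hi⟩

theorem smul_ext [HasExt.{w} A] {X Y Z : A} {n m k : ℕ} (N : ℤ) (x : Ext.{w} X Y n) (y : Ext.{w} Y Z m) (h : n + m = k) :
    (N • x).comp y h = N • (x.comp y h) := map_zsmul (y.postcomp X h) N x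

end Ses

section Kill

open FG Transfer Coch Shift

variable {S : Scheme.{u}} {C : Type (u + 1)} [Category.{u} C] {p : C ⥤ Over S} {x₀ : C} (hp : IsFG p)
  (h : Cov p x₀)

/-- Étale neighbourhoods of `τ` split. -/
def Spl (S : Scheme.{u}) (τ : S) : Prop :=
  ∀ (T' : Over S), Etale T'.hom → τ ∈ Set.range T'.hom → ∃ σ : S ⟶ T'.left, σ ≫ T'.hom = 𝟙 S

theorem Spl.exists_section {τ : S} (hS : Spl S τ) {T' : Over S} (g : T' ⟶ Over.mk (𝟙 S)) (hg : Etale g.left)
    (hτ : τ ∈ Set.range g.left) : ∃ σ : Over.mk (𝟙 S) ⟶ T', σ ≫ g = 𝟙 _ := by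
  have e : g.left = T'.hom := by simpa using Over.w g
  rw [e] at hg hτ
  obtain ⟨σ, hσ⟩ := hS T' hg hτ
  refine ⟨Over.homMk σ hσ, Over.mkIdTerminal.hom_ext _ _⟩

/-- The global family of a natural family. -/
def toG (p : C ⥤ Over S) {P : Cᵒᵖ ⥤ AddCommGrpCat.{u + 1}} (s : ∀ W : C, P.obj (op W)) : Gg p P (Over.mk (𝟙 S)) := fun W _ => s W

theorem isG_toG {P : Cᵒᵖ ⥤ AddCommGrpCat.{u + 1}} {s : ∀ W : C, P.obj (op W)} (hs : Nt P s) : IsG (toG p s) :=
  fun _ _ f _ => hs f

/-- The natural family of a global family. -/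
noncomputable def ofT {P : Cᵒᵖ ⥤ AddCommGrpCat.{u + 1}} (s : Gg p P (Over.mk (𝟙 S))) : ∀ W : C, P.obj (op W) :=
  fun W => s W (Over.mkIdTerminal.from _)

theorem nt_ofT {P : Cᵒᵖ ⥤ AddCommGrpCat.{u + 1}} {s : Gg p P (Over.mk (𝟙 S))} (hs : IsG s) : Nt P (ofT s) :=
  fun W W' f => by
    rw [ofT, hs f, ofT]
    congr 1
    exact Over.mkIdTerminal.hom_ext _ _

include h in
/-- Cohomology is killed. -/
theorem kill {A : AF hp} {g : ∀ W : C, A.obj.obj (op W)} (hA : IsGS A g) (D : Pts S) (τ : S)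
    (hτ : D.Cd (Over.mk (𝟙 S)) τ) (hS : Spl S τ) (N : ℤ) : ∀ (n : ℕ) (F : AF hp), PCA (isFG_qf hp) F.obj →
      LCo p x₀ N D F.obj n → ∀ c : Ext.{u + 1} A F (n + 1), N • c = 0 := by
  intro n
  induction n with
  | zero =>
    intro F hF hL c
    obtain ⟨I, Q, ι, π, w, hE, hI⟩ := exists_ses F
    obtain ⟨x, hx⟩ := Ext.covariant_sequence_exact₁ A hE c (Ext.eq_zero_of_injective _) (by rfl : 0 + 1 = 0 + 1)
    obtain ⟨s, rfl⟩ := (Ext.mk₀_bijective A Q).2 x
    have : Injective (ShortComplex.mk ι π w).X₂ := hI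
    let fs := (hA.equiv Q s)
    obtain ⟨T', g', hg', hτ', s', hs', hss⟩ := shift_zero hp h hE hF hL (toG p fs.1) (isG_toG fs.2) τ hτ
    obtain ⟨σ, hσ⟩ := hS.exists_section g' hg' hτ'
    let s'' : Gg p I.obj (Over.mk (𝟙 S)) := resG σ s'
    have h1 : mapG π.hom s'' = N • toG p fs.1 := by
      funext W t
      have h2 := congrFun (congrFun hss W) (t ≫ σ)
      change π.hom.app (op W) (s' W (t ≫ σ)) = _
      refine h2.trans ?_
      rfl
    obtain ⟨φ, hφ⟩ := hA.ex I (ofT s'') (nt_ofT (hs'.res σ))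
    have h2 : φ ≫ π = N • s := by
      apply hA.uniq
      intro W
      change π.hom.app (op W) (φ.hom.app (op W) (g W)) = _
      rw [hφ]
      refine (congrFun (congrFun h1 W) _).trans ?_
      rfl
    rw [← hx]
    have h3 : N • (Ext.mk₀ s) = (Ext.mk₀ φ).comp (Ext.mk₀ π) (by rfl : 0 + 0 = 0) := by
      rw [Ext.mk₀_comp_mk₀, h2]
      exact (map_zsmul (Ext.addEquiv₀ (X := A) (Y := Q)).symm N s).symm
    rw [← smul_ext, h3, Ext.comp_assoc_of_second_deg_zero]
    have h5 := hE.comp_extClass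
    dsimp only at h5
    rw [h5, Ext.comp_zero]
  | succ n ih =>
    intro F hF hL c
    obtain ⟨I, Q, ι, π, w, hE, hI⟩ := exists_ses F
    obtain ⟨x, hx⟩ := Ext.covariant_sequence_exact₁ A hE c (Ext.eq_zero_of_injective _) (by rfl : (n + 1) + 1 = (n + 1) + 1)
    have : Injective (ShortComplex.mk ι π w).X₂ := hI
    have h1 := (shift (isFG_qf hp) hE hF).1
    have h2 := ih Q h1 (shift_lc hp h hE hF hL) x
    rw [← hx, ← smul_ext, h2, Ext.zero_comp]

end Kill

end K998.Glob
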