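import Groth.Agent.StCoh.K998.Glob

/-!
# Cohomology of a stack over a strictly henselian base in terms of Čech cochains
-/

set_option autoImplicit false

universe w v₁ u₁ v₂ u₂ u

open CategoryTheory CategoryTheory.Limits Opposite AlgebraicGeometry Abelian

namespace K998.Glob

section Rel

variable {A B A' B' : Type*} [AddCommGroup A] [AddCommGroup B] [AddCommGroup A'] [AddCommGroup B']

/-- Additive relations. -/
theorem relEquiv (E : A → B → Prop) (hadd : ∀ a a' b b', E a b → E a' b' → E (a + a') (b + b'))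
    (hneg : ∀ a b, E a b → E (-a) (-b)) (h1 : ∀ a, ∃ b, E a b) (h2 : ∀ b, ∃ a, E a b)
    (f : A →+ A') (hf : Function.Surjective f) (g : B →+ B') (hg : Function.Surjective g)
    (h : ∀ a b, E a b → (f a = 0 ↔ g b = 0)) : Nonempty (A' ≃+ B') := by
  have h0 : E 0 0 := by
    obtain ⟨b, hb⟩ := h1 0
    have := hadd _ _ _ _ hb (hneg _ _ hb)
    simpa using this
  let Z : AddSubgroup (A × B) :=
    { carrier := {x | E x.1 x.2}
      zero_mem' := h0
      add_mem' := fun {x y} hx hy => hadd _ _ _ _ hx hy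
      neg_mem' := fun {x} hx => hneg _ _ hx }
  let φ : Z →+ A' := f.comp ((AddMonoidHom.fst A B).comp Z.subtype)
  let ψ : Z →+ B' := g.comp ((AddMonoidHom.snd A B).comp Z.subtype)
  have hφ : Function.Surjective φ := by
    intro x
    obtain ⟨a, rfl⟩ := hf x
    obtain ⟨b, hb⟩ := h1 a
    exact ⟨⟨(a, b), hb⟩, rfl⟩
  have hψ : Function.Surjective ψ := by
    intro x
    obtain ⟨b, rfl⟩ := hg x
    obtain ⟨a, ha⟩ := h2 b
    exact ⟨⟨(a, b), ha⟩, rfl⟩
  have hk : φ.ker = ψ.ker := by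
    ext ⟨⟨a, b⟩, hab⟩
    exact h a b hab
  exact ⟨Groth.Agent.Etrest.RAcyc.equivOfKerEq φ ψ hφ hψ hk⟩

end Rel

section Zc

open FG Transfer Coch Shift Groth.Agent.Etrest FppfCoch

theorem dS_add {X A : Type*} [AddCommGroup A] {n : ℕ} (φ ψ : (Fin (n + 1) → X) → A) (x : Fin (n + 2) → X) :
    dS (fun y => φ y + ψ y) x = dS φ x + dS ψ x := by
  simp only [dS, smul_add, Finset.sum_add_distrib]

theorem dS_neg {X A : Type*} [AddCommGroup A] {n : ℕ} (φ : (Fin (n + 1) → X) → A) (x : Fin (n + 2) → X) :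
    dS (fun y => - φ y) x = - dS φ x := by
  simp only [dS, smul_neg, Finset.sum_neg_distrib]

variable {C : Type u₁} [Category.{v₁} C] {B : Type u₂} [Category.{v₂} B] (p : C ⥤ B) (x₀ : C)
  (P Q : Cᵒᵖ ⥤ AddCommGrpCat.{w})

/-- cocycles -/
def Zc (T : B) (n : ℕ) : AddSubgroup (Cc p x₀ P T n) where
  carrier := {c | IsC c ∧ IsZ c}
  zero_mem' := ⟨fun _ _ f _ _ => map_zero _, fun _ _ _ => by
    change dS (fun _ => 0) _ = 0
    simp [dS]⟩
  add_mem' := fun {s t} hs ht => ⟨fun W W' f a v => by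
      change P.map f.op (s W a v + t W a v) = s W' _ _ + t W' _ _
      rw [map_add, hs.1 f, ht.1 f],
    fun W a v => by
      change dS (fun x => s W a x + t W a x) v = 0
      rw [dS_add, hs.2 a v, ht.2 a v, add_zero]⟩
  neg_mem' := fun {s} hs => ⟨fun W W' f a v => by
      change P.map f.op (- s W a v) = - s W' _ _
      rw [map_neg, hs.1 f],
    fun W a v => by
      change dS (fun x => - s W a x) v = 0
      rw [dS_neg, hs.2 a v, neg_zero]⟩

/-- coboundaries -/
def Bc (T : B) (n : ℕ) : AddSubgroup (Zc p x₀ P T (n + 1)) where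
  carrier := {c | ∃ b : Cc p x₀ P T n, IsC b ∧ IsB b c.1}
  zero_mem' := ⟨fun _ _ _ => 0, fun _ _ f _ _ => map_zero _, fun _ _ _ => by
    change dS (fun _ => 0) _ = 0
    simp [dS]⟩
  add_mem' := by
    rintro s t ⟨b, hb, hbs⟩ ⟨b', hb', hbt⟩
    refine ⟨fun W a v => b W a v + b' W a v, fun W W' f a v => ?_, fun W a v => ?_⟩
    · dsimp only
      rw [map_add, hb f, hb' f]
    · change dS (fun x => b W a x + b' W a x) v = s.1 W a v + t.1 W a v
      rw [dS_add]
      exact congrArg₂ (· + ·) (hbs a v) (hbt a v)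
  neg_mem' := by
    rintro s ⟨b, hb, hbs⟩
    refine ⟨fun W a v => - b W a v, fun W W' f a v => ?_, fun W a v => ?_⟩
    · dsimp only
      rw [map_neg, hb f]
    · change dS (fun x => - b W a x) v = - s.1 W a v
      rw [dS_neg]
      exact congrArg Neg.neg (hbs a v)

end Zc

section Main

open FG Transfer Coch Shift Groth.Agent.Etrest FppfCoch

variable {S : Scheme.{u}} {C : Type (u + 1)} [Category.{u} C] {p : C ⥤ Over S} {x₀ : C} (hp : IsFG p)
  (h : Cov p x₀)

theorem Rel.res {E : ShortComplex (AF hp)} {T T' : Over S} {s : Gg p E.X₃.obj T} {χ : Cc p x₀ E.X₁.obj T 1}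
    (hr : Rel hp x₀ s χ) (g : T' ⟶ T) : Rel hp x₀ (resG g s) (resC g χ) := by
  obtain ⟨c', hc', hcs, hd⟩ := hr
  refine ⟨resC g c', hc'.res g, ?_, ?_⟩
  · funext W t v
    exact congrFun (congrFun (congrFun hcs W) (t ≫ g)) v
  · funext W t v
    exact congrFun (congrFun (congrFun hd W) (t ≫ g)) v

theorem resG_comp {P : Cᵒᵖ ⥤ AddCommGrpCat.{u + 1}} {T T' T'' : Over S} (g : T' ⟶ T) (g' : T'' ⟶ T') (s : Gg p P T) :
    resG g' (resG g s) = resG (g' ≫ g) s := by
  funext W t
  simp only [resG, Category.assoc]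

theorem resG_id {P : Cᵒᵖ ⥤ AddCommGrpCat.{u + 1}} {T : Over S} (s : Gg p P T) :
    resG (𝟙 T) s = s := by
  funext W t
  simp only [resG, Category.comp_id]

theorem resC_comp {P : Cᵒᵖ ⥤ AddCommGrpCat.{u + 1}} {T T' T'' : Over S} (g : T' ⟶ T) (g' : T'' ⟶ T') {n : ℕ}
    (s : Cc p x₀ P T n) : resC g' (resC g s) = resC (g' ≫ g) s := by
  funext W t v
  simp only [resC, Category.assoc]

theorem resC_id {P : Cᵒᵖ ⥤ AddCommGrpCat.{u + 1}} {T : Over S} {n : ℕ} (s : Cc p x₀ P T n) :
    resC (𝟙 T) s = s := by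
  funext W t v
  simp only [resC, Category.comp_id]

include h in
/-- `H¹` in terms of cocycles. -/
theorem ext_one {A : AF hp} {g : ∀ W : C, A.obj.obj (op W)} (hA : IsGS A g) (τ : S)
    (hS : Spl S τ) (F : AF hp) (hF : PCA (isFG_qf hp) F.obj) :
    Nonempty (Ext.{u + 1} A F 1 ≃+ (Zc p x₀ F.obj (Over.mk (𝟙 S)) 1 ⧸ Bc p x₀ F.obj (Over.mk (𝟙 S)) 0)) := by
  obtain ⟨I, Q, ι, π, w, hE, hI⟩ := exists_ses F
  have : Injective (ShortComplex.mk ι π w).X₂ := hI
  let δ : (A ⟶ Q) →+ Ext.{u + 1} A F 1 := (hE.extClass.postcomp A (zero_add 1)).comp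
    (Ext.addEquiv₀ (X := A) (Y := Q)).symm.toAddMonoidHom
  have hδ : ∀ s, δ s = (Ext.mk₀ s).comp hE.extClass (zero_add 1) := fun _ => rfl
  refine relEquiv (A := (A ⟶ Q)) (B := Zc p x₀ F.obj (Over.mk (𝟙 S)) 1)
    (fun s χ => Rel hp x₀ (E := ShortComplex.mk ι π w) (toG p (hA.equiv Q s).1) χ.1) ?_ ?_ ?_ ?_ δ ?_
    (QuotientAddGroup.mk' _) (QuotientAddGroup.mk'_surjective _) ?_
  · rintro s s' χ χ' ⟨c, hc, h1, h2⟩ ⟨c', hc', h1', h2'⟩
    refine ⟨fun W t v => c W t v + c' W t v, fun W W' f t v => ?_, ?_, ?_⟩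
    · dsimp only
      rw [map_add, hc f, hc' f]
    · funext W t v
      have e1 : π.hom.app (op W) (c W t v) = _ := congrFun (congrFun (congrFun h1 W) t) v
      have e2 : π.hom.app (op W) (c' W t v) = _ := congrFun (congrFun (congrFun h1' W) t) v
      change π.hom.app (op W) (c W t v + c' W t v) = (hA.equiv Q (s + s')).1 W
      rw [map_add, e1, e2, map_add]
      rfl
    · funext W t v
      have e1 : dS (c W t) v = ι.hom.app (op W) (χ.1 W t v) := congrFun (congrFun (congrFun h2 W) t) v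
      have e2 : dS (c' W t) v = ι.hom.app (op W) (χ'.1 W t v) := congrFun (congrFun (congrFun h2' W) t) v
      change dS (fun x => c W t x + c' W t x) v = ι.hom.app (op W) (χ.1 W t v + χ'.1 W t v)
      rw [dS_add, map_add, e1, e2]
  · rintro s χ ⟨c, hc, h1, h2⟩
    refine ⟨fun W t v => - c W t v, fun W W' f t v => ?_, ?_, ?_⟩
    · dsimp only
      rw [map_neg, hc f]
    · funext W t v
      have e1 : π.hom.app (op W) (c W t v) = _ := congrFun (congrFun (congrFun h1 W) t) v
      change π.hom.app (op W) (- c W t v) = (hA.equiv Q (- s)).1 W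
      rw [map_neg, e1, map_neg]
      rfl
    · funext W t v
      have e1 : dS (c W t) v = ι.hom.app (op W) (χ.1 W t v) := congrFun (congrFun (congrFun h2 W) t) v
      change dS (fun x => - c W t x) v = ι.hom.app (op W) (- χ.1 W t v)
      rw [dS_neg, map_neg, e1]
  · intro s
    obtain ⟨T', g', hg', hτ', χ, hχ, hz, hr⟩ := exists_rel hp h hE hF (toG p (hA.equiv Q s).1)
      (isG_toG (hA.equiv Q s).2) τ
    obtain ⟨σ, hσ⟩ := hS.exists_section g' hg' hτ'
    refine ⟨⟨resC σ χ, hχ.res σ, hz.res σ⟩, ?_⟩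
    have := Rel.res hp hr σ
    rw [resG_comp, hσ, resG_id] at this
    exact this
  · rintro ⟨χ, hχ, hz⟩
    obtain ⟨s, hs, hr⟩ := exists_rel' hp h hE χ hχ hz
    refine ⟨(hA.equiv Q).symm ⟨ofT s, nt_ofT hs⟩, ?_⟩
    rw [AddEquiv.apply_symm_apply]
    have e : toG p (ofT s) = s := by
      funext W t
      change s W _ = s W t
      congr 1
      exact Over.mkIdTerminal.hom_ext _ _
    rw [e]
    exact hr
  · intro c
    obtain ⟨x, hx⟩ := Ext.covariant_sequence_exact₁ A hE c (Ext.eq_zero_of_injective _) (zero_add 1)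
    obtain ⟨s, rfl⟩ := (Ext.mk₀_bijective A Q).2 x
    exact ⟨s, hx⟩
  · rintro s ⟨χ, hχ, hz⟩ hr
    rw [hδ, QuotientAddGroup.mk'_apply, QuotientAddGroup.eq_zero_iff]
    constructor
    · intro h0
      obtain ⟨y, hy⟩ := Ext.covariant_sequence_exact₃ A hE (Ext.mk₀ s) (zero_add 1) h0
      obtain ⟨φ, rfl⟩ := (Ext.mk₀_bijective A I).2 y
      dsimp only at hy
      rw [Ext.mk₀_comp_mk₀] at hy
      have e1 : φ ≫ π = s := (Ext.mk₀_bijective A Q).1 hy
      have e2 : toG p (hA.equiv Q s).1 = mapG π.hom (toG p (hA.equiv I φ).1) := by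
        subst e1
        rfl
      dsimp only at hr
      rw [e2] at hr
      exact rel_cob hp hE (isG_toG (hA.equiv I φ).2) hr
    · rintro ⟨b, hb, hbc⟩
      obtain ⟨s', hs', hss⟩ := rel_image hp h hE (isG_toG (hA.equiv Q s).2) hr (N := 1) hb (by
        intro W t v
        rw [hbc t v, smC, one_smul])
      rw [one_smul] at hss
      obtain ⟨φ, hφ⟩ := hA.ex I (ofT s') (nt_ofT hs')
      have h2 : φ ≫ π = s := by
        apply hA.uniq
        intro W
        change π.hom.app (op W) (φ.hom.app (op W) (g W)) = _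
        rw [hφ]
        exact congrFun (congrFun hss W) _
      rw [← h2, ← Ext.mk₀_comp_mk₀, Ext.comp_assoc_of_second_deg_zero]
      have h5 := hE.comp_extClass
      dsimp only at h5
      rw [h5, Ext.comp_zero]

include h in
/-- Shift of Čech cohomology. -/
theorem cc_shift (τ : S) (hS : Spl S τ) {E : ShortComplex (AF hp)} (hE : E.ShortExact) [Injective E.X₂]
    (hF : PCA (isFG_qf hp) E.X₁.obj) (n : ℕ) :
    Nonempty ((Zc p x₀ E.X₃.obj (Over.mk (𝟙 S)) (n + 1) ⧸ Bc p x₀ E.X₃.obj (Over.mk (𝟙 S)) n) ≃+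
      (Zc p x₀ E.X₁.obj (Over.mk (𝟙 S)) (n + 2) ⧸ Bc p x₀ E.X₁.obj (Over.mk (𝟙 S)) (n + 1))) := by
  have hL := lex_of_shortExact hp hE
  have hI := injective_obj (isFG_qf hp) E.X₂
  refine relEquiv (A := Zc p x₀ E.X₃.obj (Over.mk (𝟙 S)) (n + 1)) (B := Zc p x₀ E.X₁.obj (Over.mk (𝟙 S)) (n + 2))
    (fun c e => ∃ c' : Cc p x₀ E.X₂.obj (Over.mk (𝟙 S)) (n + 1), IsC c' ∧ mapC E.g.hom c' = c.1 ∧
      dC c' = mapC E.f.hom e.1) ?_ ?_ ?_ ?_ (QuotientAddGroup.mk' _) (QuotientAddGroup.mk'_surjective _)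
    (QuotientAddGroup.mk' _) (QuotientAddGroup.mk'_surjective _) ?_
  · rintro s s' χ χ' ⟨c, hc, h1, h2⟩ ⟨c', hc', h1', h2'⟩
    refine ⟨fun W t v => c W t v + c' W t v, fun W W' f t v => ?_, ?_, ?_⟩
    · dsimp only
      rw [map_add, hc f, hc' f]
    · funext W t v
      have e1 : E.g.hom.app (op W) (c W t v) = _ := congrFun (congrFun (congrFun h1 W) t) v
      have e2 : E.g.hom.app (op W) (c' W t v) = _ := congrFun (congrFun (congrFun h1' W) t) v
      change E.g.hom.app (op W) (c W t v + c' W t v) = s.1 W t v + s'.1 W t v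
      rw [map_add, e1, e2]
    · funext W t v
      have e1 : dS (c W t) v = E.f.hom.app (op W) (χ.1 W t v) := congrFun (congrFun (congrFun h2 W) t) v
      have e2 : dS (c' W t) v = E.f.hom.app (op W) (χ'.1 W t v) := congrFun (congrFun (congrFun h2' W) t) v
      change dS (fun x => c W t x + c' W t x) v = E.f.hom.app (op W) (χ.1 W t v + χ'.1 W t v)
      rw [dS_add, map_add, e1, e2]
  · rintro s χ ⟨c, hc, h1, h2⟩
    refine ⟨fun W t v => - c W t v, fun W W' f t v => ?_, ?_, ?_⟩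
    · dsimp only
      rw [map_neg, hc f]
    · funext W t v
      have e1 : E.g.hom.app (op W) (c W t v) = _ := congrFun (congrFun (congrFun h1 W) t) v
      change E.g.hom.app (op W) (- c W t v) = - s.1 W t v
      rw [map_neg, e1]
    · funext W t v
      have e1 : dS (c W t) v = E.f.hom.app (op W) (χ.1 W t v) := congrFun (congrFun (congrFun h2 W) t) v
      change dS (fun x => - c W t x) v = E.f.hom.app (op W) (- χ.1 W t v)
      rw [dS_neg, map_neg, e1]
  · rintro ⟨c, hc, hz⟩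
    obtain ⟨T', g', hg', hτ', c', e, hc', he, hez, hcc, hde⟩ := exists_lift_cocycle hp h hE hF c hc hz τ
    obtain ⟨σ, hσ⟩ := hS.exists_section g' hg' hτ'
    refine ⟨⟨resC σ e, he.res σ, hez.res σ⟩, resC σ c', hc'.res σ, ?_, ?_⟩
    · have : mapC E.g.hom (resC σ c') = resC σ (mapC E.g.hom c') := rfl
      rw [this, hcc, resC_comp, hσ, resC_id]
    · have e1 : dC (resC σ c') = resC σ (dC c') := rfl
      rw [e1, hde]
      rfl
  · rintro ⟨e, he, hez⟩
    obtain ⟨a, ha, hab⟩ := exists_cob_of_injective (mapC E.f.hom e) (he.map _) (hez.map _)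
    have hda : dC a = mapC E.f.hom e := by
      funext W t v
      exact hab t v
    refine ⟨⟨mapC E.g.hom a, ha.map _, fun W t v => ?_⟩, a, ha, rfl, hda⟩
    rw [dS_mapC, hab t v]
    exact hL.comp W _
  · rintro ⟨c, hc, hz⟩ ⟨e, he, hez⟩ ⟨c', hc', h1, h2⟩
    dsimp only at h1 h2
    rw [QuotientAddGroup.mk'_apply, QuotientAddGroup.mk'_apply, QuotientAddGroup.eq_zero_iff,
      QuotientAddGroup.eq_zero_iff]
    constructor
    · rintro ⟨b, hb, hbc⟩
      obtain ⟨T', g', hg', hτ', b', hb', hbb⟩ := exists_lift_cochain h hp (isSheaf_E _ E.X₂.property)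
        (isSheaf_E _ E.X₃.property) (ls_of (isFG_qf hp) (shift (isFG_qf hp) hE hF).2) b hb τ
      obtain ⟨σ, hσ⟩ := hS.exists_section g' hg' hτ'
      have hbb' : mapC E.g.hom (resC σ b') = b := by
        have : mapC E.g.hom (resC σ b') = resC σ (mapC E.g.hom b') := rfl
        rw [this, hbb, resC_comp, hσ, resC_id]
      let w := subC c' (dC (resC σ b'))
      have hw : IsC w := hc'.sub (hb'.res σ).dC
      have h0 : mapC E.g.hom w = 0 := by
        funext W t v
        change E.g.hom.app (op W) (c' W t v - dS (resC σ b' W t) v) = 0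
        have e1 : E.g.hom.app (op W) (c' W t v) = c W t v := congrFun (congrFun (congrFun h1 W) t) v
        rw [map_sub, ← dS_mapC, hbb', e1, hbc t v, sub_self]
      have h3 := mapC_pullC hL w h0
      refine ⟨pullC E.f.hom w, ?_, ?_⟩
      · apply isC_of_map hL
        rw [h3]
        exact hw
      · intro W t v
        apply hL.inj'
        rw [← dS_mapC, h3, dS_subC]
        have e2 : dS (dC (resC σ b') W t) v = 0 := dS_dS _ _
        rw [e2, sub_zero]
        exact congrFun (congrFun (congrFun h2 W) t) v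
    · rintro ⟨b, hb, hbe⟩
      let w := subC c' (mapC E.f.hom b)
      have hw : IsC w := hc'.sub (hb.map _)
      have hwz : IsZ w := by
        intro W t v
        have e1 : dS (c' W t) v = E.f.hom.app (op W) (e W t v) := congrFun (congrFun (congrFun h2 W) t) v
        rw [dS_subC, dS_mapC, hbe t v, e1, sub_self]
      obtain ⟨a, ha, hab⟩ := exists_cob_of_injective w hw hwz
      refine ⟨mapC E.g.hom a, ha.map _, ?_⟩
      intro W t v
      rw [hab.map E.g.hom t v]
      change E.g.hom.app (op W) (c' W t v - E.f.hom.app (op W) (b W t v)) = c W t v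
      have e1 : E.g.hom.app (op W) (c' W t v) = c W t v := congrFun (congrFun (congrFun h1 W) t) v
      rw [map_sub, hL.comp, sub_zero, e1]

include h in
/-- Cohomology in terms of cocycles. -/
theorem ext_succ {A : AF hp} {g : ∀ W : C, A.obj.obj (op W)} (hA : IsGS A g) (τ : S)
    (hS : Spl S τ) : ∀ (n : ℕ) (F : AF hp) (_ : PCA (isFG_qf hp) F.obj),
    Nonempty (Ext.{u + 1} A F (n + 1) ≃+
      (Zc p x₀ F.obj (Over.mk (𝟙 S)) (n + 1) ⧸ Bc p x₀ F.obj (Over.mk (𝟙 S)) n)) := by
  intro n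
  induction n with
  | zero => exact fun F hF => ext_one hp h hA τ hS F hF
  | succ n ih =>
    intro F hF
    obtain ⟨I, Q, ι, π, w, hE, hI⟩ := exists_ses F
    have : Injective (ShortComplex.mk ι π w).X₂ := hI
    obtain ⟨e1⟩ := ih Q (shift (isFG_qf hp) hE hF).1
    obtain ⟨e2⟩ := cc_shift hp h τ hS hE hF n
    let δ : Ext.{u + 1} A Q (n + 1) →+ Ext.{u + 1} A F (n + 2) := hE.extClass.postcomp A rfl
    have hδ : Function.Bijective δ := by
      constructor
      · rw [injective_iff_map_eq_zero]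
        intro x hx
        obtain ⟨y, hy⟩ := Ext.covariant_sequence_exact₃ A hE x rfl hx
        rw [← hy, Ext.eq_zero_of_injective y, Ext.zero_comp]
      · intro c
        obtain ⟨x, hx⟩ := Ext.covariant_sequence_exact₁ A hE c (Ext.eq_zero_of_injective _) rfl
        exact ⟨x, hx⟩
    exact ⟨(AddEquiv.ofBijective δ hδ).symm.trans (e1.trans e2)⟩

end Main

end K998.Glob
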