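import Groth.Agent.StCoh.K998.Gm
import Groth.Agent.StCoh.K998.FreeChart
import Mathlib.LinearAlgebra.Charpoly.BaseChange
import Mathlib.RingTheory.Norm.Basic

/-!
# Norms of units along finite locally free morphisms
-/

set_option autoImplicit false
set_option linter.style.haveILetI false

universe u

open CategoryTheory CategoryTheory.Limits Opposite AlgebraicGeometry
open scoped TensorProduct

namespace K998.Norm

section Alg

variable {A B : Type u} [CommRing A] [CommRing B] [Algebra A B] [Module.Free A B] [Module.Finite A B]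

theorem norm_one_tmul (A' : Type u) [CommRing A'] [Algebra A A'] (b : B) :
    Algebra.norm A' ((1 : A') ⊗ₜ[A] b) = algebraMap A A' (Algebra.norm A b) := by
  rw [Algebra.norm_apply, Algebra.norm_apply, ← LinearMap.det_baseChange]
  congr 1
  ext x
  simp

end Alg

section Sch

/-- functions on a scheme pulled back to an affine scheme -/
noncomputable def gs {Y : Scheme.{u}} {B : Type u} [CommRing B] (h : Spec (CommRingCat.of B) ⟶ Y) : Γ(Y, ⊤) →+* B :=
  (h.appTop ≫ (Scheme.ΓSpecIso (CommRingCat.of B)).hom).hom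

theorem gs_comp {Y Y' : Scheme.{u}} {B : Type u} [CommRing B] (h : Spec (CommRingCat.of B) ⟶ Y') (k : Y' ⟶ Y)
    (x : Γ(Y, ⊤)) : gs (h ≫ k) x = gs h (k.appTop.hom x) := by
  rw [gs, gs, Scheme.Hom.comp_appTop, Category.assoc]
  rfl

theorem gs_map {X : Scheme.{u}} {A B : Type u} [CommRing A] [CommRing B] (φ : A →+* B)
    (h : Spec (CommRingCat.of A) ⟶ X) (x : Γ(X, ⊤)) : gs (Spec.map (CommRingCat.ofHom φ) ≫ h) x = φ (gs h x) := by
  rw [gs, gs, Scheme.Hom.comp_appTop, Category.assoc, Scheme.ΓSpecIso_naturality]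
  rfl

theorem exists_ringHom {A B : Type u} [CommRing A] [CommRing B] (f : Spec (CommRingCat.of B) ⟶ Spec (CommRingCat.of A)) :
    ∃ φ : A →+* B, f = Spec.map (CommRingCat.ofHom φ) :=
  ⟨(Spec.preimage f).hom, (Spec.map_preimage f).symm⟩

theorem specMap_inj {A B : Type u} [CommRing A] [CommRing B] {φ ψ : A →+* B}
    (h : Spec.map (CommRingCat.ofHom φ) = Spec.map (CommRingCat.ofHom ψ)) : φ = ψ := by
  have := Spec.map_injective h
  exact congrArg (fun k => k.hom) this

/-- structure map -/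
noncomputable abbrev st (A B : Type u) [CommRing A] [CommRing B] [Algebra A B] :
    Spec (CommRingCat.of B) ⟶ Spec (CommRingCat.of A) :=
  Spec.map (CommRingCat.ofHom (algebraMap A B))

theorem st_comp (A B : Type u) [CommRing A] [CommRing B] [Algebra A B] {C : Type u} [CommRing C] (φ : B →+* C) :
    Spec.map (CommRingCat.ofHom φ) ≫ st A B = Spec.map (CommRingCat.ofHom (φ.comp (algebraMap A B))) := by
  rw [st, ← Spec.map_comp]
  rfl

/-- Algebras in a pullback square. -/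
theorem exists_algEquiv {A B A' B' : Type u} [CommRing A] [CommRing B] [Algebra A B] [CommRing A'] [CommRing B']
    [Algebra A' B'] (φ : A →+* A') (ψ : B →+* B')
    (h : IsPullback (Spec.map (CommRingCat.ofHom ψ)) (st A' B') (st A B) (Spec.map (CommRingCat.ofHom φ))) :
    letI := φ.toAlgebra
    ∃ e : A' ⊗[A] B ≃ₐ[A'] B', ∀ b, e (1 ⊗ₜ b) = ψ b := by
  letI := φ.toAlgebra
  have h5 := isPullback_SpecMap_of_isPushout _ _ _ _
      (CommRingCat.isPushout_tensorProduct A A' B)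
  let e : Spec (CommRingCat.of B') ≅ Spec (CommRingCat.of (A' ⊗[A] B)) := h.isoIsPullback _ _ h5.flip
  have e1 : e.hom ≫ Spec.map (CommRingCat.ofHom (Algebra.TensorProduct.includeRight (R := A) (A := A') (B := B)).toRingHom) =
      Spec.map (CommRingCat.ofHom ψ) := h.isoIsPullback_hom_fst _ _ h5.flip
  have e2 : e.hom ≫ Spec.map (CommRingCat.ofHom (Algebra.TensorProduct.includeLeftRingHom (R := A) (A := A') (B := B))) =
      st A' B' := h.isoIsPullback_hom_snd _ _ h5.flip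
  obtain ⟨f, hf⟩ := exists_ringHom e.hom
  obtain ⟨g, hg⟩ := exists_ringHom e.inv
  have fg : f.comp g = RingHom.id _ := by
    apply specMap_inj
    have := e.hom_inv_id
    rw [hf, hg, ← Spec.map_comp] at this
    refine (Eq.trans ?_ this).trans ?_
    · rfl
    · exact (Spec.map_id _).symm
  have gf : g.comp f = RingHom.id _ := by
    apply specMap_inj
    have := e.inv_hom_id
    rw [hf, hg, ← Spec.map_comp] at this
    refine (Eq.trans ?_ this).trans ?_
    · rfl
    · exact (Spec.map_id _).symm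
  rw [hf, ← Spec.map_comp] at e1 e2
  have e1' : f.comp (Algebra.TensorProduct.includeRight (R := A) (A := A') (B := B)).toRingHom = ψ := specMap_inj e1
  have e2' : f.comp (Algebra.TensorProduct.includeLeftRingHom (R := A) (A := A') (B := B)) = algebraMap A' B' :=
    specMap_inj e2
  refine ⟨AlgEquiv.ofRingEquiv (f := RingEquiv.ofRingHom f g fg gf) fun r => ?_, fun b => ?_⟩
  · exact DFunLike.congr_fun e2' r
  · exact DFunLike.congr_fun e1' b

theorem norm_pullback {A B A' B' : Type u} [CommRing A] [CommRing B] [Algebra A B] [CommRing A'] [CommRing B']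
    [Algebra A' B'] [Module.Free A B] [Module.Finite A B] (φ : A →+* A') (ψ : B →+* B')
    (h : IsPullback (Spec.map (CommRingCat.ofHom ψ)) (st A' B') (st A B) (Spec.map (CommRingCat.ofHom φ))) (b : B) :
    Algebra.norm A' (ψ b) = φ (Algebra.norm A b) := by
  letI := φ.toAlgebra
  obtain ⟨e, he⟩ := exists_algEquiv φ ψ h
  rw [← he, Algebra.norm_eq_of_algEquiv, norm_one_tmul]
  rfl

end Sch

section Rel

variable {X Y : Scheme.{u}} (f : Y ⟶ X)

/-- `v` is the norm of `u` over `g : X' ⟶ X`. -/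
def IsN {X' : Scheme.{u}} (g : X' ⟶ X) (u : (Γ(Y, ⊤))ˣ) (v : (Γ(X', ⊤))ˣ) : Prop :=
  ∀ (A B : Type u) [CommRing A] [CommRing B] [Algebra A B] (_ : Module.Free A B) (_ : Module.Finite A B)
    (h : Spec (CommRingCat.of A) ⟶ X') (h' : Spec (CommRingCat.of B) ⟶ Y), IsPullback h' (st A B) f (h ≫ g) →
      Algebra.norm A (gs h' u : B) = gs h v

variable {f}

theorem IsN.comp {X' X'' : Scheme.{u}} {g : X' ⟶ X} {u : (Γ(Y, ⊤))ˣ} {v : (Γ(X', ⊤))ˣ} (h : IsN f g u v)
    (k : X'' ⟶ X') : IsN f (k ≫ g) u (Units.map k.appTop.hom.toMonoidHom v) := by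
  intro A B _ _ _ hf hfin j j' hj
  rw [← Category.assoc] at hj
  rw [h A B hf hfin (j ≫ k) j' hj, gs_comp]
  rfl

theorem units_separated {X' : Scheme.{u}} {v v' : (Γ(X', ⊤))ˣ}
    (h : ∀ x : X', ∃ (X'' : Scheme.{u}) (k : X'' ⟶ X'), Etale k ∧ x ∈ Set.range k ∧
      Units.map k.appTop.hom.toMonoidHom v = Units.map k.appTop.hom.toMonoidHom v') : v = v' := by
  have hs : Presieve.IsSheaf Scheme.etaleTopology.{u} (EtCoh.ΓUnits.{u} ⋙ forget AddCommGrpCat.{u + 1}) :=
    Coch.isSheaf_ty' EtCoh.isSheaf_ΓUnits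
  let s : (EtCoh.ΓUnits.{u} ⋙ forget AddCommGrpCat.{u + 1}).obj (op X') := (ULift.up (Additive.ofMul v) : EtCoh.ΓUnits.{u}.obj (op X'))
  let s' : (EtCoh.ΓUnits.{u} ⋙ forget AddCommGrpCat.{u + 1}).obj (op X') := (ULift.up (Additive.ofMul v') : EtCoh.ΓUnits.{u}.obj (op X'))
  let R : Sieve X' :=
    { arrows := fun X'' k => Units.map k.appTop.hom.toMonoidHom v = Units.map k.appTop.hom.toMonoidHom v'
      downward_closed := fun {X₁ X₂ k} hk j => by
        rw [Scheme.Hom.comp_appTop]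
        have := congrArg (Units.map j.appTop.hom.toMonoidHom) hk
        exact this }
  have hR : R ∈ Scheme.etaleTopology.{u} X' := by
    rw [Shift.mem_et]
    intro x
    obtain ⟨X'', k, h1, h2, h3⟩ := h x
    exact ⟨X'', k, h3, h1, h2⟩
  have key : s = s' := by
    refine (hs.isSeparated _ hR).ext fun X'' k hk => ?_
    have hk' : Units.map k.appTop.hom.toMonoidHom v = Units.map k.appTop.hom.toMonoidHom v' := hk
    change (ULift.up (Additive.ofMul (Units.map k.appTop.hom.toMonoidHom v)) : EtCoh.ΓUnits.{u}.obj (op X'')) =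
      ULift.up (Additive.ofMul (Units.map k.appTop.hom.toMonoidHom v'))
    rw [hk']
    rfl
  exact congrArg (fun z : EtCoh.ΓUnits.{u}.obj (op X') => Additive.toMul z.down) key

theorem exists_chart [IsFinite f] [Flat f] [LocallyOfFinitePresentation f] {X' : Scheme.{u}} (g : X' ⟶ X) (x : X') :
    ∃ (A B : Type u) (_ : CommRing A) (_ : CommRing B) (_ : Algebra A B)
      (j : Spec (CommRingCat.of A) ⟶ X') (k : Spec (CommRingCat.of B) ⟶ Y),
      Module.Free A B ∧ Module.Finite A B ∧ IsOpenImmersion j ∧ x ∈ Set.range j ∧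
      IsPullback k (st A B) f (j ≫ g) := by
  obtain ⟨A, B, _, _, _, j, k, h1, h2, h3, h4, h5⟩ := FreeChart.exists_chart (pullback.snd f g) x
  exact ⟨A, B, inferInstance, inferInstance, inferInstance, j, k ≫ pullback.fst _ _, h1, h2, h3, h4,
    h5.paste_horiz (IsPullback.of_hasPullback f g)⟩

theorem IsN.unique [IsFinite f] [Flat f] [LocallyOfFinitePresentation f] {X' : Scheme.{u}} {g : X' ⟶ X}
    {u : (Γ(Y, ⊤))ˣ} {v v' : (Γ(X', ⊤))ˣ} (h : IsN f g u v) (h' : IsN f g u v') : v = v' := by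
  apply units_separated
  intro x
  obtain ⟨A, B, _, _, _, j, k, h1, h2, h3, h4, h5⟩ := exists_chart (f := f) g x
  refine ⟨_, j, inferInstance, h4, ?_⟩
  have e1 : gs j (v : Γ(X', ⊤)) = gs j v' := by
    rw [← h A B h1 h2 j k h5, ← h' A B h1 h2 j k h5]
  ext
  change j.appTop.hom v = j.appTop.hom v'
  have hinj : Function.Injective (Scheme.ΓSpecIso (CommRingCat.of A)).hom.hom :=
    (Scheme.ΓSpecIso (CommRingCat.of A)).commRingCatIsoToRingEquiv.injective
  exact hinj e1

/-- The unit of a chart. -/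
noncomputable def chU {A B : Type u} [CommRing A] [CommRing B] [Algebra A B] (k : Spec (CommRingCat.of B) ⟶ Y)
    (u : (Γ(Y, ⊤))ˣ) : (Γ(Spec (CommRingCat.of A), ⊤))ˣ :=
  Units.map (Scheme.ΓSpecIso (CommRingCat.of A)).inv.hom.toMonoidHom
    (Units.map (Algebra.norm A : B →* A) (Units.map (gs k).toMonoidHom u))

theorem gs_chU {A B : Type u} [CommRing A] [CommRing B] [Algebra A B] (k : Spec (CommRingCat.of B) ⟶ Y)
    (u : (Γ(Y, ⊤))ˣ) {A₂ : Type u} [CommRing A₂] (φ : A →+* A₂) :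
    gs (Spec.map (CommRingCat.ofHom φ)) (chU (A := A) (B := B) k u : Γ(Spec (CommRingCat.of A), ⊤)) =
      φ (Algebra.norm A (gs k u : B)) := by
  have h7 := gs_map φ (𝟙 _) (chU (A := A) (B := B) k u : Γ(Spec (CommRingCat.of A), ⊤))
  rw [Category.comp_id] at h7
  rw [h7]
  congr 1
  rw [gs, Scheme.Hom.id_appTop, Category.id_comp]
  change (Scheme.ΓSpecIso (CommRingCat.of A)).hom.hom ((Scheme.ΓSpecIso (CommRingCat.of A)).inv.hom _) = _
  rw [← CommRingCat.comp_apply, Iso.inv_hom_id]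
  rfl

theorem isN_chart {A B : Type u} [CommRing A] [CommRing B] [Algebra A B] [Module.Free A B] [Module.Finite A B]
    (j : Spec (CommRingCat.of A) ⟶ X) (k : Spec (CommRingCat.of B) ⟶ Y) (h5 : IsPullback k (st A B) f j)
    (u : (Γ(Y, ⊤))ˣ) : IsN f j u (chU (A := A) (B := B) k u) := by
  intro A₂ B₂ _ _ _ _ _ h h' hp
  have hw : h' ≫ f = (st A₂ B₂ ≫ h) ≫ j := by rw [hp.w, Category.assoc]
  let l : Spec (CommRingCat.of B₂) ⟶ Spec (CommRingCat.of B) := h5.lift h' (st A₂ B₂ ≫ h) hw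
  have hl1 : l ≫ k = h' := h5.lift_fst _ _ _
  have hl2 : l ≫ st A B = st A₂ B₂ ≫ h := h5.lift_snd _ _ _
  have hsq : IsPullback l (st A₂ B₂) (st A B) h := by
    refine IsPullback.of_right (h₁₂ := k) (h₂₂ := j) (v₁₃ := f) ?_ hl2 h5
    rw [hl1]
    exact hp
  obtain ⟨φ, rfl⟩ := exists_ringHom h
  obtain ⟨ψ, hψ⟩ := exists_ringHom l
  rw [hψ] at hsq
  rw [← hl1, hψ, gs_map, norm_pullback φ ψ hsq, gs_chU]

/-- Local existence. -/
theorem exists_local [IsFinite f] [Flat f] [LocallyOfFinitePresentation f] (u : (Γ(Y, ⊤))ˣ) (x : X) :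
    ∃ (X' : Scheme.{u}) (g : X' ⟶ X) (v : (Γ(X', ⊤))ˣ), Etale g ∧ x ∈ Set.range g ∧ IsN f g u v := by
  obtain ⟨A, B, _, _, _, j, k, h1, h2, h3, h4, h5⟩ := exists_chart (f := f) (𝟙 X) x
  rw [Category.comp_id] at h5
  exact ⟨_, j, chU (A := A) (B := B) k u, inferInstance, h4, isN_chart j k h5 u⟩

/-- Existence. -/
theorem exists_isN [IsFinite f] [Flat f] [LocallyOfFinitePresentation f] (u : (Γ(Y, ⊤))ˣ) :
    ∃ v : (Γ(X, ⊤))ˣ, IsN f (𝟙 X) u v := by
  have hs : Presieve.IsSheaf Scheme.etaleTopology.{u} (EtCoh.ΓUnits.{u} ⋙ forget AddCommGrpCat.{u + 1}) :=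
    Coch.isSheaf_ty' EtCoh.isSheaf_ΓUnits
  let R : Sieve X :=
    { arrows := fun X' g => ∃ v : (Γ(X', ⊤))ˣ, IsN f g u v
      downward_closed := fun {X₁ X₂ k} hk j => by
        obtain ⟨v, hv⟩ := hk
        exact ⟨_, hv.comp j⟩ }
  have hR : R ∈ Scheme.etaleTopology.{u} X := by
    rw [Shift.mem_et]
    intro x
    obtain ⟨X'', k, v, h1, h2, h3⟩ := exists_local (f := f) u x
    exact ⟨X'', k, ⟨v, h3⟩, h1, h2⟩
  let fam : Presieve.FamilyOfElements (EtCoh.ΓUnits.{u} ⋙ forget AddCommGrpCat.{u + 1}) R.arrows := fun X' g hg =>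
    (ULift.up (Additive.ofMul hg.choose) : EtCoh.ΓUnits.{u}.obj (op X'))
  have hcomp : fam.Compatible := by
    intro Y₁ Y₂ Z g₁ g₂ f₁ f₂ h₁ h₂ h
    have e1 := h₁.choose_spec.comp g₁
    have e2 := h₂.choose_spec.comp g₂
    rw [h] at e1
    have e3 := e1.unique e2
    change (ULift.up (Additive.ofMul (Units.map g₁.appTop.hom.toMonoidHom h₁.choose)) : EtCoh.ΓUnits.{u}.obj (op Z)) =
      ULift.up (Additive.ofMul (Units.map g₂.appTop.hom.toMonoidHom h₂.choose))
    rw [e3]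
    rfl
  obtain ⟨s, hs, -⟩ := hs R hR fam hcomp
  let s₀ : EtCoh.ΓUnits.{u}.obj (op X) := s
  let v : (Γ(X, ⊤))ˣ := Additive.toMul s₀.down
  have hv : ∀ {X' : Scheme.{u}} (g : X' ⟶ X) (hg : R g), Units.map g.appTop.hom.toMonoidHom v = hg.choose := by
    intro X' g hg
    have := hs g hg
    exact congrArg (fun z : EtCoh.ΓUnits.{u}.obj (op X') => Additive.toMul z.down) this
  refine ⟨v, ?_⟩
  intro A B _ _ _ h1 h2 h h' hp
  rw [Category.comp_id] at hp
  have key : chU (A := A) (B := B) h' u = Units.map h.appTop.hom.toMonoidHom v := by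
    apply units_separated
    intro x
    obtain ⟨X₁, g₁, v₁, h3, ⟨x₁, hx₁⟩, h5⟩ := exists_local (f := f) u (h x)
    obtain ⟨z, hz, -⟩ := Scheme.Pullback.exists_preimage_pullback (f := h) (g := g₁) x x₁ hx₁.symm
    refine ⟨pullback h g₁, pullback.fst h g₁, inferInstance, ⟨z, hz⟩, ?_⟩
    have e1 := (isN_chart h h' hp u).comp (pullback.fst h g₁)
    have hg₁ : R g₁ := ⟨v₁, h5⟩
    have e2 := hg₁.choose_spec.comp (pullback.snd h g₁)
    rw [pullback.condition] at e1
    rw [e1.unique e2, ← hv g₁ hg₁]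
    ext
    change (pullback.snd h g₁).appTop.hom (g₁.appTop.hom v) = (pullback.fst h g₁).appTop.hom (h.appTop.hom v)
    have e3 : ∀ {X₂ : Scheme.{u}} (a : X₂ ⟶ pullback h g₁) , True := fun _ => trivial
    have e4 : g₁.appTop ≫ (pullback.snd h g₁).appTop = h.appTop ≫ (pullback.fst h g₁).appTop := by
      rw [← Scheme.Hom.comp_appTop, ← Scheme.Hom.comp_appTop, pullback.condition]
    exact ConcreteCategory.congr_hom e4 (v : Γ(X, ⊤))
  have h6 : gs h (v : Γ(X, ⊤)) = (Scheme.ΓSpecIso (CommRingCat.of A)).hom.hom (chU (A := A) (B := B) h' u : Γ(Spec (CommRingCat.of A), ⊤)) := by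
    rw [key]
    rfl
  rw [h6]
  change _ = (Scheme.ΓSpecIso (CommRingCat.of A)).hom.hom ((Scheme.ΓSpecIso (CommRingCat.of A)).inv.hom _)
  rw [← CommRingCat.comp_apply, Iso.inv_hom_id]
  rfl

variable (f) [IsFinite f] [Flat f] [LocallyOfFinitePresentation f]

/-- The norm. -/
noncomputable def nrm (u : (Γ(Y, ⊤))ˣ) : (Γ(X, ⊤))ˣ := (exists_isN (f := f) u).choose

theorem isN_nrm (u : (Γ(Y, ⊤))ˣ) : IsN f (𝟙 X) u (nrm f u) := (exists_isN (f := f) u).choose_spec

theorem nrm_mul (u v : (Γ(Y, ⊤))ˣ) : nrm f (u * v) = nrm f u * nrm f v := by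
  refine (isN_nrm f (u * v)).unique ?_
  intro A B _ _ _ h1 h2 h h' hp
  rw [Units.val_mul, Units.val_mul, map_mul, map_mul, map_mul, isN_nrm f u A B h1 h2 h h' hp,
    isN_nrm f v A B h1 h2 h h' hp]

theorem nrm_one : nrm f 1 = 1 := by
  refine (isN_nrm f 1).unique ?_
  intro A B _ _ _ h1 h2 h h' hp
  rw [Units.val_one, Units.val_one, map_one, map_one, map_one]

/-- The norm homomorphism. -/
noncomputable def nrmHom : (Γ(Y, ⊤))ˣ →* (Γ(X, ⊤))ˣ where
  toFun := nrm f
  map_one' := nrm_one f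
  map_mul' := nrm_mul f

variable {f}

theorem nrm_bc {X' Y' : Scheme.{u}} {f' : Y' ⟶ X'} [IsFinite f'] [Flat f'] [LocallyOfFinitePresentation f']
    {t : Y' ⟶ Y} {b : X' ⟶ X} (hp : IsPullback t f' f b) (u : (Γ(Y, ⊤))ˣ) :
    nrm f' (Units.map t.appTop.hom.toMonoidHom u) = Units.map b.appTop.hom.toMonoidHom (nrm f u) := by
  refine (isN_nrm f' _).unique ?_
  intro A B _ _ _ h1 h2 h h' hh
  rw [Category.comp_id] at hh
  have h3 : IsPullback (h' ≫ t) (st A B) f (h ≫ b) := hh.paste_horiz hp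
  have h4 := isN_nrm f u A B h1 h2 (h ≫ b) (h' ≫ t) (by rw [Category.comp_id]; exact h3)
  rw [gs_comp, gs_comp] at h4
  exact h4

theorem nrm_pull {N : ℕ} (hN : ∀ (A B : Type u) [CommRing A] [CommRing B] [Algebra A B] (_ : Module.Free A B)
    (_ : Module.Finite A B) (_ : Nontrivial A)
    (h : Spec (CommRingCat.of A) ⟶ X) (h' : Spec (CommRingCat.of B) ⟶ Y), IsPullback h' (st A B) f h →
      Module.finrank A B = N) (v : (Γ(X, ⊤))ˣ) : nrm f (Units.map f.appTop.hom.toMonoidHom v) = v ^ N := by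
  refine (isN_nrm f _).unique ?_
  intro A B _ _ _ h1 h2 h h' hh
  rw [Category.comp_id] at hh
  rcases subsingleton_or_nontrivial A with hA | hA
  · exact Subsingleton.elim _ _
  have e1 : gs h' ((Units.map f.appTop.hom.toMonoidHom v : (Γ(Y, ⊤))ˣ) : Γ(Y, ⊤)) = algebraMap A B (gs h (v : Γ(X, ⊤))) := by
    change gs h' (f.appTop.hom v) = _
    rw [← gs_comp, hh.w, gs_map]
  rw [e1, Algebra.norm_algebraMap, hN A B h1 h2 hA h h' hh, Units.val_pow_eq_pow_val, map_pow]

end Rel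

end K998.Norm
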