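import Groth.Agent.StCoh.K998.Gm
import Groth.Agent.StCoh.K998.QuotFib
import Groth.Agent.ThetaS.K943.QuotAtlas
import Groth.Agent.AlgSp.K595.DescInst
import Groth.Agent.NonAbH1.K551.Tors

/-!
# The covering object of a quotient stack by a finite flat group
-/

set_option autoImplicit false
set_option backward.isDefEq.respectTransparency false
set_option backward.isDefEq.respectTransparency.types false

universe w v₁ u₁ v₂ u₂ u

open CategoryTheory CategoryTheory.Limits Opposite AlgebraicGeometry MonoidalCategory CartesianMonoidalCategory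

namespace K998.Quot

open FG Transfer Shift K943.QuotAtlas AlgSt

variable {S : Scheme.{u}} {G : Over S} [GrpObj G] {X : Over S} {aX : AlgGrp.Action G X}

/-- Properties which descend. -/
theorem prop_of_torsor (A : QuotObj Scheme.fppfPrecoverage G aX) (P : MorphismProperty Scheme.{u})
    [P.IsStableUnderBaseChange] (hP : P.DescendsAlong K595.RepDesc.Fppf.{u})
    (hG : P G.hom) : P A.π.left := by
  obtain ⟨T', c, hc1, hc2, hc3, s, hs⟩ := K551.Tors.exists_cover_of_isLocallyTrivial A.loc
  have h1 : P (snd G A.P).left := by
    have sq : IsPullback (fst G A.P).left (snd G A.P).left (toUnit G).left (toUnit A.P).left :=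
      (isPullback_fst_snd G A.P).map (Over.forget S)
    refine MorphismProperty.of_isPullback sq ?_
    have : (toUnit G).left = G.hom := by
      simp
    rw [this]
    exact hG
  have sq : IsPullback A.act.act.left (snd G A.P).left A.π.left A.π.left := A.cart.map (Over.forget S)
  have sq2 := IsPullback.of_hasPullback (snd G A.P).left s
  have h2 : P (pullback.snd (snd G A.P).left s) := MorphismProperty.pullback_snd _ _ h1
  have sq3 := sq2.flip.paste_vert sq.flip
  have hs' : s ≫ A.π.left = c := hs
  rw [hs'] at sq3
  exact MorphismProperty.of_isPullback_of_descendsAlong (P := P)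
    (Q := K595.RepDesc.Fppf.{u}) sq3.flip.flip ⟨⟨hc1, hc2⟩, hc3⟩ h2

theorem finite_of_torsor (A : QuotObj Scheme.fppfPrecoverage G aX) [IsFinite G.hom] : IsFinite A.π.left :=
  prop_of_torsor A @IsFinite K595.DescInst.isFinite inferInstance

theorem lfp_of_torsor (A : QuotObj Scheme.fppfPrecoverage G aX) [LocallyOfFinitePresentation G.hom] :
    LocallyOfFinitePresentation A.π.left :=
  prop_of_torsor A @LocallyOfFinitePresentation inferInstance inferInstance

theorem flat_of_torsor (A : QuotObj Scheme.fppfPrecoverage G aX) [Flat G.hom] : Flat A.π.left := by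
  have := Groth.Agent.Sga3.H804.EtFam.flat_descends.{u}
  exact prop_of_torsor A @Flat inferInstance inferInstance

theorem surjective_of_torsor (A : QuotObj Scheme.fppfPrecoverage G aX) : Surjective A.π.left := by
  obtain ⟨S', c, hc, -, -, s, hs⟩ := K551.Tors.exists_cover_of_isLocallyTrivial A.loc
  have hs' : s ≫ A.π.left = c := hs
  have : Surjective (s ≫ A.π.left) := by rw [hs']; exact hc
  exact Surjective.of_comp s A.π.left

variable (G aX) in
theorem isFG_quot : IsFG (QuotSt Scheme.fppfPrecoverage G aX).p :=
  isFG_of_isFibGrpd (QuotFib.isFibGrpd_quotSt Scheme.fppfPrecoverage G aX)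

variable (G aX) in
/-- The atlas. -/
noncomputable abbrev x0 : QuotObj Scheme.fppfPrecoverage G aX := uObj Scheme.fppfPrecoverage aX X (𝟙 X)

variable (G aX) in
theorem cov_quot [IsFinite G.hom] [Flat G.hom] [LocallyOfFinitePresentation G.hom] [IsFinite X.hom] :
    Cov (QuotSt Scheme.fppfPrecoverage G aX).p (x0 G aX) where
  prod W := ⟨_, qb W, rb W, fun _ a' v' => exists_prod a' v', fun _ _ _ h1 h2 => prod_ext h1 h2,
    finite_of_torsor W, flat_of_torsor W, lfp_of_torsor W, surjective_of_torsor W⟩
  fin := inferInstanceAs (IsFinite X.hom)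

end K998.Quot
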