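import Groth.Agent.StCoh.K998.Norm
import Groth.Agent.StCoh.K998.Quot

/-!
# The norm argument
-/

set_option autoImplicit false
set_option linter.style.haveILetI false

universe w v₁ u₁ v₂ u₂ u

open CategoryTheory CategoryTheory.Limits Opposite AlgebraicGeometry

namespace K998.NormLC

open FG Transfer Shift Coch Gm Norm Groth.Agent.Etrest FppfCoch

section Pb

variable {C : Type u₁} [Category.{v₁} C] {B : Type u₂} [Category.{v₂} B] {p : C ⥤ B}

/-- Fibred categories in groupoids preserve cartesian squares. -/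
theorem map_isPullback (hp : IsFG p) {Y' Y W' W : C} {t : Y' ⟶ Y} {f' : Y' ⟶ W'} {f : Y ⟶ W} {b : W' ⟶ W}
    (sq : IsPullback t f' f b) : IsPullback (p.map t) (p.map f') (p.map f) (p.map b) := by
  have ex : ∀ (s : PullbackCone (p.map f) (p.map b)), ∃ l : s.pt ⟶ p.obj Y', l ≫ p.map t = s.fst ∧
      l ≫ p.map f' = s.snd := by
    intro s
    obtain ⟨y, e, φ, hφ⟩ := hp.lift Y s.fst
    obtain ⟨χ, h1, h2⟩ := hp.fac b (φ ≫ f) (e.hom ≫ s.snd) (by
      rw [p.map_comp, hφ, Category.assoc, Category.assoc, s.condition])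
    refine ⟨e.inv ≫ p.map (sq.lift φ χ h2.symm), ?_, ?_⟩
    · rw [Category.assoc, ← p.map_comp, IsPullback.lift_fst, hφ, Iso.inv_hom_id_assoc]
    · rw [Category.assoc, ← p.map_comp, IsPullback.lift_snd, h1, Iso.inv_hom_id_assoc]
  have key : ∀ {T : B} (m m' : T ⟶ p.obj Y'), m ≫ p.map t = m' ≫ p.map t → m ≫ p.map f' = m' ≫ p.map f' →
      m = m' := by
    intro T m m' e1 e2
    obtain ⟨y, e, φ, hφ⟩ := hp.lift Y' m
    obtain ⟨φ', h3, h4⟩ := hp.fac t (φ ≫ t) (e.hom ≫ m') (by
      rw [p.map_comp, hφ, Category.assoc, Category.assoc, e1])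
    have h5 : φ ≫ f' = φ' ≫ f' := by
      apply hp.uniq b
      · rw [p.map_comp, p.map_comp, hφ, h3, Category.assoc, Category.assoc, e2]
      · rw [Category.assoc, Category.assoc, ← sq.w, ← Category.assoc, ← Category.assoc, h4]
    have h6 : φ = φ' := sq.hom_ext h4.symm h5
    rw [← cancel_epi e.hom, ← hφ, h6, h3]
  refine ⟨⟨by rw [← p.map_comp, ← p.map_comp, sq.w]⟩, ⟨PullbackCone.IsLimit.mk _ (fun s => (ex s).choose) ?_ ?_ ?_⟩⟩
  · exact fun s => (ex s).choose_spec.1
  · exact fun s => (ex s).choose_spec.2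
  · intro s m h1 h2
    exact key _ _ (h1.trans (ex s).choose_spec.1.symm) (h2.trans (ex s).choose_spec.2.symm)

end Pb

section PD

variable {S : Scheme.{u}} {C : Type (u + 1)} [Category.{u} C] (p : C ⥤ Over S) (x₀ : C)

/-- Products with the covering object, with finite locally free projections. -/
structure PD (W : C) where
  /-- the product -/
  Y : C
  /-- projection -/
  a : Y ⟶ W
  /-- projection -/
  v : Y ⟶ x₀
  lift : ∀ (W' : C) (a' : W' ⟶ W) (v' : W' ⟶ x₀), ∃ f : W' ⟶ Y, f ≫ a = a' ∧ f ≫ v = v'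
  ext : ∀ (W' : C) (f g : W' ⟶ Y), f ≫ a = g ≫ a → f ≫ v = g ≫ v → f = g
  fin : IsFinite ((qf p).map a)
  flat : Flat ((qf p).map a)
  lfp : LocallyOfFinitePresentation ((qf p).map a)

variable {p x₀}

theorem PD.isPullback {W W' : C} (P : PD p x₀ W) (P' : PD p x₀ W') (f : W' ⟶ W) (g : P'.Y ⟶ P.Y)
    (h1 : g ≫ P.a = P'.a ≫ f) (h2 : g ≫ P.v = P'.v) : IsPullback g P'.a P.a f := by
  refine ⟨⟨h1⟩, ⟨PullbackCone.IsLimit.mk _ (fun s => (P'.lift _ s.snd (s.fst ≫ P.v)).choose) ?_ ?_ ?_⟩⟩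
  · intro s
    apply P.ext
    · rw [Category.assoc, h1, ← Category.assoc, (P'.lift _ s.snd (s.fst ≫ P.v)).choose_spec.1, s.condition]
    · rw [Category.assoc, h2, (P'.lift _ s.snd (s.fst ≫ P.v)).choose_spec.2]
  · intro s
    exact (P'.lift _ s.snd (s.fst ≫ P.v)).choose_spec.1
  · intro s m h3 h4
    apply P'.ext
    · rw [h4, (P'.lift _ s.snd (s.fst ≫ P.v)).choose_spec.1]
    · rw [(P'.lift _ s.snd (s.fst ≫ P.v)).choose_spec.2, ← h3, Category.assoc, h2]

/-- The rank condition. -/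
def HasRk {X Y : Scheme.{u}} (f : Y ⟶ X) (N : ℕ) : Prop :=
  ∀ (A B : Type u) [CommRing A] [CommRing B] [Algebra A B] (_ : Module.Free A B)
    (_ : Module.Finite A B) (_ : Nontrivial A)
    (h : Spec (CommRingCat.of A) ⟶ X) (h' : Spec (CommRingCat.of B) ⟶ Y), IsPullback h' (st A B) f h →
      Module.finrank A B = N

variable (P : ∀ W : C, PD p x₀ W)

/-- The norm along the projection. -/
noncomputable def Nm (W : C) : (gmP (qf p)).obj (op (P W).Y) →+ (gmP (qf p)).obj (op W) :=
  have := (P W).fin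
  have := (P W).flat
  have := (P W).lfp
  { toFun := fun s => ou (nrm ((qf p).map (P W).a) (uo s))
    map_zero' := uo_injective (nrm_one _)
    map_add' := fun s t => uo_injective (nrm_mul _ (uo s) (uo t)) }

theorem uo_Nm (W : C) (s : (gmP (qf p)).obj (op (P W).Y)) :
    have := (P W).fin
    have := (P W).flat
    have := (P W).lfp
    uo (Nm P W s) = nrm ((qf p).map (P W).a) (uo s) := rfl

theorem Nm_nat (hp : IsFG p) {W W' : C} (f : W' ⟶ W) (g : (P W').Y ⟶ (P W).Y) (h1 : g ≫ (P W).a = (P W').a ≫ f)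
    (h2 : g ≫ (P W).v = (P W').v) (s : (gmP (qf p)).obj (op (P W).Y)) :
    (gmP (qf p)).map f.op (Nm P W s) = Nm P W' ((gmP (qf p)).map g.op s) := by
  have := (P W).fin
  have := (P W).flat
  have := (P W).lfp
  have := (P W').fin
  have := (P W').flat
  have := (P W').lfp
  apply uo_injective
  rw [uo_map, uo_Nm, uo_Nm, uo_map]
  exact (nrm_bc (map_isPullback (isFG_qf hp) ((P W).isPullback (P W') f g h1 h2)) (uo s)).symm

theorem Nm_pull {N : ℕ} (hN : ∀ W, HasRk ((qf p).map (P W).a) N) (W : C) (s : (gmP (qf p)).obj (op W)) :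
    Nm P W ((gmP (qf p)).map (P W).a.op s) = N • s := by
  have := (P W).fin
  have := (P W).flat
  have := (P W).lfp
  apply uo_injective
  rw [uo_Nm, uo_map, nrm_pull (hN W)]
  rfl

include P in
/-- The norm argument. -/
theorem lco_norm (hp : IsFG p) {N : ℕ} (hN : ∀ W, HasRk ((qf p).map (P W).a) N) (D : Pts S) (n : ℕ) :
    LCo p x₀ N D (gmP (qf p)) n := by
  intro T c hc hz τ _
  refine ⟨T, 𝟙 T, ?_, ⟨τ, rfl⟩, fun W t x => Nm P W (c (P W).Y (p.map (P W).a ≫ t)
    (Fin.cons (P W).v (fun i => (P W).a ≫ x i) : Fin (n + 2) → ((P W).Y ⟶ x₀))), ?_, ?_⟩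
  · change Etale (𝟙 T.left)
    infer_instance
  · intro W W' f t x
    obtain ⟨g, h1, h2⟩ := (P W).lift _ ((P W').a ≫ f) (P W').v
    dsimp only
    rw [Nm_nat P hp f g h1 h2, hc g]
    congr 2
    · rw [← Category.assoc, ← p.map_comp, h1, p.map_comp, Category.assoc]
    · funext i
      refine Fin.cases ?_ (fun i => ?_) i
      · rw [Fin.cons_zero, Fin.cons_zero, h2]
      · rw [Fin.cons_succ, Fin.cons_succ, ← Category.assoc, h1, Category.assoc]
  · intro W t x
    have h1 := map_dS (Nm P W) (fun y : Fin (n + 1) → ((P W).Y ⟶ x₀) => c (P W).Y (p.map (P W).a ≫ t)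
      (Fin.cons (P W).v y : Fin (n + 2) → ((P W).Y ⟶ x₀))) (fun i => (P W).a ≫ x i)
    have h2 := dS_cons (c (P W).Y (p.map (P W).a ≫ t)) (P W).v (fun i => (P W).a ≫ x i)
    rw [hz] at h2
    have h3 := hc (P W).a t x
    change dS (fun y => Nm P W (c (P W).Y (p.map (P W).a ≫ t)
      (Fin.cons (P W).v (fun i => (P W).a ≫ y i) : Fin (n + 2) → ((P W).Y ⟶ x₀)))) x = (N : ℤ) • c W (t ≫ 𝟙 T) x
    refine Eq.trans h1.symm ?_
    rw [← sub_eq_zero.1 h2.symm, ← h3, Nm_pull P hN W, Category.comp_id, natCast_zsmul]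

end PD

section Rank

open TensorProduct

theorem HasRk.of_isPullback {X Y X' Y' : Scheme.{u}} {f : Y ⟶ X} {f' : Y' ⟶ X'} {t : Y' ⟶ Y} {b : X' ⟶ X} {N : ℕ}
    (hf : HasRk f N) (hp : IsPullback t f' f b) : HasRk f' N := by
  intro A B _ _ _ h1 h2 h3 h h' hh
  exact hf A B h1 h2 h3 (h ≫ b) (h' ≫ t) (hh.paste_horiz hp)

theorem hasRk_st (R H : Type u) [CommRing R] [CommRing H] [Algebra R H] [Module.Free R H] [Module.Finite R H] :
    HasRk (st R H) (Module.finrank R H) := by
  intro A B _ _ _ h1 h2 h3 h h' hh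
  obtain ⟨φ, rfl⟩ := exists_ringHom h
  obtain ⟨ψ, rfl⟩ := exists_ringHom h'
  letI := φ.toAlgebra
  obtain ⟨e, -⟩ := exists_algEquiv φ ψ hh
  have : Nontrivial R := φ.domain_nontrivial
  rw [← e.toLinearEquiv.finrank_eq, Module.finrank_baseChange]

theorem HasRk.of_self {X Y Z : Scheme.{u}} {f : Y ⟶ X} [Surjective f] {s t : Z ⟶ Y} {N : ℕ} (hp : IsPullback s t f f)
    (ht : HasRk t N) : HasRk f N := by
  intro A B _ _ _ h1 h2 h3 h h' hh
  have hs : Surjective (st A B) := MorphismProperty.of_isPullback (P := @Surjective) hh inferInstance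
  have hB : Nontrivial B := by
    by_contra hB
    rw [not_nontrivial_iff_subsingleton] at hB
    obtain ⟨x⟩ : Nonempty (Spec (CommRingCat.of A)) := inferInstanceAs (Nonempty (PrimeSpectrum A))
    obtain ⟨y, -⟩ := hs.surj x
    exact (inferInstance : IsEmpty (PrimeSpectrum B)).false y
  have h5 : IsPullback (Spec.map (CommRingCat.ofHom (Algebra.TensorProduct.includeRight (R := A) (A := B) (B := B)).toRingHom))
      (st B (B ⊗[A] B)) (st A B) (st A B) :=
    (isPullback_SpecMap_of_isPushout _ _ _ _ (CommRingCat.isPushout_tensorProduct A B B)).flip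
  have h6 := h5.paste_horiz hh
  have h7 : st A B ≫ h = h' ≫ f := hh.w.symm
  rw [h7] at h6
  have hw : (Spec.map (CommRingCat.ofHom (Algebra.TensorProduct.includeRight (R := A) (A := B) (B := B)).toRingHom) ≫ h') ≫ f =
      (st B (B ⊗[A] B) ≫ h') ≫ f := by rw [h6.w, Category.assoc]
  have h8 : IsPullback (hp.lift _ _ hw) (st B (B ⊗[A] B)) t h' := by
    refine IsPullback.of_right (h₁₂ := s) (h₂₂ := f) (v₁₃ := f) ?_ (hp.lift_snd _ _ hw) hp
    rw [hp.lift_fst]
    exact h6
  have h9 := ht B (B ⊗[A] B) inferInstance inferInstance hB h' _ h8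
  rw [Module.finrank_baseChange] at h9
  exact h9

end Rank

section Quot

open AlgSt MonoidalCategory CartesianMonoidalCategory K943.QuotAtlas K998.Quot

set_option backward.isDefEq.respectTransparency false
set_option backward.isDefEq.respectTransparency.types false

variable {S : Scheme.{u}} {G : Over S} [GrpObj G] {X : Over S} {aX : AlgGrp.Action G X}

theorem hasRk_torsor {N : ℕ} (hG : HasRk G.hom N) (A : QuotObj Scheme.fppfPrecoverage G aX) : HasRk A.π.left N := by
  have h1 : HasRk (snd G A.P).left N := by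
    have sq : IsPullback (fst G A.P).left (snd G A.P).left (toUnit G).left (toUnit A.P).left :=
      (isPullback_fst_snd G A.P).map (Over.forget S)
    refine HasRk.of_isPullback ?_ sq
    have : (toUnit G).left = G.hom := by
      simp
    rw [this]
    exact hG
  have := surjective_of_torsor A
  exact HasRk.of_self (A.cart.map (Over.forget S)) h1

variable [IsFinite G.hom] [Flat G.hom] [LocallyOfFinitePresentation G.hom]

/-- The products of the quotient stack. -/
noncomputable def pd (W : QuotObj Scheme.fppfPrecoverage G aX) : PD (QuotSt Scheme.fppfPrecoverage G aX).p (x0 G aX) W where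
  Y := _
  a := qb W
  v := rb W
  lift := fun _ a' v' => exists_prod a' v'
  ext := fun _ _ _ h1 h2 => prod_ext h1 h2
  fin := finite_of_torsor W
  flat := flat_of_torsor W
  lfp := lfp_of_torsor W

variable (G aX) in
theorem lco_quot {N : ℕ} (hG : HasRk G.hom N) (D : Pts S) (n : ℕ) :
    LCo (QuotSt Scheme.fppfPrecoverage G aX).p (x0 G aX) N D (gmP (qf (QuotSt Scheme.fppfPrecoverage G aX).p)) n :=
  lco_norm pd (isFG_quot G aX) (fun W => hasRk_torsor hG W) D n

end Quot

end K998.NormLC
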