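import Groth.Agent.StCoh.K998.Glob2
import Mathlib.CategoryTheory.Functor.KanExtension.Adjunction
import Mathlib.CategoryTheory.Adjunction.Unique

/-!
# Explicit description of push-forwards to the base
-/

set_option autoImplicit false
set_option backward.isDefEq.respectTransparency false
set_option backward.isDefEq.respectTransparency.types false

universe w v₁ u₁ v₂ u₂ u

open CategoryTheory CategoryTheory.Limits Opposite AlgebraicGeometry

namespace K998.Pf

open Coch

variable {S : Scheme.{u}} {C : Type (u + 1)} [Category.{u} C] (p : C ⥤ Over S)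

/-- natural families over `T` -/
def GS (P : Cᵒᵖ ⥤ AddCommGrpCat.{u + 1}) (T : Over S) : AddSubgroup (Gg p P T) where
  carrier := {s | IsG s}
  zero_mem' := fun _ _ f _ => map_zero _
  add_mem' := fun {s t} hs ht W W' f a => by
    change P.map f.op (s W a + t W a) = s W' _ + t W' _
    rw [map_add, hs f, ht f]
  neg_mem' := fun {s} hs W W' f a => by
    change P.map f.op (- s W a) = - s W' _
    rw [map_neg, hs f]

/-- restriction -/
def GSres {P : Cᵒᵖ ⥤ AddCommGrpCat.{u + 1}} {T T' : Over S} (f : T' ⟶ T) : GS p P T →+ GS p P T' where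
  toFun s := ⟨resG f s.1, s.2.res f⟩
  map_zero' := rfl
  map_add' _ _ := rfl

/-- functoriality -/
def GSmap {P Q : Cᵒᵖ ⥤ AddCommGrpCat.{u + 1}} (α : P ⟶ Q) (T : Over S) : GS p P T →+ GS p Q T where
  toFun s := ⟨mapG α s.1, s.2.map α⟩
  map_zero' := Subtype.ext (by
    funext W t
    exact map_zero _)
  map_add' s s' := Subtype.ext (by
    funext W t
    exact map_add _ _ _)

/-- The presheaf of natural families. -/
def pfObj (P : Cᵒᵖ ⥤ AddCommGrpCat.{u + 1}) : (Over S)ᵒᵖ ⥤ AddCommGrpCat.{u + 1} where
  obj T := AddCommGrpCat.of (GS p P T.unop)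
  map f := AddCommGrpCat.ofHom (GSres p f.unop)
  map_id T := AddCommGrpCat.ext fun s => Subtype.ext (funext fun W => funext fun t => by
    change s.1 W (t ≫ 𝟙 _) = s.1 W t
    rw [Category.comp_id])
  map_comp f g := AddCommGrpCat.ext fun s => Subtype.ext (funext fun W => funext fun t => by
    change s.1 W (t ≫ g.unop ≫ f.unop) = s.1 W ((t ≫ g.unop) ≫ f.unop)
    rw [Category.assoc])

/-- The functor. -/
def pf : (Cᵒᵖ ⥤ AddCommGrpCat.{u + 1}) ⥤ ((Over S)ᵒᵖ ⥤ AddCommGrpCat.{u + 1}) where
  obj P := pfObj p P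
  map α := { app := fun T => AddCommGrpCat.ofHom (GSmap p α T.unop) }

theorem nat_app {D : Type u₁} [Category.{v₁} D] {P Q : Dᵒᵖ ⥤ AddCommGrpCat.{w}} (ψ : P ⟶ Q) {W W' : Dᵒᵖ}
    (f : W ⟶ W') (x : P.obj W) : Q.map f (ψ.app W x) = ψ.app W' (P.map f x) :=
  (ConcreteCategory.congr_hom (ψ.naturality f) x).symm

theorem map_app {D : Type u₁} [Category.{v₁} D] (P : Dᵒᵖ ⥤ AddCommGrpCat.{w}) {W W' W'' : D} (f : W' ⟶ W)
    (g : W'' ⟶ W') (x : P.obj (op W)) : P.map g.op (P.map f.op x) = P.map (g ≫ f).op x := by
  rw [op_comp, P.map_comp]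
  rfl

/-- One direction of the adjunction. -/
def toPf {E : (Over S)ᵒᵖ ⥤ AddCommGrpCat.{u + 1}} {P : Cᵒᵖ ⥤ AddCommGrpCat.{u + 1}} (ψ : p.op ⋙ E ⟶ P) : E ⟶ pfObj p P where
  app T := AddCommGrpCat.ofHom
    { toFun := fun e => ⟨fun W t => ψ.app (op W) (E.map t.op e), fun W W' f t =>
        (nat_app ψ f.op (E.map t.op e)).trans (congrArg (ψ.app (op W')) (map_app E t (p.map f) e))⟩
      map_zero' := Subtype.ext (by
        funext W t
        change ψ.app (op W) (E.map t.op 0) = 0
        rw [map_zero]
        exact map_zero _)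
      map_add' := fun e e' => Subtype.ext (by
        funext W t
        change ψ.app (op W) (E.map t.op (e + e')) = ψ.app (op W) (E.map t.op e) + ψ.app (op W) (E.map t.op e')
        rw [map_add]
        exact map_add _ _ _) }
  naturality T T' f := AddCommGrpCat.ext fun e => Subtype.ext (funext fun W => funext fun t =>
    congrArg (ψ.app (op W)) (map_app E f.unop t e))

/-- The other direction of the adjunction. -/
def ofPf {E : (Over S)ᵒᵖ ⥤ AddCommGrpCat.{u + 1}} {P : Cᵒᵖ ⥤ AddCommGrpCat.{u + 1}} (φ : E ⟶ pfObj p P) : p.op ⋙ E ⟶ P where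
  app W := AddCommGrpCat.ofHom
    { toFun := fun e => (φ.app (op (p.obj W.unop)) e).1 W.unop (𝟙 _)
      map_zero' := by
        rw [map_zero]
        rfl
      map_add' := fun e e' => by
        rw [map_add]
        rfl }
  naturality W W' f := AddCommGrpCat.ext fun e => by
    have h1 := (φ.app (op (p.obj W.unop)) e).2 f.unop (𝟙 _)
    have h2 := congrArg (fun z : GS p P (p.obj W'.unop) => z.1 W'.unop (𝟙 _)) (nat_app φ (p.map f.unop).op e)
    refine Eq.trans h2.symm ?_
    refine Eq.trans ?_ h1.symm
    change (φ.app (op (p.obj W.unop)) e).1 W'.unop (𝟙 _ ≫ p.map f.unop) = _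
    rw [Category.comp_id, Category.id_comp]

/-- The adjunction. -/
def pfAdj : (Functor.whiskeringLeft _ _ AddCommGrpCat.{u + 1}).obj p.op ⊣ pf p :=
  Adjunction.mkOfHomEquiv
    { homEquiv := fun E P =>
        { toFun := fun ψ => toPf p ψ
          invFun := fun φ => ofPf p φ
          left_inv := fun ψ => by
            ext W e
            change ψ.app W (E.map (𝟙 _) e) = ψ.app W e
            rw [E.map_id]
            rfl
          right_inv := fun φ => by
            ext T e
            refine Subtype.ext (funext fun W => funext fun t => ?_)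
            have h2 := congrArg (fun z : GS p P (p.obj W) => z.1 W (𝟙 _)) (nat_app φ t.op e)
            refine Eq.trans h2.symm ?_
            change (φ.app T e).1 W (𝟙 _ ≫ t) = _
            rw [Category.id_comp]
            rfl }
      homEquiv_naturality_left_symm := fun f g => rfl
      homEquiv_naturality_right := fun f g => rfl }

/-- The comparison with right Kan extensions. -/
noncomputable def ranIso : p.op.ran (H := AddCommGrpCat.{u + 1}) ≅ pf p :=
  (p.op.ranAdjunction AddCommGrpCat.{u + 1}).rightAdjointUniq (pfAdj p)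

end K998.Pf
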