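import Groth.Agent.Sga4h.NcLerayAbs

/-!
# First right derived functor as a cokernel
-/

set_option autoImplicit false

universe w v₁ u₁ v₂ u₂ u

open CategoryTheory CategoryTheory.Limits

namespace K998.RD

variable {A : Type u₁} [Category.{v₁} A] [Abelian A] [HasInjectiveResolutions A]
  {B : Type u₂} [Category.{v₂} B] [Abelian B]
  (T : A ⥤ B) [T.Additive] [PreservesFiniteLimits T]

theorem exists_one {S : ShortComplex A} (hS : S.ShortExact) [Injective S.X₂] :
    ∃ (δ : T.obj S.X₃ ⟶ (T.rightDerived 1).obj S.X₁) (w : T.map S.g ≫ δ = 0),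
      (ShortComplex.mk (T.map S.g) δ w).Exact ∧ Epi δ := by
  obtain ⟨δ, -, hepi, w₀, w', ses₁, -⟩ := Groth.Agent.Sga4h.NcLerayAbs.exists_data T hS
  have hex : (ShortComplex.mk _ _ w₀).Exact := (ShortComplex.exact_iff_epi_kernel_lift _).2 ses₁.epi_g
  have w : T.map S.g ≫ T.rightDerivedZeroIsoSelf.inv.app S.X₃ ≫ δ 0 = 0 := by
    rw [← Category.assoc, T.rightDerivedZeroIsoSelf.inv.naturality S.g, Category.assoc, w₀, comp_zero]
  refine ⟨T.rightDerivedZeroIsoSelf.inv.app S.X₃ ≫ δ 0, w, ?_, epi_comp _ _⟩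
  let e : ShortComplex.mk _ _ w₀ ≅ ShortComplex.mk _ _ w :=
    ShortComplex.isoMk (T.rightDerivedZeroIsoSelf.app S.X₂) (T.rightDerivedZeroIsoSelf.app S.X₃) (Iso.refl _)
      (T.rightDerivedZeroIsoSelf.hom.naturality S.g).symm (by
        change T.rightDerivedZeroIsoSelf.hom.app S.X₃ ≫ T.rightDerivedZeroIsoSelf.inv.app S.X₃ ≫ δ 0 = δ 0 ≫ 𝟙 _
        rw [Category.comp_id, ← Category.assoc]
        simp)
  exact (ShortComplex.exact_iff_of_iso e).1 hex

theorem nonempty_succ {S : ShortComplex A} (hS : S.ShortExact) [Injective S.X₂] (n : ℕ) :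
    Nonempty ((T.rightDerived (n + 1)).obj S.X₃ ≅ (T.rightDerived (n + 2)).obj S.X₁) := by
  obtain ⟨δ, h, -⟩ := Groth.Agent.Sga4h.NcLerayAbs.exists_data T hS
  have := h n
  exact ⟨asIso (δ (n + 1))⟩

theorem isZero_one {S : ShortComplex A} (hS : S.ShortExact) [Injective S.X₂] (h : Epi (T.map S.g)) :
    IsZero ((T.rightDerived 1).obj S.X₁) := by
  obtain ⟨δ, w, -, hepi⟩ := exists_one T hS
  have h0 : δ = 0 := by
    rw [← cancel_epi (T.map S.g), w, comp_zero]
  rw [IsZero.iff_id_eq_zero, ← cancel_epi δ, h0, zero_comp, zero_comp]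

end K998.RD
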