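import Groth.Agent.StCoh.K998.Pf
import Groth.Agent.StCoh.K998.RD

/-!
# Push-forwards to the base, in low degrees
-/

set_option autoImplicit false
set_option linter.unusedSectionVars false

universe w v₁ u₁ v₂ u₂ u

open CategoryTheory CategoryTheory.Limits Opposite AlgebraicGeometry

namespace K998.Push

open FG Transfer Coch Shift Glob Pf Groth.Agent.Etrest FppfCoch

section Gen

variable {D : Type (u + 1)} [Category.{u} D] {J₀ : GrothendieckTopology D}

/-- Local lifting along exact sequences of sheaves. -/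
theorem local_lift {P Q R : Sheaf J₀ AddCommGrpCat.{u + 1}} {f : P ⟶ Q} {δ : Q ⟶ R} {w : f ≫ δ = 0}
    (hex : (ShortComplex.mk f δ w).Exact) (T : D) (q : Q.obj.obj (op T)) (hq : δ.hom.app (op T) q = 0) :
    ∃ R' ∈ J₀ T, ∀ (T' : D) (g : T' ⟶ T), R' g → ∃ x : P.obj.obj (op T'), f.hom.app (op T') x = Q.obj.map g.op q := by
  let Φ : Sheaf J₀ AddCommGrpCat.{u + 1} ⥤ AddCommGrpCat.{u + 1} := sheafToPresheaf _ _ ⋙ (evaluation _ _).obj (op T)
  have h1 : PreservesFiniteLimits Φ := inferInstance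
  have h2 := (ShortComplex.exact_kernel δ).map_of_mono_of_preservesKernel Φ inferInstance inferInstance
  obtain ⟨k, hk⟩ := (ShortComplex.ab_exact_iff _).1 h2 q hq
  have h3 : Epi (kernel.lift δ f w) := (ShortComplex.exact_iff_epi_kernel_lift _).1 hex
  have h4 : Sheaf.IsLocallySurjective (kernel.lift δ f w) := (Sheaf.isLocallySurjective_iff_epi' (φ := kernel.lift δ f w)).2 h3
  refine ⟨_, Presheaf.imageSieve_mem J₀ (kernel.lift δ f w).hom (U := op T) k, fun T' g hg => ?_⟩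
  obtain ⟨x, hx⟩ := hg
  refine ⟨x, ?_⟩
  have h5 : (kernel.lift δ f w).hom ≫ (kernel.ι δ).hom = f.hom := congrArg (fun z => z.hom) (kernel.lift_ι δ f w)
  have h6 := ConcreteCategory.congr_hom (NatTrans.congr_app h5 (op T')) x
  have h7 := ConcreteCategory.congr_hom ((kernel.ι δ).hom.naturality g.op) k
  refine h6.symm.trans ?_
  refine (congrArg ((kernel.ι δ).hom.app (op T')) hx).trans ?_
  refine h7.trans ?_
  exact congrArg (Q.obj.map g.op) hk

theorem mono_of_sections {P Q : Sheaf J₀ AddCommGrpCat.{u + 1}} (f : P ⟶ Q)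
    (h : ∀ (T : D) (x : P.obj.obj (op T)), f.hom.app (op T) x = 0 → x = 0) : Mono f := by
  have h1 : ∀ T, Mono (f.hom.app T) := fun T => by
    rw [AddCommGrpCat.mono_iff_injective, injective_iff_map_eq_zero]
    exact fun x hx => h T.unop x hx
  have h2 : Mono f.hom := NatTrans.mono_of_mono_app _
  exact (sheafToPresheaf J₀ AddCommGrpCat.{u + 1}).mono_of_mono_map h2

theorem epi_of_local {P Q : Sheaf J₀ AddCommGrpCat.{u + 1}} (f : P ⟶ Q)
    (h : ∀ (T : D) (x : Q.obj.obj (op T)), ∃ R' ∈ J₀ T, ∀ (T' : D) (g : T' ⟶ T), R' g →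
      ∃ y : P.obj.obj (op T'), f.hom.app (op T') y = Q.obj.map g.op x) : Epi f := by
  rw [← Sheaf.isLocallySurjective_iff_epi']
  refine ⟨fun {T} x => ?_⟩
  obtain ⟨R', hR', h'⟩ := h T x
  exact J₀.superset_covering (fun T' g hg => h' T' g hg) hR'

theorem zero_of_local (P : Sheaf J₀ AddCommGrpCat.{u + 1}) {T : D} (x : P.obj.obj (op T)) {R' : Sieve T}
    (hR' : R' ∈ J₀ T) (h : ∀ (T' : D) (g : T' ⟶ T), R' g → P.obj.map g.op x = 0) : x = 0 := by
  refine ((isSheaf_ty' P.property).isSeparated _ hR').ext fun T' g hg => ?_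
  change P.obj.map g.op x = P.obj.map g.op 0
  rw [h T' g hg, map_zero]

end Gen

section Main

set_option backward.isDefEq.respectTransparency false
set_option backward.isDefEq.respectTransparency.types false

variable {S : Scheme.{u}} {C : Type (u + 1)} [Category.{u} C] {p : C ⥤ Over S} {x₀ : C} (hp : IsFG p)
  (h : Cov p x₀)

variable (p x₀) in
/-- restriction of cocycles -/
def Zres {P : Cᵒᵖ ⥤ AddCommGrpCat.{u + 1}} {T T' : Over S} (f : T' ⟶ T) (n : ℕ) : Zc p x₀ P T n →+ Zc p x₀ P T' n where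
  toFun s := ⟨resC f s.1, s.2.1.res f, s.2.2.res f⟩
  map_zero' := rfl
  map_add' _ _ := rfl

variable (p x₀) in
/-- The presheaf of cocycles. -/
def zPre (P : Cᵒᵖ ⥤ AddCommGrpCat.{u + 1}) (n : ℕ) : (Over S)ᵒᵖ ⥤ AddCommGrpCat.{u + 1} where
  obj T := AddCommGrpCat.of (Zc p x₀ P T.unop n)
  map f := AddCommGrpCat.ofHom (Zres p x₀ f.unop n)
  map_id T := AddCommGrpCat.ext fun s => Subtype.ext (funext fun W => funext fun t => funext fun v => by
    change s.1 W (t ≫ 𝟙 _) v = s.1 W t v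
    rw [Category.comp_id])
  map_comp f g := AddCommGrpCat.ext fun s => Subtype.ext (funext fun W => funext fun t => funext fun v => by
    change s.1 W (t ≫ g.unop ≫ f.unop) v = s.1 W ((t ≫ g.unop) ≫ f.unop) v
    rw [Category.assoc])

theorem Rel.add {E : ShortComplex (AF hp)} {T : Over S} {s s' : Gg p E.X₃.obj T} {χ χ' : Cc p x₀ E.X₁.obj T 1}
    (hr : Rel hp x₀ s χ) (hr' : Rel hp x₀ s' χ') : Rel hp x₀ (s + s') (χ + χ') := by
  obtain ⟨c, hc, h1, h2⟩ := hr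
  obtain ⟨c', hc', h1', h2'⟩ := hr'
  refine ⟨fun W t v => c W t v + c' W t v, fun W W' f t v => ?_, ?_, ?_⟩
  · dsimp only
    rw [map_add, hc f, hc' f]
  · funext W t v
    have e1 : E.g.hom.app (op W) (c W t v) = _ := congrFun (congrFun (congrFun h1 W) t) v
    have e2 : E.g.hom.app (op W) (c' W t v) = _ := congrFun (congrFun (congrFun h1' W) t) v
    change E.g.hom.app (op W) (c W t v + c' W t v) = s W t + s' W t
    rw [map_add, e1, e2]
    rfl
  · funext W t v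
    have e1 : dS (c W t) v = E.f.hom.app (op W) (χ W t v) := congrFun (congrFun (congrFun h2 W) t) v
    have e2 : dS (c' W t) v = E.f.hom.app (op W) (χ' W t v) := congrFun (congrFun (congrFun h2' W) t) v
    change dS (fun x => c W t x + c' W t x) v = E.f.hom.app (op W) (χ W t v + χ' W t v)
    rw [dS_add, map_add, e1, e2]

theorem Rel.neg {E : ShortComplex (AF hp)} {T : Over S} {s : Gg p E.X₃.obj T} {χ : Cc p x₀ E.X₁.obj T 1}
    (hr : Rel hp x₀ s χ) : Rel hp x₀ (- s) (- χ) := by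
  obtain ⟨c, hc, h1, h2⟩ := hr
  refine ⟨fun W t v => - c W t v, fun W W' f t v => ?_, ?_, ?_⟩
  · dsimp only
    rw [map_neg, hc f]
  · funext W t v
    have e1 : E.g.hom.app (op W) (c W t v) = _ := congrFun (congrFun (congrFun h1 W) t) v
    change E.g.hom.app (op W) (- c W t v) = - s W t
    rw [map_neg, e1]
    rfl
  · funext W t v
    have e1 : dS (c W t) v = E.f.hom.app (op W) (χ W t v) := congrFun (congrFun (congrFun h2 W) t) v
    change dS (fun x => - c W t x) v = E.f.hom.app (op W) (- χ W t v)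
    rw [dS_neg, map_neg, e1]

variable {J₀ : GrothendieckTopology (Over S)} (hJ₀ : ∀ (T : Over S) (R : Sieve T), (∀ τ : T.left,
    ∃ (T' : Over S) (g : T' ⟶ T), R g ∧ Etale g.left ∧ τ ∈ Set.range g.left) → R ∈ J₀ T)
  {E : ShortComplex (AF hp)} (hE : E.ShortExact) [Injective E.X₂]
  (hP : PCA (isFG_qf hp) E.X₁.obj)
  {P Q : Sheaf J₀ AddCommGrpCat.{u + 1}} (f : P ⟶ Q) (e₁ : P.obj ≅ (pf p).obj E.X₂.obj)
  (e₂ : Q.obj ≅ (pf p).obj E.X₃.obj) (comm : f.hom ≫ e₂.hom = e₁.hom ≫ (pf p).map E.g.hom)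

include comm in
theorem comm_inv {T : Over S} (s : GS p E.X₂.obj T) :
    f.hom.app (op T) (e₁.inv.app (op T) s) = e₂.inv.app (op T) (GSmap p E.g.hom T s) := by
  have h1 : e₁.inv ≫ f.hom = (pf p).map E.g.hom ≫ e₂.inv := by
    rw [Iso.inv_comp_eq, ← Category.assoc, ← comm, Category.assoc, Iso.hom_inv_id, Category.comp_id]
  exact ConcreteCategory.congr_hom (NatTrans.congr_app h1 (op T)) s

include h hE hP hJ₀ comm in
/-- Epimorphy from the vanishing of the Čech cohomology. -/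
theorem epi_of_lco {D : Pts S} (hD : ∀ (T : Over S) (τ : T.left), D.Cd T τ) (hl : LCo p x₀ 1 D E.X₁.obj 0) : Epi f := by
  apply epi_of_local
  intro T x
  let s : GS p E.X₃.obj T := e₂.hom.app (op T) x
  refine ⟨⟨fun T' g => ∃ y : P.obj.obj (op T'), f.hom.app (op T') y = Q.obj.map g.op x, ?_⟩, hJ₀ _ _ ?_, fun T' g hg => hg⟩
  · rintro T₁ T₂ g ⟨y, hy⟩ k
    refine ⟨P.obj.map k.op y, ?_⟩
    rw [← nat_app f.hom k.op y, hy, map_app]
  · intro τ
    obtain ⟨T', g, hg, hτ, s', hs', hss⟩ := shift_zero hp h hE hP hl s.1 s.2 τ (hD T τ)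
    rw [one_smul] at hss
    refine ⟨T', g, ⟨e₁.inv.app (op T') ⟨s', hs'⟩, ?_⟩, hg, hτ⟩
    rw [comm_inv hp f e₁ e₂ comm]
    have h2 : GSmap p E.g.hom T' ⟨s', hs'⟩ = ((pf p).obj E.X₃.obj).map g.op s := Subtype.ext hss
    rw [h2, ← nat_app e₂.inv g.op s]
    have h3 := ConcreteCategory.congr_hom (e₂.hom_inv_id_app (op T)) x
    exact congrArg (Q.obj.map g.op) h3

variable (hB : ∀ (T : Over S) (c : Zc p x₀ E.X₁.obj T 1), c ∈ Bc p x₀ E.X₁.obj T 0 → c = 0)
  {R : Sheaf J₀ AddCommGrpCat.{u + 1}} (δ : Q ⟶ R) (w : f ≫ δ = 0)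

include h hE comm w in
/-- Families related to the same cocycle have the same image in `R`. -/
theorem kap_unique {T : Over S} {s s' : GS p E.X₃.obj T} {χ : Zc p x₀ E.X₁.obj T 1}
    (hr : Rel hp x₀ s.1 χ.1) (hr' : Rel hp x₀ s'.1 χ.1) :
    δ.hom.app (op T) (e₂.inv.app (op T) s) = δ.hom.app (op T) (e₂.inv.app (op T) s') := by
  have h1 : Rel hp x₀ (s - s').1 (0 : Cc p x₀ E.X₁.obj T 1) := by
    have := Rel.add hp hr (Rel.neg hp hr')
    rw [add_neg_cancel] at this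
    rw [AddSubgroup.coe_sub, sub_eq_add_neg]
    exact this
  obtain ⟨s'', hs'', he⟩ := rel_image hp h hE (s - s').2 h1 (N := 1) (b := fun _ _ _ => 0) (fun _ _ f _ _ => map_zero _)
    (fun W t v => by
      change dS (fun _ => 0) _ = (1 : ℤ) • (0 : E.X₁.obj.obj (op W))
      simp [dS])
  rw [one_smul] at he
  have h2 : GSmap p E.g.hom T ⟨s'', hs''⟩ = s - s' := Subtype.ext he
  have h3 : e₂.inv.app (op T) (s - s') = e₂.inv.app (op T) s - e₂.inv.app (op T) s' := map_sub _ _ _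
  have h4 : δ.hom.app (op T) (e₂.inv.app (op T) (s - s')) = 0 := by
    rw [← h2, ← comm_inv hp f e₁ e₂ comm]
    have h5 : f.hom ≫ δ.hom = 0 := congrArg (fun z => z.hom) w
    exact ConcreteCategory.congr_hom (NatTrans.congr_app h5 (op T)) _
  rw [h3, map_sub, sub_eq_zero] at h4
  exact h4

/-- The morphism from cocycles. -/
noncomputable def kapFun (T : Over S) (χ : Zc p x₀ E.X₁.obj T 1) : R.obj.obj (op T) :=
  δ.hom.app (op T) (e₂.inv.app (op T) ⟨(exists_rel' hp h hE χ.1 χ.2.1 χ.2.2).choose,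
    (exists_rel' hp h hE χ.1 χ.2.1 χ.2.2).choose_spec.1⟩)

include e₁ comm w in
theorem kapFun_eq {T : Over S} {s : GS p E.X₃.obj T} {χ : Zc p x₀ E.X₁.obj T 1} (hr : Rel hp x₀ s.1 χ.1) :
    kapFun hp h hE e₂ δ T χ = δ.hom.app (op T) (e₂.inv.app (op T) s) :=
  kap_unique hp h hE f e₁ e₂ comm δ w (exists_rel' hp h hE χ.1 χ.2.1 χ.2.2).choose_spec.2 hr

include h hE e₁ comm w in
/-- The morphism from cocycles. -/
theorem exists_kap : ∃ κ : zPre p x₀ E.X₁.obj 1 ⟶ R.obj, ∀ (T : Over S) (s : GS p E.X₃.obj T)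
    (χ : Zc p x₀ E.X₁.obj T 1), Rel hp x₀ s.1 χ.1 → κ.app (op T) χ = δ.hom.app (op T) (e₂.inv.app (op T) s) := by
  refine ⟨{ app := fun T => AddCommGrpCat.ofHom (AddMonoidHom.mk' (kapFun hp h hE e₂ δ T.unop) ?_)
            naturality := ?_ }, ?_⟩
  · intro χ χ'
    obtain ⟨s, hs, hr⟩ := exists_rel' hp h hE χ.1 χ.2.1 χ.2.2
    obtain ⟨s', hs', hr'⟩ := exists_rel' hp h hE χ'.1 χ'.2.1 χ'.2.2
    rw [kapFun_eq hp h hE f e₁ e₂ comm δ w (s := ⟨s, hs⟩) hr, kapFun_eq hp h hE f e₁ e₂ comm δ w (s := ⟨s', hs'⟩) hr',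
      kapFun_eq hp h hE f e₁ e₂ comm δ w (s := ⟨s, hs⟩ + ⟨s', hs'⟩) (Rel.add hp hr hr')]
    refine Eq.trans ?_ (map_add (δ.hom.app _).hom _ _)
    exact congrArg _ (map_add (e₂.inv.app _).hom _ _)
  · intro T T' g
    ext χ
    obtain ⟨s, hs, hr⟩ := exists_rel' hp h hE χ.1 χ.2.1 χ.2.2
    change kapFun hp h hE e₂ δ T'.unop (Zres p x₀ g.unop 1 χ) = R.obj.map g (kapFun hp h hE e₂ δ T.unop χ)
    rw [kapFun_eq hp h hE f e₁ e₂ comm δ w (s := ⟨s, hs⟩) hr,
      kapFun_eq hp h hE f e₁ e₂ comm δ w (s := GSres p g.unop ⟨s, hs⟩) (χ := Zres p x₀ g.unop 1 χ)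
        (Rel.res hp hr g.unop)]
    have h1 := nat_app e₂.inv g (⟨s, hs⟩ : GS p E.X₃.obj T.unop)
    have h2 := nat_app δ.hom g (e₂.inv.app T (⟨s, hs⟩ : GS p E.X₃.obj T.unop))
    refine Eq.trans ?_ h2.symm
    exact congrArg (δ.hom.app T') h1.symm
  · intro T s χ hr
    exact kapFun_eq hp h hE f e₁ e₂ comm δ w hr

include h hE hP hJ₀ comm hB in
/-- The cokernel. -/
theorem coker_iso (hex : (ShortComplex.mk f δ w).Exact) (hepi : Epi δ) (D : Sheaf J₀ AddCommGrpCat.{u + 1})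
    (eD : D.obj ≅ zPre p x₀ E.X₁.obj 1) : Nonempty (D ≅ R) := by
  obtain ⟨κ, hκ⟩ := exists_kap hp h hE f e₁ e₂ comm δ w
  let k : D ⟶ R := ⟨eD.hom ≫ κ⟩
  have h1 : Mono k := by
    apply mono_of_sections
    intro T x hx
    let χ : Zc p x₀ E.X₁.obj T 1 := eD.hom.app (op T) x
    obtain ⟨s, hs, hr⟩ := exists_rel' hp h hE χ.1 χ.2.1 χ.2.2
    have h2 : δ.hom.app (op T) (e₂.inv.app (op T) (⟨s, hs⟩ : GS p E.X₃.obj T)) = 0 := by
      rw [← hκ T ⟨s, hs⟩ χ hr]
      exact hx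
    obtain ⟨R', hR', hl⟩ := local_lift hex T _ h2
    apply zero_of_local D x hR'
    intro T' g hg
    obtain ⟨y, hy⟩ := hl T' g hg
    let s' : GS p E.X₂.obj T' := e₁.hom.app (op T') y
    have h3 : mapG E.g.hom s'.1 = resG g s := by
      have e3 := ConcreteCategory.congr_hom (NatTrans.congr_app comm (op T')) y
      have e4 : e₂.hom.app (op T') (f.hom.app (op T') y) = GSmap p E.g.hom T' s' := e3
      rw [hy] at e4
      have e5 := nat_app e₂.inv g.op (⟨s, hs⟩ : GS p E.X₃.obj T)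
      rw [e5] at e4
      have e6 := ConcreteCategory.congr_hom (e₂.inv_hom_id_app (op T'))
        (((pf p).obj E.X₃.obj).map g.op (⟨s, hs⟩ : GS p E.X₃.obj T))
      have e7 := e6.symm.trans e4
      exact (congrArg Subtype.val e7).symm
    have h4 := Rel.res hp hr g
    rw [← h3] at h4
    obtain ⟨b, hb, hbc⟩ := rel_cob hp hE s'.2 h4
    have h5 : Zres p x₀ g 1 χ = 0 := hB T' _ ⟨b, hb, hbc⟩
    have h6 := nat_app eD.hom g.op x
    have h7 : eD.hom.app (op T') (D.obj.map g.op x) = 0 := h6.symm.trans h5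
    have h8 := congrArg (eD.inv.app (op T')) h7
    have h9 := ConcreteCategory.congr_hom (eD.hom_inv_id_app (op T')) (D.obj.map g.op x)
    exact h9.symm.trans (h8.trans (map_zero _))
  have h2 : Epi k := by
    apply epi_of_local
    intro T z
    have hloc : Sheaf.IsLocallySurjective δ := (Sheaf.isLocallySurjective_iff_epi' (φ := δ)).2 hepi
    have hS := Presheaf.imageSieve_mem J₀ δ.hom (U := op T) z
    refine ⟨⟨fun T' g => ∃ y : D.obj.obj (op T'), k.hom.app (op T') y = R.obj.map g.op z, ?_⟩, ?_, fun T' g hg => hg⟩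
    · rintro T₁ T₂ g ⟨y, hy⟩ j
      refine ⟨D.obj.map j.op y, ?_⟩
      rw [← nat_app k.hom j.op y, hy, map_app]
    · refine J₀.transitive hS _ ?_
      rintro T₁ g ⟨q, hq⟩
      apply hJ₀
      intro τ
      let s : GS p E.X₃.obj T₁ := e₂.hom.app (op T₁) q
      obtain ⟨T₂, g₂, hg₂, hτ, χ, hχ, hz, hr⟩ := exists_rel hp h hE hP s.1 s.2 τ
      refine ⟨T₂, g₂, ⟨eD.inv.app (op T₂) (⟨χ, hχ, hz⟩ : Zc p x₀ E.X₁.obj T₂ 1), ?_⟩, hg₂, hτ⟩
      have e1 : k.hom.app (op T₂) (eD.inv.app (op T₂) (⟨χ, hχ, hz⟩ : Zc p x₀ E.X₁.obj T₂ 1)) =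
          κ.app (op T₂) (⟨χ, hχ, hz⟩ : Zc p x₀ E.X₁.obj T₂ 1) := by
        have := ConcreteCategory.congr_hom (eD.inv_hom_id_app (op T₂)) (⟨χ, hχ, hz⟩ : Zc p x₀ E.X₁.obj T₂ 1)
        exact congrArg (κ.app (op T₂)) this
      rw [e1, hκ T₂ (GSres p g₂ s) ⟨χ, hχ, hz⟩ hr]
      have e2 := nat_app e₂.inv g₂.op s
      have e3 := ConcreteCategory.congr_hom (e₂.hom_inv_id_app (op T₁)) q
      have e4 : e₂.inv.app (op T₂) (GSres p g₂ s) = Q.obj.map g₂.op q := e2.symm.trans (congrArg (Q.obj.map g₂.op) e3)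
      rw [e4, ← nat_app δ.hom g₂.op q]
      have hq' : δ.hom.app (op T₁) q = R.obj.map g.op z := hq
      rw [hq', map_app]
  have h3 : IsIso k := isIso_of_mono_of_epi k
  exact ⟨asIso k⟩

end Main

end K998.Push
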