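import Groth.Agent.StCoh.K998.Glob2

/-!
# A split exact sequence of Ext groups
-/

set_option autoImplicit false

universe w v₁ u₁ v₂ u₂ u

open CategoryTheory CategoryTheory.Limits Abelian

namespace K998.Split

variable {B : Type u₁} [Category.{v₁} B] [Abelian B] [HasExt.{w} B] (Z : B)

/-- push-forward on Ext -/
noncomputable abbrev ps {X Y : B} (f : X ⟶ Y) (n : ℕ) : Ext.{w} Z X n →+ Ext.{w} Z Y n :=
  (Ext.mk₀ f).postcomp Z (add_zero n)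

/-- connecting map -/
noncomputable abbrev cn {E : ShortComplex B} (hE : E.ShortExact) (n : ℕ) : Ext.{w} Z E.X₃ n →+ Ext.{w} Z E.X₁ (n + 1) :=
  hE.extClass.postcomp Z rfl

theorem ps_comp {X Y W : B} (f : X ⟶ Y) (g : Y ⟶ W) (n : ℕ) (x : Ext.{w} Z X n) :
    ps Z g n (ps Z f n x) = ps Z (f ≫ g) n x := by
  change (x.comp (Ext.mk₀ f) (add_zero n)).comp (Ext.mk₀ g) (add_zero n) = x.comp (Ext.mk₀ (f ≫ g)) (add_zero n)
  rw [← Ext.mk₀_comp_mk₀, Ext.comp_assoc_of_third_deg_zero]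

theorem ps_zero {X Y : B} (n : ℕ) (x : Ext.{w} Z X n) : ps Z (0 : X ⟶ Y) n x = 0 := by
  change x.comp (Ext.mk₀ 0) (add_zero n) = 0
  rw [Ext.mk₀_zero, Ext.comp_zero]

theorem cn_ps_nat {E E' : ShortComplex B} (hE : E.ShortExact) (hE' : E'.ShortExact) (φ : E ⟶ E') (n : ℕ)
    (x : Ext.{w} Z E.X₃ n) : cn Z hE' n (ps Z φ.τ₃ n x) = ps Z φ.τ₁ (n + 1) (cn Z hE n x) := by
  change (x.comp (Ext.mk₀ φ.τ₃) (add_zero n)).comp hE'.extClass rfl =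
    (x.comp hE.extClass rfl).comp (Ext.mk₀ φ.τ₁) (add_zero _)
  rw [Ext.comp_assoc_of_third_deg_zero, ShortComplex.ShortExact.extClass_naturality hE hE' φ,
    Ext.comp_assoc_of_second_deg_zero]

theorem cn_ps_g {E : ShortComplex B} (hE : E.ShortExact) (n : ℕ) (x : Ext.{w} Z E.X₂ n) :
    cn Z hE n (ps Z E.g n x) = 0 := by
  change (x.comp (Ext.mk₀ E.g) (add_zero n)).comp hE.extClass rfl = 0
  rw [Ext.comp_assoc_of_second_deg_zero, hE.comp_extClass, Ext.comp_zero]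

section Main

variable {EP EK ES : ShortComplex B} (hP : EP.ShortExact) (hK : EK.ShortExact) (hS : ES.ShortExact)
  [Injective EP.X₂] (i : EP.X₃ ≅ EK.X₁) (e₀ : EP.X₁ ⟶ ES.X₁) [IsIso e₀] (e₁ : EP.X₂ ⟶ ES.X₂) (e₂ : EK.X₂ ⟶ ES.X₃)
  (c₁ : EP.f ≫ e₁ = e₀ ≫ ES.f) (c₂ : (EP.g ≫ i.hom ≫ EK.f) ≫ e₂ = e₁ ≫ ES.g)

include c₁ c₂ in
theorem conn_eq (n : ℕ) (y : Ext.{w} Z EP.X₃ n) :
    cn Z hS n (ps Z e₂ n (ps Z (i.hom ≫ EK.f) n y)) = ps Z e₀ (n + 1) (cn Z hP n y) := by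
  let φ : EP ⟶ ES :=
    { τ₁ := e₀
      τ₂ := e₁
      τ₃ := (i.hom ≫ EK.f) ≫ e₂
      comm₁₂ := c₁.symm
      comm₂₃ := by rw [← c₂]; simp only [Category.assoc] }
  have := cn_ps_nat Z hP hS φ n y
  rw [ps_comp]
  exact this

theorem ps_iso_injective {X Y : B} (f : X ⟶ Y) [IsIso f] (n : ℕ) (x : Ext.{w} Z X n) (h : ps Z f n x = 0) : x = 0 := by
  have h1 := ps_comp Z f (inv f) n x
  rw [h, map_zero, IsIso.hom_inv_id] at h1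
  change 0 = x.comp (Ext.mk₀ (𝟙 X)) (add_zero n) at h1
  rw [Ext.comp_mk₀_id] at h1
  exact h1.symm

theorem ps_iso_surjective {X Y : B} (f : X ⟶ Y) [IsIso f] (n : ℕ) (y : Ext.{w} Z Y n) :
    ∃ x : Ext.{w} Z X n, ps Z f n x = y := by
  refine ⟨ps Z (inv f) n y, ?_⟩
  rw [ps_comp, IsIso.inv_hom_id]
  exact Ext.comp_mk₀_id _

include hP hS i e₀ e₁ e₂ c₁ c₂ in
/-- the injectivity -/
theorem inj_succ (n : ℕ) (y : Ext.{w} Z EK.X₁ (n + 1)) (h : ps Z EK.f (n + 1) y = 0) : y = 0 := by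
  obtain ⟨y', rfl⟩ := ps_iso_surjective Z i.hom (n + 1) y
  rw [ps_comp] at h
  have h1 := conn_eq Z hP hS i e₀ e₁ e₂ c₁ c₂ (n + 1) y'
  rw [h, map_zero, map_zero] at h1
  have h2 := ps_iso_injective Z e₀ (n + 2) _ h1.symm
  obtain ⟨z, hz⟩ := Ext.covariant_sequence_exact₃ Z hP y' rfl h2
  have h3 : z = 0 := Ext.eq_zero_of_injective z
  have h4 : y' = 0 := by rw [← hz, h3, Ext.zero_comp]
  rw [h4, map_zero]

include hP hK hS i e₀ e₁ e₂ c₁ c₂ in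
theorem surj (n : ℕ) (r : Ext.{w} Z EK.X₃ n) : ∃ x : Ext.{w} Z EK.X₂ n, ps Z EK.g n x = r := by
  apply Ext.covariant_sequence_exact₃ Z hK r rfl
  apply inj_succ Z hP hS i e₀ e₁ e₂ c₁ c₂ n
  change (r.comp hK.extClass rfl).comp (Ext.mk₀ EK.f) (add_zero _) = 0
  rw [Ext.comp_assoc_of_third_deg_zero, hK.extClass_comp, Ext.comp_zero]

/-- The comparison map. -/
noncomputable def th (n : ℕ) : Ext.{w} Z EK.X₂ n →+ Ext.{w} Z ES.X₁ (n + 1) × Ext.{w} Z EK.X₃ n :=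
  ((cn Z hS n).comp (ps Z e₂ n)).prod (ps Z EK.g n)

include hP hK i e₀ e₁ c₁ c₂ in
theorem th_surjective (n : ℕ) : Function.Surjective (th (EK := EK) Z hS e₂ n) := by
  rintro ⟨u, r⟩
  obtain ⟨x₀, hx₀⟩ := surj Z hP hK hS i e₀ e₁ e₂ c₁ c₂ n r
  obtain ⟨u', hu'⟩ := ps_iso_surjective Z e₀ (n + 1) (u - cn Z hS n (ps Z e₂ n x₀))
  obtain ⟨y, hy⟩ := Ext.covariant_sequence_exact₁ Z hP u' (Ext.eq_zero_of_injective _) rfl
  refine ⟨x₀ + ps Z (i.hom ≫ EK.f) n y, Prod.ext ?_ ?_⟩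
  · change cn Z hS n (ps Z e₂ n (x₀ + ps Z (i.hom ≫ EK.f) n y)) = u
    rw [map_add, map_add, conn_eq Z hP hS i e₀ e₁ e₂ c₁ c₂ n y]
    have : cn Z hP n y = u' := hy
    rw [this, hu']
    abel
  · change ps Z EK.g n (x₀ + ps Z (i.hom ≫ EK.f) n y) = r
    rw [map_add, ps_comp, Category.assoc, EK.zero, comp_zero, ps_zero, hx₀, add_zero]

include hP hK i e₀ e₁ c₁ c₂ in
theorem th_eq_zero_iff (n : ℕ) (x : Ext.{w} Z EK.X₂ n) : th (EK := EK) Z hS e₂ n x = 0 ↔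
    ∃ z : Ext.{w} Z EP.X₂ n, ps Z (EP.g ≫ i.hom ≫ EK.f) n z = x := by
  constructor
  · intro h
    have h1 : cn Z hS n (ps Z e₂ n x) = 0 := congrArg Prod.fst h
    have h2 : ps Z EK.g n x = 0 := congrArg Prod.snd h
    obtain ⟨y₀, hy₀⟩ := Ext.covariant_sequence_exact₂ Z hK x h2
    obtain ⟨y, rfl⟩ := ps_iso_surjective Z i.hom n y₀
    have hy : ps Z (i.hom ≫ EK.f) n y = x := by
      rw [← ps_comp]
      exact hy₀
    rw [← hy, conn_eq Z hP hS i e₀ e₁ e₂ c₁ c₂ n y] at h1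
    have h3 := ps_iso_injective Z e₀ (n + 1) _ h1
    obtain ⟨z, hz⟩ := Ext.covariant_sequence_exact₃ Z hP y rfl h3
    have hz' : ps Z EP.g n z = y := hz
    refine ⟨z, ?_⟩
    rw [← ps_comp, hz', hy]
  · rintro ⟨z, rfl⟩
    refine Prod.ext ?_ ?_
    · change cn Z hS n (ps Z e₂ n (ps Z (EP.g ≫ i.hom ≫ EK.f) n z)) = 0
      rw [ps_comp, c₂, ← ps_comp, cn_ps_g]
    · change ps Z EK.g n (ps Z (EP.g ≫ i.hom ≫ EK.f) n z) = 0
      rw [ps_comp]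
      simp only [Category.assoc, EK.zero, comp_zero]
      exact ps_zero Z n z

include hP hK hS i e₀ e₁ e₂ c₁ c₂ in
theorem exists_equiv_succ (n : ℕ) : Nonempty (Ext.{w} Z EK.X₂ (n + 1) ≃+ Ext.{w} Z ES.X₁ (n + 2) × Ext.{w} Z EK.X₃ (n + 1)) := by
  refine ⟨AddEquiv.ofBijective (th (EK := EK) Z hS e₂ (n + 1)) ⟨?_, th_surjective Z hP hK hS i e₀ e₁ e₂ c₁ c₂ (n + 1)⟩⟩
  rw [injective_iff_map_eq_zero]
  intro x hx
  obtain ⟨z, rfl⟩ := (th_eq_zero_iff Z hP hK hS i e₀ e₁ e₂ c₁ c₂ (n + 1) x).1 hx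
  rw [Ext.eq_zero_of_injective z, map_zero]

end Main

end K998.Split
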