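import Groth.Agent.StCoh.K998.ROne
import Groth.Agent.StCoh.K998.FibFG
import Groth.Agent.StCoh.K998.Split

/-!
# Splitting by a section
-/

set_option autoImplicit false
set_option linter.unusedSectionVars false
set_option backward.isDefEq.respectTransparency false
set_option backward.isDefEq.respectTransparency.types false

universe w v₁ u₁ v₂ u₂ u

open CategoryTheory CategoryTheory.Limits Opposite AlgebraicGeometry Abelian

namespace K998.Sect

open FG Transfer Coch Shift Glob Pf Push Gm RPush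

section Pull

variable {C : Type u₁} [Category.{v₁} C] {D : Type u₂} [Category.{v₂} D]
  (F : C ⥤ D) (J : GrothendieckTopology C) (K : GrothendieckTopology D)
  [F.IsContinuous J K]

theorem preservesFiniteLimits_pull : PreservesFiniteLimits (F.sheafPushforwardContinuous AddCommGrpCat.{w} J K) where
  preservesFiniteLimits S _ _ := by
    have h1 : PreservesLimitsOfShape S (F.sheafPushforwardContinuous AddCommGrpCat.{w} J K ⋙ sheafToPresheaf J _) :=
      inferInstanceAs (PreservesLimitsOfShape S (sheafToPresheaf K AddCommGrpCat.{w} ⋙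
        (Functor.whiskeringLeft _ _ _).obj F.op))
    exact preservesLimitsOfShape_of_reflects_of_preserves _ (sheafToPresheaf J AddCommGrpCat.{w})

end Pull

variable {S : Scheme.{u}} {K : Precoverage Scheme.{u}} {𝒳 : AlgSt.Cat S} {hp : IsFG 𝒳.p} (hg : Good K hp)
  [StCoh.MorCont K (FibCat.toSelf 𝒳)] [StCoh.MorCocont K (FibCat.toSelf 𝒳)]
  (sf : FibCat.selfOver (Over S) ⥤ᵇ 𝒳) [StCoh.MorCont K sf] [StCoh.MorCocont K sf]
  (e : sf.toFunctor ⋙ 𝒳.p ≅ 𝟭 (Over S))

/-- evaluation along the section -/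
def evp (P : 𝒳.objᵒᵖ ⥤ AddCommGrpCat.{u + 1}) : (pf 𝒳.p).obj P ⟶ sf.toFunctor.op ⋙ P where
  app T := AddCommGrpCat.ofHom
    { toFun := fun s => s.1 (sf.toFunctor.obj T.unop) (e.hom.app T.unop)
      map_zero' := rfl
      map_add' := fun _ _ => rfl }
  naturality T T' f := AddCommGrpCat.ext fun s => by
    have h1 := s.2 (sf.toFunctor.map f.unop) (e.hom.app T.unop)
    have h2 := e.hom.naturality f.unop
    exact (congrArg (s.1 (sf.toFunctor.obj T'.unop)) h2).symm.trans h1.symm

/-- evaluation along the section -/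
noncomputable def ev (F : AF hp) : (pu 𝒳).obj ((RR hg).obj F) ⟶ (StCoh.pull K sf AddCommGrpCat.{u + 1}).obj ((RR hg).obj F) :=
  ⟨(puIso hg F).hom ≫ evp sf e F.obj⟩

theorem ev_nat {F F' : AF hp} (f : F ⟶ F') : (pu 𝒳).map ((RR hg).map f) ≫ ev hg sf e F' =
    ev hg sf e F ≫ (StCoh.pull K sf AddCommGrpCat.{u + 1}).map ((RR hg).map f) := by
  apply Sheaf.hom_ext
  change ((pu 𝒳).map ((RR hg).map f)).hom ≫ (puIso hg F').hom ≫ evp sf e F'.obj =
    ((puIso hg F).hom ≫ evp sf e F.obj) ≫ ((StCoh.pull K sf AddCommGrpCat.{u + 1}).map ((RR hg).map f)).hom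
  rw [← Category.assoc, puIso_nat hg f]
  rfl

/-- The pull-back of a short exact sequence. -/
theorem shortExact_pull {E : ShortComplex (StCoh.Ab K 𝒳)} (hE : E.ShortExact) :
    (E.map (StCoh.pull K sf AddCommGrpCat.{u + 1})).ShortExact := by
  have h1 := preservesFiniteLimits_pull.{u + 1} sf.toFunctor (StCoh.J K (FibCat.selfOver (Over S))) (StCoh.J K 𝒳)
  have h2 : PreservesColimitsOfSize.{0, 0} (StCoh.pull K sf AddCommGrpCat.{u + 1}) :=
    (StCoh.pullPushAdj K sf).leftAdjoint_preservesColimits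
  have h3 : PreservesFiniteColimits (StCoh.pull K sf AddCommGrpCat.{u + 1}) := PreservesColimitsOfSize.preservesFiniteColimits _
  exact hE.map_of_exact _

end K998.Sect
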