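import Groth.Agent.StCoh.K998.Sect

/-!
# Splitting by a section: the splitting of cohomology
-/

set_option autoImplicit false
set_option linter.unusedSectionVars false
set_option backward.isDefEq.respectTransparency false
set_option backward.isDefEq.respectTransparency.types false

universe w v₁ u₁ v₂ u₂ u

open CategoryTheory CategoryTheory.Limits Opposite AlgebraicGeometry Abelian

namespace K998.Sect

open FG Transfer Coch Shift Glob Pf Push Gm RPush Groth.Agent.Etrest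

variable {S : Scheme.{u}} {K : Precoverage Scheme.{u}} {𝒳 : AlgSt.Cat S} {hp : IsFG 𝒳.p} (hg : Good K hp)
  [StCoh.MorCont K (FibCat.toSelf 𝒳)] [StCoh.MorCocont K (FibCat.toSelf 𝒳)]

section NtPf

variable {C : Type (u + 1)} [Category.{u} C] (p : C ⥤ Over S)

/-- Global sections of the push-forward. -/
def ntPf (P : Cᵒᵖ ⥤ AddCommGrpCat.{u + 1}) : NtG ((pf p).obj P) ≃+ NtG P where
  toFun s := ⟨fun W => (s.1 (p.obj W)).1 W (𝟙 _), fun W W' f => by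
    have h1 := (s.1 (p.obj W)).2 f (𝟙 _)
    have h2 : GSres p (p.map f) (s.1 (p.obj W)) = s.1 (p.obj W') := s.2 (p.map f)
    have h3 : (s.1 (p.obj W')).1 W' (𝟙 _) = (s.1 (p.obj W)).1 W' (𝟙 _ ≫ p.map f) :=
      (congrArg (fun k : GS p P (p.obj W') => k.1 W' (𝟙 _)) h2).symm
    refine h1.trans (Eq.trans ?_ h3.symm)
    exact congrArg ((s.1 (p.obj W)).1 W') ((Category.comp_id _).trans (Category.id_comp _).symm)⟩
  invFun t := ⟨fun T => ⟨fun W _ => t.1 W, fun W W' f _ => t.2 f⟩, fun T T' f => rfl⟩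
  left_inv s := Subtype.ext (funext fun T => Subtype.ext (funext fun W => funext fun t => by
    have h2 : GSres p t (s.1 T) = s.1 (p.obj W) := s.2 t
    have h3 : (s.1 (p.obj W)).1 W (𝟙 _) = (s.1 T).1 W (𝟙 _ ≫ t) :=
      (congrArg (fun k : GS p P (p.obj W) => k.1 W (𝟙 _)) h2).symm
    exact h3.trans (congrArg ((s.1 T).1 W) (Category.id_comp _))))
  right_inv t := rfl
  map_add' _ _ := rfl

/-- functoriality of natural families -/
def ntMap {C : Type u₁} [Category.{v₁} C] {P Q : Cᵒᵖ ⥤ AddCommGrpCat.{w}} (α : P ⟶ Q) : NtG P →+ NtG Q where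
  toFun s := ⟨fun W => α.app (op W) (s.1 W), s.2.map α⟩
  map_zero' := Subtype.ext (funext fun W => map_zero (α.app (op W)).hom)
  map_add' s t := Subtype.ext (funext fun W => map_add (α.app (op W)).hom _ _)

theorem ntMap_comp {C : Type u₁} [Category.{v₁} C] {P Q R : Cᵒᵖ ⥤ AddCommGrpCat.{w}} (α : P ⟶ Q) (β : Q ⟶ R)
    (s : NtG P) : ntMap β (ntMap α s) = ntMap (α ≫ β) s := rfl

/-- functoriality of natural families -/
def ntIso {C : Type u₁} [Category.{v₁} C] {P Q : Cᵒᵖ ⥤ AddCommGrpCat.{w}} (α : P ≅ Q) : NtG P ≃+ NtG Q where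
  toFun := ntMap α.hom
  invFun := ntMap α.inv
  left_inv s := by
    rw [ntMap_comp, α.hom_inv_id]
    rfl
  right_inv s := by
    rw [ntMap_comp, α.inv_hom_id]
    rfl
  map_add' := map_add _

theorem ntPf_nat {P Q : Cᵒᵖ ⥤ AddCommGrpCat.{u + 1}} (α : P ⟶ Q) (s : NtG ((pf p).obj P)) :
    ntPf p Q (ntMap ((pf p).map α) s) = ntMap α (ntPf p P s) := rfl

theorem equiv_comp {C : Type u₁} [Category.{v₁} C] {J : GrothendieckTopology C} {A : Sheaf J AddCommGrpCat.{w}}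
    {g : ∀ W : C, A.obj.obj (op W)} (h : IsGS A g) {F F' : Sheaf J AddCommGrpCat.{w}} (φ : A ⟶ F) (f : F ⟶ F') :
    h.equiv F' (φ ≫ f) = ntMap f.hom (h.equiv F φ) := rfl

end NtPf

section Gl

variable {A : AF hp} {g : ∀ W : 𝒳.obj, A.obj.obj (op W)} (hA : IsGS A g)
  {Z : StCoh.Ab K (FibCat.selfOver (Over S))} {z : ∀ W : Over S, Z.obj.obj (op W)} (hZ : IsGS Z z)

/-- Global sections and push-forward. -/
noncomputable def gl (X : AF hp) : (Z ⟶ (pu 𝒳).obj ((RR hg).obj X)) ≃+ (A ⟶ X) :=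
  (hZ.equiv _).trans ((ntIso (puIso hg X)).trans ((ntPf 𝒳.p X.obj).trans (hA.equiv X).symm))

theorem gl_def (X : AF hp) (φ : Z ⟶ (pu 𝒳).obj ((RR hg).obj X)) :
    hA.equiv X (gl hg hA hZ X φ) = ntPf 𝒳.p X.obj (ntMap (puIso hg X).hom (hZ.equiv _ φ)) :=
  (hA.equiv X).apply_symm_apply _

theorem gl_nat {X Y : AF hp} (f : X ⟶ Y) (φ : Z ⟶ (pu 𝒳).obj ((RR hg).obj X)) :
    gl hg hA hZ Y (φ ≫ (pu 𝒳).map ((RR hg).map f)) = gl hg hA hZ X φ ≫ f := by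
  apply (hA.equiv Y).injective
  rw [equiv_comp, gl_def, gl_def]
  have h1 : ntMap (((pu 𝒳).map ((RR hg).map f)).hom ≫ (puIso hg Y).hom) (hZ.equiv _ φ) =
      ntMap ((puIso hg X).hom ≫ (pf 𝒳.p).map f.hom) (hZ.equiv _ φ) := by
    rw [puIso_nat hg f]
  exact congrArg (ntPf 𝒳.p Y.obj) h1

end Gl

section Abs

variable {B : Type u₁} [Category.{v₁} B] [Abelian B]

/-- The first of two short exact sequences. -/
noncomputable abbrev eP {X Y W R : B} (f : X ⟶ Y) (g : Y ⟶ W) (h : f ≫ g = 0) (δ : W ⟶ R) (w : g ≫ δ = 0) : ShortComplex B :=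
  ShortComplex.mk f (kernel.lift δ g w) (by
    rw [← cancel_mono (kernel.ι δ), Category.assoc, kernel.lift_ι, h, zero_comp])

/-- The second of two short exact sequences. -/
noncomputable abbrev eK {W R : B} (δ : W ⟶ R) : ShortComplex B := ShortComplex.mk (kernel.ι δ) δ (kernel.condition δ)

theorem eK_shortExact {W R : B} (δ : W ⟶ R) [Epi δ] : (eK δ).ShortExact where
  exact := ShortComplex.exact_kernel δ
  mono_f := inferInstanceAs (Mono (kernel.ι δ))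
  epi_g := inferInstanceAs (Epi δ)

theorem eP_shortExact {X Y W R : B} (f : X ⟶ Y) (g : Y ⟶ W) (h : f ≫ g = 0) (δ : W ⟶ R) (w : g ≫ δ = 0)
    (hm : Mono f) (h1 : (ShortComplex.mk f g h).Exact) (h2 : (ShortComplex.mk g δ w).Exact) :
    (eP f g h δ w).ShortExact where
  exact := by
    let φ : eP f g h δ w ⟶ ShortComplex.mk f g h :=
      { τ₁ := 𝟙 _
        τ₂ := 𝟙 _
        τ₃ := kernel.ι δ
        comm₁₂ := by simp
        comm₂₃ := by simp }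
    have : Epi φ.τ₁ := inferInstanceAs (Epi (𝟙 _))
    have : IsIso φ.τ₂ := inferInstanceAs (IsIso (𝟙 _))
    have : Mono φ.τ₃ := inferInstanceAs (Mono (kernel.ι δ))
    exact (ShortComplex.exact_iff_of_epi_of_isIso_of_mono φ).2 h1
  mono_f := hm
  epi_g := (ShortComplex.exact_iff_epi_kernel_lift _).1 h2

end Abs

section Shift

variable {B : Type u₁} [Category.{v₁} B] [Abelian B] [HasExt.{w} B]

/-- Dimension shift. -/
theorem ext_shift (A : B) {E : ShortComplex B} (hE : E.ShortExact) [Injective E.X₂] (n : ℕ) :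
    Nonempty (Ext.{w} A E.X₃ (n + 1) ≃+ Ext.{w} A E.X₁ (n + 2)) := by
  let δ : Ext.{w} A E.X₃ (n + 1) →+ Ext.{w} A E.X₁ (n + 2) := hE.extClass.postcomp A rfl
  refine ⟨AddEquiv.ofBijective δ ⟨?_, ?_⟩⟩
  · rw [injective_iff_map_eq_zero]
    intro x hx
    obtain ⟨y, hy⟩ := Ext.covariant_sequence_exact₃ A hE x rfl hx
    rw [← hy, Ext.eq_zero_of_injective y, Ext.zero_comp]
  · intro c
    obtain ⟨x, hx⟩ := Ext.covariant_sequence_exact₁ A hE c (Ext.eq_zero_of_injective _) rfl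
    exact ⟨x, hx⟩

/-- The boundary map in degree `0`. -/
noncomputable def bd (A : B) {E : ShortComplex B} (hE : E.ShortExact) : (A ⟶ E.X₃) →+ Ext.{w} A E.X₁ 1 :=
  (hE.extClass.postcomp A (zero_add 1)).comp (Ext.addEquiv₀ (X := A) (Y := E.X₃)).symm.toAddMonoidHom

theorem bd_surjective (A : B) {E : ShortComplex B} (hE : E.ShortExact) [Injective E.X₂] :
    Function.Surjective (bd.{w} A hE) := by
  intro c
  obtain ⟨x, hx⟩ := Ext.covariant_sequence_exact₁ A hE c (Ext.eq_zero_of_injective _) (zero_add 1)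
  obtain ⟨s, rfl⟩ := (Ext.mk₀_bijective A E.X₃).2 x
  exact ⟨s, hx⟩

theorem bd_eq_zero_iff (A : B) {E : ShortComplex B} (hE : E.ShortExact) (s : A ⟶ E.X₃) :
    bd.{w} A hE s = 0 ↔ ∃ φ : A ⟶ E.X₂, φ ≫ E.g = s := by
  change (Ext.mk₀ s).comp hE.extClass (zero_add 1) = 0 ↔ _
  constructor
  · intro h0
    obtain ⟨y, hy⟩ := Ext.covariant_sequence_exact₃ A hE (Ext.mk₀ s) (zero_add 1) h0
    obtain ⟨φ, rfl⟩ := (Ext.mk₀_bijective A E.X₂).2 y
    rw [Ext.mk₀_comp_mk₀] at hy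
    exact ⟨φ, (Ext.mk₀_bijective A E.X₃).1 hy⟩
  · rintro ⟨φ, rfl⟩
    rw [← Ext.mk₀_comp_mk₀, Ext.comp_assoc_of_second_deg_zero, hE.comp_extClass, Ext.comp_zero]

end Shift

section AbsMain

variable {A₀ : Type u₁} [Category.{v₁} A₀] [Abelian A₀] [HasExt.{w} A₀]
  {B₀ : Type u₂} [Category.{v₂} B₀] [Abelian B₀] [HasExt.{w} B₀]
  (A : A₀) (Z : B₀)

theorem ps_mk₀ {X Y : B₀} (f : X ⟶ Y) (φ : Z ⟶ X) : Split.ps.{w} Z f 0 (Ext.mk₀ φ) = Ext.mk₀ (φ ≫ f) := by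
  change (Ext.mk₀ φ).comp (Ext.mk₀ f) (add_zero 0) = _
  rw [Ext.mk₀_comp_mk₀]

theorem abs_one {E : ShortComplex A₀} (hE : E.ShortExact) [Injective E.X₂]
    {EP EK ES : ShortComplex B₀} (hP : EP.ShortExact) (hK : EK.ShortExact) (hS : ES.ShortExact)
    [Injective EP.X₂] (i : EP.X₃ ≅ EK.X₁) (e₀ : EP.X₁ ⟶ ES.X₁) [IsIso e₀] (e₁ : EP.X₂ ⟶ ES.X₂) (e₂ : EK.X₂ ⟶ ES.X₃)
    (c₁ : EP.f ≫ e₁ = e₀ ≫ ES.f) (c₂ : (EP.g ≫ i.hom ≫ EK.f) ≫ e₂ = e₁ ≫ ES.g)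
    (gI : (Z ⟶ EP.X₂) ≃+ (A ⟶ E.X₂)) (gQ : (Z ⟶ EK.X₂) ≃+ (A ⟶ E.X₃))
    (hg : ∀ φ, gQ (φ ≫ (EP.g ≫ i.hom ≫ EK.f)) = gI φ ≫ E.g) :
    Nonempty (Ext.{w} A E.X₁ 1 ≃+ Ext.{w} Z ES.X₁ 1 × Ext.{w} Z EK.X₃ 0) := by
  have hsurj := Split.th_surjective.{w} Z hP hK hS i e₀ e₁ e₂ c₁ c₂ 0
  have hzero := Split.th_eq_zero_iff.{w} Z hP hK hS i e₀ e₁ e₂ c₁ c₂ 0
  let a : (A ⟶ E.X₃) ≃+ Ext.{w} Z EK.X₂ 0 := gQ.symm.trans (Ext.addEquiv₀ (X := Z) (Y := EK.X₂)).symm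
  refine ⟨Groth.Agent.Etrest.RAcyc.equivOfKerEq (bd A hE) ((Split.th (EK := EK) Z hS e₂ 0).comp
    a.toAddMonoidHom) (bd_surjective A hE) (hsurj.comp a.surjective) ?_⟩
  ext s
  rw [AddMonoidHom.mem_ker, AddMonoidHom.mem_ker, bd_eq_zero_iff]
  refine Iff.trans ?_ (hzero (a s)).symm
  constructor
  · rintro ⟨φ, rfl⟩
    refine ⟨Ext.mk₀ (gI.symm φ), ?_⟩
    rw [ps_mk₀]
    change _ = Ext.mk₀ (gQ.symm (φ ≫ E.g))
    congr 1
    apply gQ.injective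
    rw [hg, AddEquiv.apply_symm_apply, AddEquiv.apply_symm_apply]
  · rintro ⟨y, hy⟩
    obtain ⟨φ, rfl⟩ := (Ext.mk₀_bijective Z EP.X₂).2 y
    refine ⟨gI φ, ?_⟩
    rw [ps_mk₀] at hy
    have h5 := (Ext.mk₀_bijective Z EK.X₂).1 (hy : _ = Ext.mk₀ (gQ.symm s))
    rw [← hg, h5]
    exact gQ.apply_symm_apply s

theorem abs_shift {E : ShortComplex A₀} (hE : E.ShortExact) [Injective E.X₂] {E' : ShortComplex B₀} (hE' : E'.ShortExact)
    [Injective E'.X₂] (gI : (Z ⟶ E'.X₂) ≃+ (A ⟶ E.X₂)) (gQ : (Z ⟶ E'.X₃) ≃+ (A ⟶ E.X₃))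
    (hg : ∀ φ, gQ (φ ≫ E'.g) = gI φ ≫ E.g) : Nonempty (Ext.{w} A E.X₁ 1 ≃+ Ext.{w} Z E'.X₁ 1) := by
  refine ⟨Groth.Agent.Etrest.RAcyc.equivOfKerEq (bd A hE) ((bd.{w} Z hE').comp
    gQ.symm.toAddMonoidHom) (bd_surjective A hE) ((bd_surjective Z hE').comp gQ.symm.surjective) ?_⟩
  ext s
  rw [AddMonoidHom.mem_ker, AddMonoidHom.mem_ker, bd_eq_zero_iff]
  refine Iff.trans ?_ (bd_eq_zero_iff Z hE' (gQ.symm s)).symm
  constructor
  · rintro ⟨φ, rfl⟩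
    refine ⟨gI.symm φ, gQ.injective ?_⟩
    rw [hg, AddEquiv.apply_symm_apply, AddEquiv.apply_symm_apply]
  · rintro ⟨y, hy⟩
    refine ⟨gI y, ?_⟩
    rw [← hg, hy, AddEquiv.apply_symm_apply]

end AbsMain

end K998.Sect
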