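import Groth.Agent.StCoh.K998.Sect2

/-!
# Splitting by a section: the main results
-/

set_option autoImplicit false
set_option linter.unusedSectionVars false
set_option backward.isDefEq.respectTransparency false
set_option backward.isDefEq.respectTransparency.types false

universe w v₁ u₁ v₂ u₂ u

open CategoryTheory CategoryTheory.Limits Opposite AlgebraicGeometry Abelian

namespace K998.Sect

open FG Transfer Coch Shift Glob Pf Push Gm RPush Groth.Agent.Etrest

variable {S : Scheme.{u}} {K : Precoverage Scheme.{u}} {𝒳 : AlgSt.Cat S} {hp : IsFG 𝒳.p} (hg : Good K hp)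
  [StCoh.MorCont K (FibCat.toSelf 𝒳)] [StCoh.MorCocont K (FibCat.toSelf 𝒳)]
  (sf : FibCat.selfOver (Over S) ⥤ᵇ 𝒳) [StCoh.MorCont K sf] [StCoh.MorCocont K sf]
  (e : sf.toFunctor ⋙ 𝒳.p ≅ 𝟭 (Over S))

theorem injective_pu (I : StCoh.Ab K 𝒳) [Injective I] : Injective ((pu 𝒳).obj I) := by
  have h1 : PreservesFiniteLimits (StCoh.pull K (FibCat.toSelf 𝒳) AddCommGrpCat.{u + 1}) :=
    preservesFiniteLimits_pull.{u + 1} (FibCat.toSelf 𝒳).toFunctor (StCoh.J K 𝒳) (StCoh.J K (FibCat.selfOver (Over S)))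
  have h2 : (StCoh.pull K (FibCat.toSelf 𝒳) AddCommGrpCat.{u + 1}).PreservesMonomorphisms := inferInstance
  exact Injective.injective_of_adjoint (StCoh.pullPushAdj K (FibCat.toSelf 𝒳)) I

variable {A : AF hp} {g : ∀ W : 𝒳.obj, A.obj.obj (op W)} (hA : IsGS A g)
  {Z : StCoh.Ab K (FibCat.selfOver (Over S))} {z : ∀ W : Over S, Z.obj.obj (op W)} (hZ : IsGS Z z)

include e hA hZ in
/-- The splitting in degree one. -/
theorem split_one (F : AF hp) (hF : PCA (isFG_qf hp) F.obj) (he : IsIso (ev hg sf e F)) :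
    Nonempty (Ext.{u + 1} A F 1 ≃+ Ext.{u + 1} Z ((StCoh.pull K sf AddCommGrpCat.{u + 1}).obj ((RR hg).obj F)) 1 ×
      Ext.{u + 1} Z (((pu (K := K) 𝒳).rightDerived 1).obj ((RR hg).obj F)) 0) := by
  obtain ⟨I, Q, ι, π, w, hE, hI⟩ := exists_ses F
  have hs := shortExact_RR hg hE hI hF
  have hinj : Injective ((RR hg).obj I) := injective_RR hg I
  have hinj' : Injective ((pu 𝒳).obj ((RR hg).obj I)) := injective_pu _
  obtain ⟨δ, wδ, hex, hepi⟩ := t3 hs hinj
  have hS := shortExact_pull sf hs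
  have hm := hs.mono_f
  have hw : (pu 𝒳).map ((RR hg).map ι) ≫ (pu 𝒳).map ((RR hg).map π) = 0 := by
    rw [← Functor.map_comp, ← Functor.map_comp, w, Functor.map_zero, Functor.map_zero]
  have hexf : (ShortComplex.mk _ _ hw).Exact := hs.exact.map_of_mono_of_preservesKernel (pu 𝒳) hm inferInstance
  have hmf : Mono ((pu 𝒳).map ((RR hg).map ι)) := by
    have : Mono ((RR hg).map ι) := hm
    infer_instance
  have hP := eP_shortExact _ _ hw δ wδ hmf hexf hex
  have hK := eK_shortExact δ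
  have : Injective (eP _ _ hw δ wδ).X₂ := hinj'
  have c₁ := ev_nat hg sf e ι
  have c₂ : ((eP _ _ hw δ wδ).g ≫ (Iso.refl (kernel δ)).hom ≫ (eK δ).f) ≫ ev hg sf e Q =
      ev hg sf e I ≫ (StCoh.pull K sf AddCommGrpCat.{u + 1}).map ((RR hg).map π) := by
    rw [← ev_nat hg sf e π, Iso.refl_hom, Category.id_comp]
    exact congrArg (fun k => k ≫ ev hg sf e Q) (kernel.lift_ι _ _ _)
  have h4 : (eP _ _ hw δ wδ).g ≫ (Iso.refl (kernel δ)).hom ≫ (eK δ).f = (pu 𝒳).map ((RR hg).map π) := by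
    rw [Iso.refl_hom, Category.id_comp]
    exact kernel.lift_ι _ _ _
  have : Injective (ShortComplex.mk ι π w).X₂ := hI
  exact abs_one A Z hE hP hK hS (Iso.refl _) (ev hg sf e F) (ev hg sf e I) (ev hg sf e Q) c₁ c₂
    (gl hg hA hZ I) (gl hg hA hZ Q) (fun φ => (congrArg (fun k => gl hg hA hZ Q (φ ≫ k)) h4).trans (gl_nat hg hA hZ π φ))

variable {x₀ : 𝒳.obj} (h : Cov 𝒳.p x₀)

include h hA hZ in
/-- Leray in degree one. -/
theorem leray_one (F : AF hp) (hF : PCA (isFG_qf hp) F.obj) {D : Pts S} (hD : ∀ (T : Over S) (τ : T.left), D.Cd T τ)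
    (hl : LCo 𝒳.p x₀ 1 D F.obj 0) : Nonempty (Ext.{u + 1} A F 1 ≃+ Ext.{u + 1} Z ((pu 𝒳).obj ((RR hg).obj F)) 1) := by
  obtain ⟨I, Q, ι, π, w, hE, hI⟩ := exists_ses F
  have hs := shortExact_RR hg hE hI hF
  have hinj : Injective ((RR hg).obj I) := injective_RR hg I
  have hinj' : Injective ((pu 𝒳).obj ((RR hg).obj I)) := injective_pu _
  have hm := hs.mono_f
  have hw : (pu 𝒳).map ((RR hg).map ι) ≫ (pu 𝒳).map ((RR hg).map π) = 0 := by
    rw [← Functor.map_comp, ← Functor.map_comp, w, Functor.map_zero, Functor.map_zero]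
  have hexf : (ShortComplex.mk _ _ hw).Exact := hs.exact.map_of_mono_of_preservesKernel (pu 𝒳) hm inferInstance
  have hmf : Mono ((pu 𝒳).map ((RR hg).map ι)) := by
    have : Mono ((RR hg).map ι) := hm
    infer_instance
  have hepi : Epi ((pu 𝒳).map ((RR hg).map π)) := epi_pu hg h F hF hD hl hE hI
  have hE' : (ShortComplex.mk _ _ hw).ShortExact := { exact := hexf, mono_f := hmf, epi_g := hepi }
  have : Injective (ShortComplex.mk ι π w).X₂ := hI
  have : Injective (ShortComplex.mk _ _ hw).X₂ := hinj'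
  exact abs_shift A Z hE hE' (gl hg hA hZ I) (gl hg hA hZ Q) (gl_nat hg hA hZ π)

include e h hA hZ in
/-- The splitting in degree two. -/
theorem split_two (F : AF hp) (hF : PCA (isFG_qf hp) F.obj) (he : IsIso (ev hg sf e F)) {D : Pts S}
    (hD : ∀ (T : Over S) (τ : T.left), D.Cd T τ) (hl : LCo 𝒳.p x₀ 1 D F.obj 1) :
    Nonempty (Ext.{u + 1} A F 2 ≃+ Ext.{u + 1} Z ((StCoh.pull K sf AddCommGrpCat.{u + 1}).obj ((RR hg).obj F)) 2 ×
      Ext.{u + 1} Z (((pu (K := K) 𝒳).rightDerived 1).obj ((RR hg).obj F)) 1) := by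
  obtain ⟨I, Q, ι, π, w, hE, hI⟩ := exists_ses F
  have hs := shortExact_RR hg hE hI hF
  have hinj : Injective ((RR hg).obj I) := injective_RR hg I
  have hinj' : Injective ((pu 𝒳).obj ((RR hg).obj I)) := injective_pu _
  obtain ⟨δ, wδ, hex, hepi⟩ := t3 hs hinj
  have hS := shortExact_pull sf hs
  have hm := hs.mono_f
  have hw : (pu 𝒳).map ((RR hg).map ι) ≫ (pu 𝒳).map ((RR hg).map π) = 0 := by
    rw [← Functor.map_comp, ← Functor.map_comp, w, Functor.map_zero, Functor.map_zero]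
  have hexf : (ShortComplex.mk _ _ hw).Exact := hs.exact.map_of_mono_of_preservesKernel (pu 𝒳) hm inferInstance
  have hmf : Mono ((pu 𝒳).map ((RR hg).map ι)) := by
    have : Mono ((RR hg).map ι) := hm
    infer_instance
  have hP := eP_shortExact _ _ hw δ wδ hmf hexf hex
  have hK := eK_shortExact δ
  have : Injective (eP _ _ hw δ wδ).X₂ := hinj'
  have c₁ := ev_nat hg sf e ι
  have c₂ : ((eP _ _ hw δ wδ).g ≫ (Iso.refl (kernel δ)).hom ≫ (eK δ).f) ≫ ev hg sf e Q =
      ev hg sf e I ≫ (StCoh.pull K sf AddCommGrpCat.{u + 1}).map ((RR hg).map π) := by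
    rw [← ev_nat hg sf e π, Iso.refl_hom, Category.id_comp]
    exact congrArg (fun k => k ≫ ev hg sf e Q) (kernel.lift_ι _ _ _)
  have : Injective (ShortComplex.mk ι π w).X₂ := hI
  obtain ⟨e1⟩ := ext_shift A hE 0
  obtain ⟨e2⟩ := leray_one hg hA hZ h Q (Transfer.shift (isFG_qf hp) hE hF).1 hD (shift_lc hp h hE hF hl)
  obtain ⟨e3⟩ := Split.exists_equiv_succ Z hP hK hS (Iso.refl _) (ev hg sf e F) (ev hg sf e I) (ev hg sf e Q) c₁ c₂ 0
  exact ⟨e1.symm.trans (e2.trans e3)⟩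

end K998.Sect
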