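import Groth.Agent.StCoh.K998.Coch
import Groth.Agent.Etrest.BigEtDescent

/-!
# Dimension shifting through Čech cochains of a finite locally free cover `x₀` of `C → Over S`
-/

set_option autoImplicit false

universe w v₁ u₁ v₂ u₂ u

open CategoryTheory CategoryTheory.Limits Opposite AlgebraicGeometry

namespace K998.Shift

open FG Transfer Coch Groth.Agent.Etrest FppfCoch

section Mem

theorem mem_et {X : Scheme.{u}} (R : Sieve X) : R ∈ Scheme.etaleTopology.{u} X ↔
    ∀ x : X, ∃ (Y : Scheme.{u}) (g : Y ⟶ X), R g ∧ Etale g ∧ x ∈ Set.range g :=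
  Groth.Agent.Etrest.BigEtSite.mem_grothendieckTopology_iff_forall (P := @Etale)

set_option backward.isDefEq.respectTransparency.types false in
theorem mem_fppf {X : Scheme.{u}} (R : Sieve X) : R ∈ Scheme.fppfTopology.{u} X ↔
    ∀ x : X, ∃ (Y : Scheme.{u}) (g : Y ⟶ X), R g ∧ Flat g ∧ LocallyOfFinitePresentation g ∧ x ∈ Set.range g := by
  have h1 : MorphismProperty.IsMultiplicative (C := Scheme.{u}) @LocallyOfFinitePresentation :=
    { id_mem := fun X => inferInstanceAs (LocallyOfFinitePresentation (𝟙 X)) }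
  have h2 : MorphismProperty.IsMultiplicative (C := Scheme.{u}) @Flat :=
    { id_mem := fun X => inferInstanceAs (Flat (𝟙 X)) }
  have h3 : MorphismProperty.IsMultiplicative (C := Scheme.{u}) (@Flat ⊓ @LocallyOfFinitePresentation) :=
    MorphismProperty.IsMultiplicative.inf
  refine (Groth.Agent.Etrest.BigEtSite.mem_grothendieckTopology_iff_forall
    (P := @Flat ⊓ @LocallyOfFinitePresentation)).trans ?_
  refine forall_congr' fun x => exists_congr fun Y => exists_congr fun g => ?_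
  constructor
  · rintro ⟨h1, ⟨h2, h3⟩, h4⟩
    exact ⟨h1, h2, h3, h4⟩
  · rintro ⟨h1, h2, h3, h4⟩
    exact ⟨h1, ⟨h2, h3⟩, h4⟩

variable {C : Type (u + 1)} [Category.{u} C] {q : C ⥤ Scheme.{u}} (hq : IsFG q)

theorem mem_topo_et {W : C} (R : Sieve W) : R ∈ topo hq Scheme.etaleTopology.{u} W ↔
    ∀ z : q.obj W, ∃ (Y : C) (φ : Y ⟶ W), R φ ∧ Etale (q.map φ) ∧ z ∈ Set.range (q.map φ) := by
  rw [mem_topo_iff, mem_et]
  refine forall_congr' fun z => ?_
  constructor
  · rintro ⟨Y, g, hg, he, ⟨y, hy⟩⟩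
    obtain ⟨y', e, φ, hφ⟩ := hq.lift W g
    refine ⟨y', φ, (mem_pushforward_iff hq R φ e g hφ).1 hg, ?_, ?_⟩
    · rw [hφ]
      infer_instance
    · rw [hφ]
      refine ⟨e.inv y, ?_⟩
      rw [← Scheme.Hom.comp_apply, Iso.inv_hom_id_assoc, hy]
  · rintro ⟨Y, φ, h1, h2, h3⟩
    exact ⟨q.obj Y, q.map φ, (mem_pushforward_map_iff hq R φ).2 h1, h2, h3⟩

theorem mem_topo_fppf {W : C} (R : Sieve W) : R ∈ topo hq Scheme.fppfTopology.{u} W ↔
    ∀ z : q.obj W, ∃ (Y : C) (φ : Y ⟶ W), R φ ∧ Flat (q.map φ) ∧ LocallyOfFinitePresentation (q.map φ) ∧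
      z ∈ Set.range (q.map φ) := by
  rw [mem_topo_iff, mem_fppf]
  refine forall_congr' fun z => ?_
  constructor
  · rintro ⟨Y, g, hg, he, he', ⟨y, hy⟩⟩
    obtain ⟨y', e, φ, hφ⟩ := hq.lift W g
    refine ⟨y', φ, (mem_pushforward_iff hq R φ e g hφ).1 hg, ?_, ?_, ?_⟩
    · rw [hφ]
      infer_instance
    · rw [hφ]
      infer_instance
    · rw [hφ]
      refine ⟨e.inv y, ?_⟩
      rw [← Scheme.Hom.comp_apply, Iso.inv_hom_id_assoc, hy]
  · rintro ⟨Y, φ, h1, h2, h3, h4⟩
    exact ⟨q.obj Y, q.map φ, (mem_pushforward_map_iff hq R φ).2 h1, h2, h3, h4⟩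

end Mem

variable {S : Scheme.{u}} {C : Type (u + 1)} [Category.{u} C] {p : C ⥤ Over S} {x₀ : C}

/-- The conditions on the covering object. -/
structure Cov (p : C ⥤ Over S) (x₀ : C) : Prop where
  prod : ∀ W : C, ∃ (Y : C) (a : Y ⟶ W) (v : Y ⟶ x₀),
    (∀ (W' : C) (a' : W' ⟶ W) (v' : W' ⟶ x₀), ∃ f : W' ⟶ Y, f ≫ a = a' ∧ f ≫ v = v') ∧
    (∀ (W' : C) (f g : W' ⟶ Y), f ≫ a = g ≫ a → f ≫ v = g ≫ v → f = g) ∧
    IsFinite (p.map a).left ∧ Flat (p.map a).left ∧ LocallyOfFinitePresentation (p.map a).left ∧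
    Surjective (p.map a).left
  fin : IsFinite (p.obj x₀).hom

/-- Representing objects. -/
theorem Cov.exists_rp (h : Cov p x₀) (hp : IsFG p) (T : Over S) (n : ℕ) :
    ∃ R : Rp p x₀ T n, IsFinite R.t.left := by
  induction n with
  | zero =>
    have hfin := h.fin
    let V : Over S := Over.mk (pullback.fst T.hom (p.obj x₀).hom ≫ T.hom)
    let f₁ : V ⟶ T := Over.homMk (pullback.fst _ _) rfl
    let f₂ : V ⟶ p.obj x₀ := Over.homMk (pullback.snd _ _) pullback.condition.symm
    have hf₁ : IsFinite f₁.left := inferInstanceAs (IsFinite (pullback.fst T.hom (p.obj x₀).hom))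
    obtain ⟨y, e, φ, hφ⟩ := hp.lift x₀ f₂
    have pr : ∀ {W : Over S} (t' : W ⟶ T) (w : W ⟶ p.obj x₀), ∃ k : W ⟶ V, k ≫ f₁ = t' ∧ k ≫ f₂ = w := by
      intro W t' w
      have e1 : t'.left ≫ T.hom = w.left ≫ (p.obj x₀).hom := by rw [Over.w, Over.w]
      refine ⟨Over.homMk (pullback.lift t'.left w.left e1) ?_, ?_, ?_⟩
      · change pullback.lift t'.left w.left e1 ≫ pullback.fst T.hom (p.obj x₀).hom ≫ T.hom = _
        rw [pullback.lift_fst_assoc, Over.w]
      · ext
        exact pullback.lift_fst _ _ _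
      · ext
        exact pullback.lift_snd _ _ _
    have key : ∀ {W : C} (t' : p.obj W ⟶ T) (v' : Fin 1 → (W ⟶ x₀)), ∃ χ : W ⟶ y,
        p.map χ ≫ e.hom ≫ f₁ = t' ∧ χ ≫ φ = v' 0 := by
      intro W t' v'
      obtain ⟨k, hk1, hk2⟩ := pr t' (p.map (v' 0))
      obtain ⟨χ, h1, h2⟩ := hp.fac φ (v' 0) (k ≫ e.inv) (by
        rw [hφ, Category.assoc, Iso.inv_hom_id_assoc, hk2])
      refine ⟨χ, ?_, h2⟩
      rw [h1, Category.assoc, Iso.inv_hom_id_assoc, hk1]
    refine ⟨{ Y := y
              t := e.hom ≫ f₁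
              v := fun _ => φ
              lift := fun t' v' => (key t' v').choose
              lift_t := fun t' v' => ?_
              lift_v := fun t' v' i => ?_
              hom_ext := fun f g h1 h2 => ?_ }, ?_⟩
    · exact (key t' v').choose_spec.1
    · rw [(key t' v').choose_spec.2, Fin.fin_one_eq_zero i]
    · refine hp.uniq φ f g ?_ (h2 0)
      have h3 : (p.map f ≫ e.hom) ≫ f₁ = (p.map g ≫ e.hom) ≫ f₁ := by
        rw [Category.assoc, Category.assoc]
        exact h1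
      have h4 : (p.map f ≫ e.hom) ≫ f₂ = (p.map g ≫ e.hom) ≫ f₂ := by
        rw [Category.assoc, Category.assoc, ← hφ, ← p.map_comp, ← p.map_comp, h2 0]
      rw [← cancel_mono e.hom]
      ext
      apply pullback.hom_ext
      · exact congrArg (fun k => k.left) h3
      · exact congrArg (fun k => k.left) h4
    · change IsFinite (e.hom ≫ f₁).left
      rw [Over.comp_left]
      have : IsIso e.hom.left := inferInstanceAs (IsIso ((Over.forget S).map e.hom))
      infer_instance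
  | succ n ih =>
    obtain ⟨R, hR⟩ := ih
    obtain ⟨Y, a, v, h1, h2, h3, -⟩ := h.prod R.Y
    choose l l1 l2 using h1
    refine ⟨{ Y := Y
              t := p.map a ≫ R.t
              v := (Fin.cons v (fun i => a ≫ R.v i) : Fin (n + 2) → (Y ⟶ x₀))
              lift := fun t' v' => l _ (R.lift t' (fun i => v' i.succ)) (v' 0)
              lift_t := fun t' v' => ?_
              lift_v := fun t' v' i => ?_
              hom_ext := fun f g e1 e2 => ?_ }, ?_⟩
    · rw [← Category.assoc, ← p.map_comp, l1, R.lift_t]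
    · refine Fin.cases ?_ (fun k => ?_) i
      · rw [Fin.cons_zero, l2]
      · rw [Fin.cons_succ, ← Category.assoc, l1, R.lift_v]
    · refine h2 _ f g (R.hom_ext _ _ ?_ fun i => ?_) (e2 0)
      · simpa only [Functor.map_comp, Category.assoc] using e1
      · simpa only [Fin.cons_succ, Category.assoc] using e2 i.succ
    · change IsFinite (p.map a ≫ R.t).left
      rw [Over.comp_left]
      infer_instance

/-- The functor to schemes. -/
abbrev qf (p : C ⥤ Over S) : C ⥤ Scheme.{u} := p ⋙ Over.forget S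

theorem isFG_qf (hp : IsFG p) : IsFG (qf p) := hp.comp (IsFG.over_forget S)

theorem Cov.sv_mem (h : Cov p x₀) (hp : IsFG p) (W : C) : sv x₀ W ∈ topo (isFG_qf hp) Scheme.fppfTopology.{u} W := by
  rw [mem_topo_fppf]
  intro z
  obtain ⟨Y, a, v, -, -, -, h1, h2, h3⟩ := h.prod W
  exact ⟨Y, a, ⟨v⟩, h1, h2, h3.surj z⟩

/-- Étale-local lifting of cochains. -/
theorem exists_lift_cochain (h : Cov p x₀) (hp : IsFG p) {P Q : Cᵒᵖ ⥤ AddCommGrpCat.{u + 1}}
    (hP : Presheaf.IsSheaf (topo (isFG_qf hp) Scheme.etaleTopology.{u}) P)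
    (hQ : Presheaf.IsSheaf (topo (isFG_qf hp) Scheme.etaleTopology.{u}) Q) {α : P ⟶ Q} (hα : LS (qf p) α)
    {T : Over S} {n : ℕ} (c : Cc p x₀ Q T n) (hc : IsC c) (τ : T.left) :
    ∃ (T' : Over S) (g : T' ⟶ T), Etale g.left ∧ τ ∈ Set.range g.left ∧
      ∃ c' : Cc p x₀ P T' n, IsC c' ∧ mapC α c' = resC g c := by
  obtain ⟨R, hR⟩ := h.exists_rp hp T n
  let f₀ : (qf p).obj R.Y ⟶ T.left := R.t.left
  have hR' : IsFinite f₀ := hR
  obtain ⟨U₁, g, Z, a, b, hg, hτ, hpb, t, ht⟩ := FinLoc.finLocC (isFG_qf hp) hP hQ hα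
    f₀ (c R.Y R.t R.v) τ
  let T' : Over S := Over.mk (g ≫ T.hom)
  let g' : T' ⟶ T := Over.homMk g rfl
  let b' : p.obj Z ⟶ T' := Over.homMk b (by
    change b ≫ g ≫ T.hom = _
    rw [← Category.assoc, ← hpb.w, Category.assoc]
    change (p.map a).left ≫ R.t.left ≫ T.hom = _
    rw [Over.w, Over.w])
  have hpb' : IsPullback (p.map a) b' R.t g' := by
    have h0 : IsPullback ((Over.forget S).map (p.map a)) ((Over.forget S).map b') ((Over.forget S).map R.t)
        ((Over.forget S).map g') := hpb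
    exact IsPullback.of_map (Over.forget S) (by ext; exact hpb.w) h0
  let R' := R.baseChange hp g' a b' hpb'
  refine ⟨T', g', hg, hτ, ofSec R' t, isC_ofSec R' t, ?_⟩
  have e1 : mapC α (ofSec R' t) = ofSec R' (α.app (op Z) t) := by
    funext W t' v'
    exact FppfMain.nat_apply α _ _
  rw [e1, ht]
  have e2 : (Q.map a.op (c R.Y R.t R.v) : Q.obj (op Z)) = resC g' c R'.Y R'.t R'.v := by
    rw [hc a R.t R.v, resC]
    have e3 : p.map a ≫ R.t = b' ≫ g' := hpb'.w
    rw [e3]
    rfl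
  rw [e2]
  exact ofSec_eq R' _ (hc.res g')

section Exact

variable {G I Q : Cᵒᵖ ⥤ AddCommGrpCat.{u + 1}}

/-- The presheaf-level consequences of exactness of `0 → G → I → Q` in sheaves. -/
structure LEx (ι : G ⟶ I) (π : I ⟶ Q) : Prop where
  inj : ∀ (W : C) (s : G.obj (op W)), ι.app (op W) s = 0 → s = 0
  comp : ∀ (W : C) (s : G.obj (op W)), π.app (op W) (ι.app (op W) s) = 0
  ex : ∀ (W : C) (s : I.obj (op W)), π.app (op W) s = 0 → ∃ t : G.obj (op W), ι.app (op W) t = s

variable {ι : G ⟶ I} {π : I ⟶ Q}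

theorem LEx.inj' (h : LEx ι π) {W : C} {s s' : G.obj (op W)}
    (e : ι.app (op W) s = ι.app (op W) s') : s = s' := by
  rw [← sub_eq_zero]
  apply h.inj
  rw [map_sub, e, sub_self]

open Classical in
/-- The family of `G` with given image in `I`. -/
noncomputable def pullC (ι : G ⟶ I) {T : Over S} {n : ℕ} (c : Cc p x₀ I T n) : Cc p x₀ G T n := fun W a x =>
  if h : ∃ t : G.obj (op W), ι.app (op W) t = c W a x then h.choose else 0

theorem mapC_pullC (h : LEx ι π) {T : Over S} {n : ℕ} (c : Cc p x₀ I T n) (h0 : mapC π c = 0) :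
    mapC ι (pullC ι c) = c := by
  funext W a x
  have hex := h.ex W (c W a x) (congrFun (congrFun (congrFun h0 W) a) x)
  change ι.app (op W) (pullC ι c W a x) = _
  rw [pullC, dif_pos hex]
  exact hex.choose_spec

theorem mapC_injective (h : LEx ι π) {T : Over S} {n : ℕ} {c c' : Cc p x₀ G T n} (e : mapC ι c = mapC ι c') :
    c = c' := by
  funext W a x
  exact h.inj' (congrFun (congrFun (congrFun e W) a) x)

theorem isC_of_map (h : LEx ι π) {T : Over S} {n : ℕ} {c : Cc p x₀ G T n} (hc : IsC (mapC ι c)) : IsC c := by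
  intro W W' f a x
  apply h.inj'
  rw [FppfMain.nat_apply]
  exact hc f a x

theorem isZ_of_map (h : LEx ι π) {T : Over S} {n : ℕ} {c : Cc p x₀ G T n} (hc : IsZ (mapC ι c)) : IsZ c := by
  intro W a x
  apply h.inj
  rw [← dS_mapC]
  exact hc a x

open Classical in
/-- The family of `G` with given image in `I`. -/
noncomputable def pullG (ι : G ⟶ I) {T : Over S} (c : Gg p I T) : Gg p G T := fun W a =>
  if h : ∃ t : G.obj (op W), ι.app (op W) t = c W a then h.choose else 0

theorem mapG_pullG (h : LEx ι π) {T : Over S} (c : Gg p I T) (h0 : mapG π c = 0) :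
    mapG ι (pullG ι c) = c := by
  funext W a
  have hex := h.ex W (c W a) (congrFun (congrFun h0 W) a)
  change ι.app (op W) (pullG ι c W a) = _
  rw [pullG, dif_pos hex]
  exact hex.choose_spec

theorem isG_of_map (h : LEx ι π) {T : Over S} {c : Gg p G T} (hc : IsG (mapG ι c)) : IsG c := by
  intro W W' f a
  apply h.inj'
  rw [FppfMain.nat_apply]
  exact hc f a

end Exact

end K998.Shift
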