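import Groth.Agent.StCoh.K998.Shift

/-!
# Dimension shifting, main statements
-/

set_option autoImplicit false

universe w v₁ u₁ v₂ u₂ u

open CategoryTheory CategoryTheory.Limits Opposite AlgebraicGeometry

namespace K998.Shift

open FG Transfer Coch Groth.Agent.Etrest FppfCoch

variable {S : Scheme.{u}} {C : Type (u + 1)} [Category.{u} C] {p : C ⥤ Over S} {x₀ : C} (hp : IsFG p)

/-- fppf sheaves on `C` -/
abbrev AF : Type (u + 2) := AbC (isFG_qf hp)

theorem lex_of_shortExact {E : ShortComplex (AF hp)} (hE : E.ShortExact) : LEx E.f.hom E.g.hom := by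
  have hm := hE.mono_f
  have key : ∀ W : C, Mono (E.f.hom.app (op W)) ∧
      (E.map (sheafToPresheaf _ _ ⋙ (evaluation _ _).obj (op W))).Exact := by
    intro W
    let Φ : AF hp ⥤ AddCommGrpCat.{u + 1} := sheafToPresheaf _ _ ⋙ (evaluation _ _).obj (op W)
    have h1 : PreservesFiniteLimits Φ := inferInstance
    have hm' : Mono (Φ.map E.f) := inferInstance
    exact ⟨hm', hE.exact.map_of_mono_of_preservesKernel Φ inferInstance inferInstance⟩
  refine ⟨fun W s hs => ?_, fun W s => ?_, fun W s hs => ?_⟩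
  · have := (AddCommGrpCat.mono_iff_injective _).1 (key W).1
    exact this (hs.trans (map_zero _).symm)
  · have h1 : E.f.hom ≫ E.g.hom = 0 := congrArg (fun k => k.hom) E.zero
    have h2 := ConcreteCategory.congr_hom (NatTrans.congr_app h1 (op W)) s
    exact h2
  · exact (ShortComplex.ab_exact_iff _).1 (key W).2 s hs

/-- Conditions on points of schemes over `S`, stable under pull-back. -/
structure Pts (S : Scheme.{u}) where
  /-- the condition -/
  Cd : ∀ T : Over S, T.left → Prop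
  pull : ∀ {T T' : Over S} (g : T' ⟶ T) (τ' : T'.left), Cd T (g.left τ') → Cd T' τ'

/-- Étale-locally near the points satisfying the condition, `N` times every `(n+1)`-cocycle is a coboundary. -/
def LCo (p : C ⥤ Over S) (x₀ : C) (N : ℤ) (D : Pts S) (F : Cᵒᵖ ⥤ AddCommGrpCat.{u + 1}) (n : ℕ) : Prop :=
  ∀ (T : Over S) (c : Cc p x₀ F T (n + 1)), IsC c → IsZ c → ∀ τ : T.left, D.Cd T τ →
    ∃ (T' : Over S) (g : T' ⟶ T), Etale g.left ∧ τ ∈ Set.range g.left ∧
      ∃ b : Cc p x₀ F T' n, IsC b ∧ IsB b (smC N (resC g c))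

variable (h : Cov p x₀) {E : ShortComplex (AF hp)} (hE : E.ShortExact) [Injective E.X₂]
  (hP : PCA (isFG_qf hp) E.X₁.obj)

include h hE hP in
/-- Lifting of cocycles. -/
theorem exists_lift_cocycle {T : Over S} {n : ℕ} (c : Cc p x₀ E.X₃.obj T n) (hc : IsC c) (hz : IsZ c) (τ : T.left) :
    ∃ (T' : Over S) (g : T' ⟶ T), Etale g.left ∧ τ ∈ Set.range g.left ∧
      ∃ (c' : Cc p x₀ E.X₂.obj T' n) (e : Cc p x₀ E.X₁.obj T' (n + 1)), IsC c' ∧ IsC e ∧ IsZ e ∧
        mapC E.g.hom c' = resC g c ∧ dC c' = mapC E.f.hom e := by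
  have hL := lex_of_shortExact hp hE
  obtain ⟨-, hls⟩ := shift (isFG_qf hp) hE hP
  obtain ⟨T', g, hg, hτ, c', hc', hcc⟩ := exists_lift_cochain h hp (isSheaf_E _ E.X₂.property)
    (isSheaf_E _ E.X₃.property) (ls_of (isFG_qf hp) hls) c hc τ
  have h0 : mapC E.g.hom (dC c') = 0 := by
    funext W t v
    change E.g.hom.app (op W) (dS (c' W t) v) = 0
    rw [← dS_mapC, hcc]
    exact hz _ _
  have h1 := mapC_pullC hL (dC c') h0
  refine ⟨T', g, hg, hτ, c', pullC E.f.hom (dC c'), hc', ?_, ?_, hcc, h1.symm⟩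
  · apply isC_of_map hL
    rw [h1]
    exact hc'.dC
  · apply isZ_of_map hL
    rw [h1]
    exact isZ_dC c'

include h hE hP in
/-- Local vanishing shifts. -/
theorem shift_lc {N : ℤ} {D : Pts S} {n : ℕ} (hl : LCo p x₀ N D E.X₁.obj (n + 1)) :
    LCo p x₀ N D E.X₃.obj n := by
  intro T c hc hz τ hτ
  have hL := lex_of_shortExact hp hE
  obtain ⟨T₁, g₁, hg₁, ⟨τ₁, rfl⟩, c', e, hc', he, hez, hcc, hde⟩ := exists_lift_cocycle hp h hE hP c hc hz τ
  obtain ⟨T₂, g₂, hg₂, ⟨τ₂, hτ₂⟩, b, hb, hbe⟩ := hl T₁ e he hez τ₁ (D.pull g₁ τ₁ hτ)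
  let w : Cc p x₀ E.X₂.obj T₂ (n + 1) := subC (smC N (resC g₂ c')) (mapC E.f.hom b)
  have hw : IsC w := ((hc'.res g₂).sm N).sub (hb.map _)
  have hwz : IsZ w := by
    intro W t v
    have e1 : dS (resC g₂ c' W t) v = E.f.hom.app (op W) (resC g₂ e W t v) :=
      congrFun (congrFun (congrFun hde W) (t ≫ g₂)) v
    rw [dS_subC, dS_smC, dS_mapC, hbe t v, e1, smC, map_zsmul, sub_self]
  have := injective_obj (isFG_qf hp) E.X₂
  obtain ⟨a, ha, hab⟩ := exists_cob_of_injective w hw hwz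
  refine ⟨T₂, g₂ ≫ g₁, ?_, ⟨τ₂, ?_⟩, mapC E.g.hom a, ha.map _, ?_⟩
  · rw [Over.comp_left]
    infer_instance
  · rw [Over.comp_left, Scheme.Hom.comp_apply, hτ₂]
  · intro W t v
    rw [hab.map E.g.hom t v]
    change E.g.hom.app (op W) (N • c' W (t ≫ g₂) v - E.f.hom.app (op W) (b W t v)) = N • c W (t ≫ g₂ ≫ g₁) v
    rw [map_sub, hL.comp, sub_zero, map_zsmul]
    have e2 : E.g.hom.app (op W) (c' W (t ≫ g₂) v) = c W ((t ≫ g₂) ≫ g₁) v :=
      congrFun (congrFun (congrFun hcc W) (t ≫ g₂)) v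
    rw [e2, Category.assoc]

/-- the 0-cochain of a global family -/
def ofG (x₀ : C) {P : Cᵒᵖ ⥤ AddCommGrpCat.{u + 1}} {T : Over S} (s : Gg p P T) (n : ℕ) : Cc p x₀ P T n := fun W t _ => s W t

theorem isC_ofG {P : Cᵒᵖ ⥤ AddCommGrpCat.{u + 1}} {T : Over S} {s : Gg p P T} (hs : IsG s) (n : ℕ) :
    IsC (ofG x₀ s n) := fun _ _ f t _ => hs f t

theorem isZ_ofG {P : Cᵒᵖ ⥤ AddCommGrpCat.{u + 1}} {T : Over S} (s : Gg p P T) : IsZ (ofG x₀ s 0) := by
  intro W t v
  rw [dS_zero_eq]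
  exact sub_self _

/-- The relation between global families of the quotient and `1`-cocycles of the subobject. -/
def Rel (x₀ : C) {E : ShortComplex (AF hp)} {T : Over S} (s : Gg p E.X₃.obj T) (χ : Cc p x₀ E.X₁.obj T 1) : Prop :=
  ∃ c' : Cc p x₀ E.X₂.obj T 0, IsC c' ∧ mapC E.g.hom c' = ofG x₀ s 0 ∧ dC c' = mapC E.f.hom χ

include h hE hP in
/-- Locally every family of the quotient is related to a cocycle. -/
theorem exists_rel {T : Over S} (s : Gg p E.X₃.obj T) (hs : IsG s) (τ : T.left) :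
    ∃ (T' : Over S) (g : T' ⟶ T), Etale g.left ∧ τ ∈ Set.range g.left ∧
      ∃ χ : Cc p x₀ E.X₁.obj T' 1, IsC χ ∧ IsZ χ ∧ Rel hp x₀ (resG g s) χ := by
  obtain ⟨T', g, hg, hτ, c', e, hc', he, hez, hcc, hde⟩ :=
    exists_lift_cocycle hp h hE hP (ofG x₀ s 0) (isC_ofG hs 0) (isZ_ofG s) τ
  exact ⟨T', g, hg, hτ, e, he, hez, c', hc', hcc, hde⟩

include h hE in
/-- Every cocycle is related to a family of the quotient. -/
theorem exists_rel' {T : Over S} (χ : Cc p x₀ E.X₁.obj T 1) (hχ : IsC χ) (hz : IsZ χ) :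
    ∃ s : Gg p E.X₃.obj T, IsG s ∧ Rel hp x₀ s χ := by
  have hL := lex_of_shortExact hp hE
  have := injective_obj (isFG_qf hp) E.X₂
  obtain ⟨a, ha, hab⟩ := exists_cob_of_injective (mapC E.f.hom χ) (hχ.map _) (hz.map _)
  have hda : dC a = mapC E.f.hom χ := by
    funext W t v
    exact hab t v
  have haz : IsZ (mapC E.g.hom a) := by
    intro W t v
    rw [dS_mapC, hab t v]
    exact hL.comp W _
  obtain ⟨s, hs, hsa⟩ := descend E.X₃.property (h.sv_mem hp) (ha.map E.g.hom) haz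
  refine ⟨s, hs, a, ha, ?_, hda⟩
  funext W t v
  have e1 : v = fun _ => v 0 := by
    funext i
    rw [Fin.fin_one_eq_zero i]
  rw [e1]
  exact (hsa W t (v 0)).symm

omit [Injective E.X₂] in
include h hE in
/-- A family related to a cocycle whose `N`-multiple is a coboundary is, up to `N`, in the image. -/
theorem rel_image {T : Over S} {s : Gg p E.X₃.obj T} (hs : IsG s) {χ : Cc p x₀ E.X₁.obj T 1} (hr : Rel hp x₀ s χ)
    {N : ℤ} {b : Cc p x₀ E.X₁.obj T 0} (hb : IsC b) (hbc : IsB b (smC N χ)) :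
    ∃ s' : Gg p E.X₂.obj T, IsG s' ∧ mapG E.g.hom s' = N • s := by
  have hL := lex_of_shortExact hp hE
  obtain ⟨c', hc', hcs, hd⟩ := hr
  let w : Cc p x₀ E.X₂.obj T 0 := subC (smC N c') (mapC E.f.hom b)
  have hw : IsC w := (hc'.sm N).sub (hb.map _)
  have hwz : IsZ w := by
    intro W t v
    have e1 : dS (c' W t) v = E.f.hom.app (op W) (χ W t v) := congrFun (congrFun (congrFun hd W) t) v
    rw [dS_subC, dS_smC, dS_mapC, hbc t v, e1, smC, map_zsmul, sub_self]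
  obtain ⟨s', hs', hsw⟩ := descend E.X₂.property (h.sv_mem hp) hw hwz
  refine ⟨s', hs', ?_⟩
  refine eq_of_cover E.X₃.property (h.sv_mem hp) (hs'.map _) ?_ ?_
  · intro W W' f t
    change E.X₃.obj.map f.op (N • s W t) = N • s W' (p.map f ≫ t)
    rw [map_zsmul, hs f t]
  · intro W t v
    change E.g.hom.app (op W) (s' W t) = N • s W t
    rw [hsw W t v]
    change E.g.hom.app (op W) (N • c' W t (fun _ => v) - E.f.hom.app (op W) (b W t (fun _ => v))) = _
    rw [map_sub, hL.comp, sub_zero, map_zsmul]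
    have e2 : E.g.hom.app (op W) (c' W t (fun _ => v)) = s W t := congrFun (congrFun (congrFun hcs W) t) (fun _ => v)
    rw [e2]

omit [Injective E.X₂] in
include hE in
/-- If a family related to a cocycle comes from a global family of `E.X₂` then the cocycle is a coboundary. -/
theorem rel_cob {T : Over S} {s' : Gg p E.X₂.obj T} (hs' : IsG s') {χ : Cc p x₀ E.X₁.obj T 1}
    (hr : Rel hp x₀ (mapG E.g.hom s') χ) : ∃ b : Cc p x₀ E.X₁.obj T 0, IsC b ∧ IsB b χ := by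
  have hL := lex_of_shortExact hp hE
  obtain ⟨c', hc', hcs, hd⟩ := hr
  let w : Cc p x₀ E.X₂.obj T 0 := subC c' (ofG x₀ s' 0)
  have hw : IsC w := hc'.sub (isC_ofG hs' 0)
  have h0 : mapC E.g.hom w = 0 := by
    funext W t v
    change E.g.hom.app (op W) (c' W t v - s' W t) = 0
    rw [map_sub]
    have e2 : E.g.hom.app (op W) (c' W t v) = E.g.hom.app (op W) (s' W t) := congrFun (congrFun (congrFun hcs W) t) v
    rw [e2, sub_self]
  have h1 := mapC_pullC hL w h0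
  refine ⟨pullC E.f.hom w, ?_, ?_⟩
  · apply isC_of_map hL
    rw [h1]
    exact hw
  · intro W t v
    apply hL.inj'
    rw [← dS_mapC, h1, dS_subC, isZ_ofG s' t v, sub_zero]
    exact congrFun (congrFun (congrFun hd W) t) v

include h hE hP in
/-- The final step. -/
theorem shift_zero {N : ℤ} {D : Pts S} (hl : LCo p x₀ N D E.X₁.obj 0) {T : Over S} (s : Gg p E.X₃.obj T)
    (hs : IsG s) (τ : T.left) (hτ : D.Cd T τ) :
    ∃ (T' : Over S) (g : T' ⟶ T), Etale g.left ∧ τ ∈ Set.range g.left ∧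
      ∃ s' : Gg p E.X₂.obj T', IsG s' ∧ mapG E.g.hom s' = N • resG g s := by
  obtain ⟨T₁, g₁, hg₁, ⟨τ₁, rfl⟩, χ, hχ, hz, hr⟩ := exists_rel hp h hE hP s hs τ
  obtain ⟨T₂, g₂, hg₂, ⟨τ₂, hτ₂⟩, b, hb, hbe⟩ := hl T₁ χ hχ hz τ₁ (D.pull g₁ τ₁ hτ)
  obtain ⟨c', hc', hcs, hd⟩ := hr
  have hr' : Rel hp x₀ (resG g₂ (resG g₁ s)) (resC g₂ χ) := by
    refine ⟨resC g₂ c', hc'.res g₂, ?_, ?_⟩
    · funext W t v
      exact congrFun (congrFun (congrFun hcs W) (t ≫ g₂)) v
    · funext W t v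
      exact congrFun (congrFun (congrFun hd W) (t ≫ g₂)) v
  obtain ⟨s', hs', he⟩ := rel_image hp h hE ((hs.res g₁).res g₂) hr' hb hbe
  refine ⟨T₂, g₂ ≫ g₁, ?_, ⟨τ₂, ?_⟩, s', hs', ?_⟩
  · rw [Over.comp_left]
    infer_instance
  · rw [Over.comp_left, Scheme.Hom.comp_apply, hτ₂]
  · rw [he]
    have e1 : resG g₂ (resG g₁ s) = resG (g₂ ≫ g₁) s := by
      funext W t
      simp only [resG, Category.assoc]
    rw [e1]

end K998.Shift
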