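import Groth.Agent.StCoh.K998.FG
import Groth.Agent.CohtopA.OverInj
import Mathlib.CategoryTheory.Comma.Over.Basic
import Mathlib.CategoryTheory.Sites.LocallySurjective

/-!
# Slices of categories fibred in groupoids

`ex hp x : Over (p.obj x) ⥤ C`, the functor "restriction of `x`".
-/

set_option autoImplicit false

universe v₁ u₁ v₂ u₂ v₃ u₃ w w'

open CategoryTheory CategoryTheory.Limits Opposite

namespace K998.FG

variable {C : Type u₁} [Category.{v₁} C] {B : Type u₂} [Category.{v₂} B]

section

variable {p : C ⥤ B} (hp : IsFG p) (x : C)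

include hp in
theorem isEquivalence_post : (Over.post p : Over x ⥤ Over (p.obj x)).IsEquivalence where
  faithful := ⟨fun {y z} f g h => by
    have h1 : p.map f.left = p.map g.left := congrArg (fun k => k.left) h
    exact Over.OverMorphism.ext (hp.uniq z.hom _ _ h1 (by rw [Over.w, Over.w]))⟩
  full := ⟨fun {y z} f => by
    obtain ⟨χ, h1, h2⟩ := hp.fac z.hom y.hom f.left (Over.w f)
    exact ⟨Over.homMk χ h2, Over.OverMorphism.ext h1⟩⟩
  essSurj := ⟨fun T => by
    obtain ⟨y, e, φ, h⟩ := hp.lift x T.hom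
    exact ⟨Over.mk φ, ⟨Over.isoMk e h.symm⟩⟩⟩

/-- The equivalence of slices. -/
noncomputable def eqv : Over x ≌ Over (p.obj x) :=
  have := isEquivalence_post hp x
  (Over.post p : Over x ⥤ Over (p.obj x)).asEquivalence

theorem eqv_functor : (eqv hp x).functor = Over.post p := rfl

/-- "Restriction of `x`". -/
noncomputable def ex : Over (p.obj x) ⥤ C := (eqv hp x).inverse ⋙ Over.forget x

/-- It lives over the base. -/
noncomputable def exIso : ex hp x ⋙ p ≅ Over.forget (p.obj x) :=
  Functor.isoWhiskerRight (eqv hp x).counitIso (Over.forget (p.obj x))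

theorem isFG_ex : IsFG (ex hp x) := IsFG.over (exIso hp x) (IsFG.over_forget _) hp

/-- the structure map to `x` -/
noncomputable def exHom (T : Over (p.obj x)) : (ex hp x).obj T ⟶ x := ((eqv hp x).inverse.obj T).hom

theorem exHom_naturality {T T' : Over (p.obj x)} (f : T' ⟶ T) : (ex hp x).map f ≫ exHom hp x T = exHom hp x T' :=
  Over.w ((eqv hp x).inverse.map f)

theorem map_exHom (T : Over (p.obj x)) : p.map (exHom hp x T) = (exIso hp x).hom.app T ≫ T.hom :=
  (Over.w ((eqv hp x).counitIso.hom.app T)).symm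

/-- Every morphism to `x` is, up to isomorphism, of the form `exHom`. -/
theorem exists_ex {y : C} (φ : y ⟶ x) : ∃ ε : y ≅ (ex hp x).obj (Over.mk (p.map φ)),
    ε.hom ≫ exHom hp x (Over.mk (p.map φ)) = φ ∧
      p.map ε.hom = (exIso hp x).inv.app (Over.mk (p.map φ)) := by
  obtain ⟨ε, h1, h2⟩ := hp.exists_iso (exHom hp x (Over.mk (p.map φ))) φ
    ((exIso hp x).symm.app (Over.mk (p.map φ))) (by
      rw [map_exHom]
      exact Iso.inv_hom_id_app_assoc (exIso hp x) (Over.mk (p.map φ)) (p.map φ))
  exact ⟨ε, h2, h1⟩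

theorem topo_ex (J : GrothendieckTopology B) : topo (isFG_ex hp x) (topo hp J) = J.over (p.obj x) := by
  rw [over_eq, ← topo_comp _ (isFG_ex hp x) hp ((isFG_ex hp x).comp hp),
    topo_of_iso _ (exIso hp x) ((isFG_ex hp x).comp hp) (IsFG.over_forget _)]

theorem isContinuous_ex (J : GrothendieckTopology B) :
    (ex hp x).IsContinuous (J.over (p.obj x)) (topo hp J) := by
  rw [← topo_ex hp x J]
  exact isContinuous _ _

theorem isCocontinuous_ex (J : GrothendieckTopology B) :
    (ex hp x).IsCocontinuous (J.over (p.obj x)) (topo hp J) := by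
  rw [← topo_ex hp x J]
  exact isCocontinuous _ _

theorem isSheaf_ex (J : GrothendieckTopology B) {A : Type w} [Category.{w'} A] {F : Cᵒᵖ ⥤ A}
    (hF : Presheaf.IsSheaf (topo hp J) F) : Presheaf.IsSheaf (J.over (p.obj x)) ((ex hp x).op ⋙ F) := by
  have := isContinuous_ex hp x J
  exact (ex hp x).op_comp_isSheaf (J.over (p.obj x)) (topo hp J) ⟨F, hF⟩

end

section Inj

open Groth.Agent.CohtopA.OverInj

/-- The restriction of an injective presheaf to a slice is injective. -/
theorem injective_over_psh {A : Type u₃} [Category.{v₃} A] [Abelian A] [HasCoproducts.{v₁} A]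
    [∀ (α : Type v₁), HasExactColimitsOfShape (Discrete α) A] (I : Cᵒᵖ ⥤ A) [Injective I] (U : C) :
    Injective ((Over.forget U).op ⋙ I) where
  factors {P Q} g f hf := by
    have h2 : ∀ Y, Mono (f.app Y) := fun Y => inferInstanceAs (Mono (((evaluation _ A).obj Y).map f))
    have h3 : Mono (jMap f) := mono_jMap f
    refine ⟨jLift (Injective.factorThru (jDesc g) (jMap f)), ?_⟩
    rw [← jLift_precomp, Injective.comp_factorThru, jLift_jDesc]

/-- The restriction of an injective presheaf along `ex` is injective. -/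
theorem injective_ex {p : C ⥤ B} (hp : IsFG p) (x : C) {A : Type u₃} [Category.{v₃} A] [Abelian A]
    [HasCoproducts.{v₁} A] [∀ (α : Type v₁), HasExactColimitsOfShape (Discrete α) A] (I : Cᵒᵖ ⥤ A) [Injective I] :
    Injective ((ex hp x).op ⋙ I) := by
  have h1 := injective_over_psh I x
  have h2 : Injective (((eqv hp x).op.congrLeft (E := A)).functor.obj ((Over.forget x).op ⋙ I)) := by
    rw [Equivalence.map_injective_iff]
    exact h1
  exact Injective.of_iso (Iso.refl _) h2

end Inj

section LocSurj

variable {A : Type u₃} [Category.{v₃} A]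

theorem isLocallySurjective_ex {p : C ⥤ B} (hp : IsFG p) (x : C) (J : GrothendieckTopology B)
    {FA : A → A → Type*} {CA : A → Type*} [∀ X Y, FunLike (FA X Y) (CA X) (CA Y)] [ConcreteCategory A FA]
    {P Q : Cᵒᵖ ⥤ A} (α : P ⟶ Q) (h : Presheaf.IsLocallySurjective (topo hp J) α) :
    Presheaf.IsLocallySurjective (J.over (p.obj x)) (Functor.whiskerLeft (ex hp x).op α) := by
  refine ⟨fun {V} s => ?_⟩
  have h1 := Presheaf.imageSieve_mem (topo hp J) α (U := op ((ex hp x).obj V)) s
  have := isCocontinuous_ex hp x J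
  exact (ex hp x).cover_lift (J.over (p.obj x)) (topo hp J) h1

end LocSurj

end K998.FG
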