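import Groth.Agent.StCoh.K998.Slice
import Groth.Agent.StCoh.K998.FibFG
import Groth.Agent.Etrest.FppfMain3

/-!
# Transfer of étale-local Čech acyclicity to categories fibred in groupoids over schemes
-/

set_option autoImplicit false

universe u

open CategoryTheory CategoryTheory.Limits Opposite AlgebraicGeometry

namespace K998.Transfer

open FG Groth.Agent.Etrest FppfMain BigEtSite

variable {C : Type (u + 1)} [Category.{u} C] {q : C ⥤ Scheme.{u}} (hq : IsFG q)

/-- fppf sheaves -/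
abbrev AbC : Type (u + 2) := Sheaf (topo hq Scheme.fppfTopology.{u}) AddCommGrpCat.{u + 1}

/-- étale sheaves -/
abbrev AbCE : Type (u + 2) := Sheaf (topo hq Scheme.etaleTopology.{u}) AddCommGrpCat.{u + 1}

/-- étale-local Čech acyclicity of all restrictions -/
def PCA (F : Cᵒᵖ ⥤ AddCommGrpCat.{u + 1}) : Prop := ∀ x : C, CA ((ex hq x).op ⋙ F)

/-- étale-local surjectivity -/
def LS (q : C ⥤ Scheme.{u}) {P Q : Cᵒᵖ ⥤ AddCommGrpCat.{u + 1}} (α : P ⟶ Q) : Prop :=
  ∀ (x : C) (s : Q.obj (op x)) (z : q.obj x), ∃ (y : C) (φ : y ⟶ x), Etale (q.map φ) ∧ z ∈ Set.range (q.map φ) ∧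
    ∃ t : P.obj (op y), α.app (op y) t = Q.map φ.op s

theorem topo_mono {J J' : GrothendieckTopology Scheme.{u}} (h : J ≤ J') : topo hq J ≤ topo hq J' :=
  fun _ _ hR => h _ hR

theorem isSheaf_E {F : Cᵒᵖ ⥤ AddCommGrpCat.{u + 1}} (hF : Presheaf.IsSheaf (topo hq Scheme.fppfTopology.{u}) F) :
    Presheaf.IsSheaf (topo hq Scheme.etaleTopology.{u}) F :=
  fun E => Presieve.isSheaf_of_le _ (topo_mono hq etaleTopology_le_fppfTopology) (hF E)

theorem isSheaf_exF {F : Cᵒᵖ ⥤ AddCommGrpCat.{u + 1}} (hF : Presheaf.IsSheaf (topo hq Scheme.fppfTopology.{u}) F)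
    (x : C) : Presheaf.IsSheaf (EtFppf.J (q.obj x)) ((ex hq x).op ⋙ F) :=
  isSheaf_ex hq x _ hF

theorem isSheaf_exE {F : Cᵒᵖ ⥤ AddCommGrpCat.{u + 1}} (hF : Presheaf.IsSheaf (topo hq Scheme.etaleTopology.{u}) F)
    (x : C) : Presheaf.IsSheaf (JE (q.obj x)) ((ex hq x).op ⋙ F) :=
  isSheaf_ex hq x _ hF

theorem leftExact_of_shortExact {S : ShortComplex (AbC hq)} (hS : S.ShortExact) (x : C) :
    LeftExact (Functor.whiskerLeft (ex hq x).op S.f.hom) (Functor.whiskerLeft (ex hq x).op S.g.hom) := by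
  have hm := hS.mono_f
  have key : ∀ W : C, Mono (S.f.hom.app (op W)) ∧
      (S.map (sheafToPresheaf _ _ ⋙ (evaluation _ _).obj (op W))).Exact := by
    intro W
    let Φ : AbC hq ⥤ AddCommGrpCat.{u + 1} := sheafToPresheaf _ _ ⋙ (evaluation _ _).obj (op W)
    have h1 : PreservesFiniteLimits Φ := inferInstance
    have hm' : Mono (Φ.map S.f) := inferInstance
    exact ⟨hm', hS.exact.map_of_mono_of_preservesKernel Φ inferInstance inferInstance⟩
  refine ⟨fun W s hs => ?_, fun W s => ?_, fun W s hs => ?_⟩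
  · have := (AddCommGrpCat.mono_iff_injective _).1 (key ((ex hq x).obj W)).1
    exact this (hs.trans (map_zero _).symm)
  · have h1 : S.f.hom ≫ S.g.hom = 0 := congrArg (fun k => k.hom) S.zero
    have h2 := ConcreteCategory.congr_hom (NatTrans.congr_app h1 (op ((ex hq x).obj W))) s
    exact h2
  · exact (ShortComplex.ab_exact_iff _).1 (key ((ex hq x).obj W)).2 s hs

theorem injective_obj (I : AbC hq) [Injective I] : Injective I.obj :=
  Injective.injective_of_adjoint (sheafificationAdjunction (topo hq Scheme.fppfTopology.{u}) AddCommGrpCat.{u + 1}) I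

theorem exactDiscrete (α : Type u) : HasExactColimitsOfShape (Discrete α) AddCommGrpCat.{u + 1} := by
  have : AB4OfSize.{u + 1} AddCommGrpCat.{u + 1} := AB4.of_AB5 _
  have : AB4OfSize.{u} AddCommGrpCat.{u + 1} := AB4OfSize_shrink.{u, u + 1} _
  infer_instance

/-- Dimension shifting for the class of étale-locally Čech acyclic sheaves. -/
theorem shift {S : ShortComplex (AbC hq)} (hS : S.ShortExact) [Injective S.X₂] (hP : PCA hq S.X₁.obj) :
    PCA hq S.X₃.obj ∧ ∀ x, LocSurj (Functor.whiskerLeft (ex hq x).op S.g.hom) := by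
  have key : ∀ x, LocSurj (Functor.whiskerLeft (ex hq x).op S.g.hom) := by
    intro x
    have hL := leftExact_of_shortExact hq hS x
    have hπ : Presheaf.IsLocallySurjective (topo hq Scheme.fppfTopology.{u}) S.g.hom := by
      have := hS.epi_g
      exact (Sheaf.isLocallySurjective_iff_epi' (φ := S.g)).2 this
    exact locSurj hL (hP x) (isSheaf_exF hq S.X₂.property x) (isSheaf_exF hq S.X₃.property x)
      (isLocallySurjective_ex hq x _ _ hπ)
  refine ⟨fun x => ?_, key⟩
  have hL := leftExact_of_shortExact hq hS x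
  have h1 := injective_obj hq S.X₂
  have h0 := exactDiscrete.{u}
  have h2 := injective_ex hq x S.X₂.obj
  exact ca_quotient hL (hP x) (isSheaf_exE hq (isSheaf_E hq S.X₂.property) x)
    (isSheaf_exE hq (isSheaf_E hq S.X₃.property) x) (key x)

theorem ls_of {P Q : Cᵒᵖ ⥤ AddCommGrpCat.{u + 1}} {α : P ⟶ Q}
    (h : ∀ x, LocSurj (Functor.whiskerLeft (ex hq x).op α)) : LS q α := by
  intro x s z
  obtain ⟨ε, h1, h2⟩ := exists_ex hq x (𝟙 x)
  let T : Over (q.obj x) := Over.mk (q.map (𝟙 x))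
  let s' : ((ex hq x).op ⋙ Q).obj (op T) := Q.map ε.inv.op s
  obtain ⟨V, g, hg, ⟨w, hw⟩, t, ht⟩ := h x T s' z
  have h3 : q.map (exHom hq x V) = (exIso hq x).hom.app V ≫ V.hom := map_exHom hq x V
  have h4 : V.hom = g.left := by
    rw [← Over.w g]
    change _ ≫ q.map (𝟙 x) = _
    rw [q.map_id, Category.comp_id]
  let k : q.obj ((ex hq x).obj V) ⟶ V.left := (exIso hq x).hom.app V
  let k' : V.left ⟶ q.obj ((ex hq x).obj V) := (exIso hq x).inv.app V
  have hk : IsIso k := inferInstanceAs (IsIso ((exIso hq x).hom.app V))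
  have hk' : k' ≫ k = 𝟙 _ := Iso.inv_hom_id_app _ _
  let g' : V.left ⟶ q.obj x := g.left
  have hg' : Etale g' := hg
  have h5 : q.map (exHom hq x V) = k ≫ g' := by
    rw [h3, h4]
    rfl
  refine ⟨(ex hq x).obj V, exHom hq x V, ?_, ?_, t, ?_⟩
  · rw [h5]
    infer_instance
  · rw [h5]
    refine ⟨k' w, ?_⟩
    rw [← hw]
    change (k' ≫ k ≫ g') w = g' w
    rw [← Category.assoc, hk', Category.id_comp]
  · refine ht.trans ?_
    change Q.map ((ex hq x).map g).op (Q.map ε.inv.op s) = _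
    rw [← ConcreteCategory.comp_apply, ← Q.map_comp, ← op_comp]
    congr 3
    have h5 : exHom hq x T = ε.inv := by
      rw [← cancel_epi ε.hom, Iso.hom_inv_id]
      exact h1
    rw [← h5, exHom_naturality]

end K998.Transfer
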