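import Groth.Agent.StCoh.K998.UnitCx
import Mathlib.RingTheory.FinitePresentation
import Mathlib.LinearAlgebra.FreeModule.Finite.Basic

/-!
# The algebra representing `y` with `D y = z`, and its smoothness
-/

set_option autoImplicit false
set_option linter.unusedSectionVars false

universe u v w

open TensorProduct

namespace K998.UnitCx

section Coord

variable {A : Type u} [CommRing A] {C : Type v} [CommRing C] [Algebra A C] {ι : Type*} (b : Module.Basis ι A C)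

/-- coordinates of an element of `B ⊗ C` -/
noncomputable def co (B : Type w) [CommRing B] [Algebra A B] (x : B ⊗[A] C) (i : ι) : B :=
  (Algebra.TensorProduct.basis B b).repr x i

theorem co_cf {B B' : Type w} [CommRing B] [CommRing B'] [Algebra A B] [Algebra A B'] (φ : B →ₐ[A] B')
    (x : B ⊗[A] C) (i : ι) : co b B' (cf C φ x) i = φ (co b B x i) := by
  induction x with
  | zero => simp [co]
  | tmul p c =>
    simp only [co, cf, Algebra.TensorProduct.map_tmul, Algebra.TensorProduct.basis_repr_tmul, AlgHom.coe_id, id_eq,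
      Finsupp.smul_apply, Finsupp.mapRange_apply, smul_eq_mul, map_mul, AlgHom.commutes]
  | add x y hx hy =>
    have h1 : co b B' (cf C φ x + cf C φ y) i = co b B' (cf C φ x) i + co b B' (cf C φ y) i := by simp [co]
    have h2 : co b B (x + y) i = co b B x i + co b B y i := by simp [co]
    rw [map_add, h1, h2, hx, hy, map_add]

theorem co_ext {B : Type w} [CommRing B] [Algebra A B] {x y : B ⊗[A] C} (h : ∀ i, co b B x i = co b B y i) :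
    x = y := (Algebra.TensorProduct.basis B b).ext_elem h

variable [Fintype ι]

/-- the element with given coordinates -/
noncomputable def ofCo (B : Type w) [CommRing B] [Algebra A B] (c : ι → B) : B ⊗[A] C :=
  ∑ i, c i ⊗ₜ[A] b i

theorem co_ofCo {B : Type w} [CommRing B] [Algebra A B] (c : ι → B) (i : ι) : co b B (ofCo b B c) i = c i := by
  classical
  have h : ofCo b B c = ∑ i, c i • (Algebra.TensorProduct.basis B b) i := by
    refine Finset.sum_congr rfl fun i _ => ?_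
    rw [Algebra.TensorProduct.basis_apply, TensorProduct.smul_tmul', smul_eq_mul, mul_one]
  rw [co, h]
  simp [Finsupp.single_apply]

theorem cf_ofCo {B B' : Type w} [CommRing B] [CommRing B'] [Algebra A B] [Algebra A B'] (φ : B →ₐ[A] B')
    (c : ι → B) : cf C φ (ofCo b B c) = ofCo b B' (fun i => φ (c i)) := by
  apply co_ext b
  intro i
  rw [co_cf, co_ofCo, co_ofCo]

theorem ofCo_co {B : Type w} [CommRing B] [Algebra A B] (x : B ⊗[A] C) : ofCo b B (co b B x) = x :=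
  co_ext b fun i => co_ofCo b _ i

end Coord

section Rep

variable {A : Type u} [CommRing A] {C₀ C₁ C₂ : Type u} [CommRing C₀] [CommRing C₁] [CommRing C₂]
  [Algebra A C₀] [Algebra A C₁] [Algebra A C₂] {ι κ : Type u} [Fintype ι] [Fintype κ]
  (b₀ : Module.Basis ι A C₀) (b₁ : Module.Basis κ A C₁) {n : ℕ} (d₀ : Fin n → C₀ →ₐ[A] C₁) (z : Additive C₁ˣ)

/-- the polynomial ring -/
abbrev Φ (A : Type u) [CommRing A] (ι : Type u) : Type u := MvPolynomial (ι ⊕ ι) A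

/-- universal element -/
noncomputable def Y : Φ A ι ⊗[A] C₀ := ofCo b₀ (Φ A ι) fun i => MvPolynomial.X (Sum.inl i)

/-- universal inverse -/
noncomputable def Y' : Φ A ι ⊗[A] C₀ := ofCo b₀ (Φ A ι) fun i => MvPolynomial.X (Sum.inr i)

/-- the equation `D y = z` without denominators -/
noncomputable def eqn (B : Type u) [CommRing B] [Algebra A B] (y : B ⊗[A] C₀) : B ⊗[A] C₁ :=
  ev (fun i => ((bc B (d₀ i) : B ⊗[A] C₀ →+* B ⊗[A] C₁) : B ⊗[A] C₀ →* B ⊗[A] C₁)) y -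
    (((zB (A := A) B z).toMul : (B ⊗[A] C₁)ˣ) : B ⊗[A] C₁) *
      od (fun i => ((bc B (d₀ i) : B ⊗[A] C₀ →+* B ⊗[A] C₁) : B ⊗[A] C₀ →* B ⊗[A] C₁)) y

theorem eqn_eq_zero_iff (B : Type u) [CommRing B] [Algebra A B] (y : Additive (B ⊗[A] C₀)ˣ) :
    eqn d₀ z B (y.toMul : B ⊗[A] C₀) = 0 ↔ Dm B d₀ y = zB B z := by
  rw [eqn, sub_eq_zero]
  exact (alt_eq_iff _ _ _).symm

theorem cf_eqn {B B' : Type u} [CommRing B] [CommRing B'] [Algebra A B] [Algebra A B'] (φ : B →ₐ[A] B')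
    (y : B ⊗[A] C₀) : cf C₁ φ (eqn d₀ z B y) = eqn d₀ z B' (cf C₀ φ y) := by
  rw [eqn, eqn, map_sub, map_mul, ev, ev, od, od, map_prod, map_prod]
  have h1 : cf C₁ φ (((zB (A := A) B z).toMul : (B ⊗[A] C₁)ˣ) : B ⊗[A] C₁) =
      (((zB (A := A) B' z).toMul : (B' ⊗[A] C₁)ˣ) : B' ⊗[A] C₁) := by
    have := congrArg (fun x => (x.toMul : B' ⊗[A] C₁)) (cfu_zB φ z)
    exact this
  rw [h1]
  congr 1
  · refine Finset.prod_congr rfl fun i _ => ?_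
    split_ifs
    · exact cf_bc φ (d₀ i) y
    · exact map_one _
  · congr 1
    refine Finset.prod_congr rfl fun i _ => ?_
    split_ifs
    · exact map_one _
    · exact cf_bc φ (d₀ i) y

/-- the relations -/
noncomputable def rel : ι ⊕ κ → Φ A ι :=
  Sum.elim (co b₀ (Φ A ι) (Y b₀ * Y' b₀ - 1)) (co b₁ (Φ A ι) (eqn d₀ z (Φ A ι) (Y b₀)))

/-- The representing algebra. -/
abbrev P : Type u := Φ A ι ⧸ Ideal.span (Set.range (rel b₀ b₁ d₀ z))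

theorem finitePresentation_P : Algebra.FinitePresentation A (P b₀ b₁ d₀ z) := by
  refine Algebra.FinitePresentation.quotient ?_
  exact ⟨(Set.finite_range _).toFinset, by rw [Set.Finite.coe_toFinset]⟩

omit [Fintype κ] in
theorem rel_eq_zero_iff {B : Type u} [CommRing B] [Algebra A B] (ψ : Φ A ι →ₐ[A] B) :
    (∀ k, ψ (rel b₀ b₁ d₀ z k) = 0) ↔ cf C₀ ψ (Y b₀) * cf C₀ ψ (Y' b₀) = 1 ∧ eqn d₀ z B (cf C₀ ψ (Y b₀)) = 0 := by
  rw [Sum.forall]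
  refine and_congr ?_ ?_
  · rw [← sub_eq_zero (b := (1 : B ⊗[A] C₀)), ← map_mul, ← map_one (cf C₀ ψ), ← map_sub]
    constructor
    · intro h
      apply co_ext b₀
      intro i
      rw [co_cf]
      exact (h i).trans (by simp [co])
    · intro h i
      change ψ (co b₀ _ _ i) = 0
      rw [← co_cf, h]
      simp [co]
  · rw [← cf_eqn]
    constructor
    · intro h
      apply co_ext b₁
      intro i
      rw [co_cf]
      exact (h i).trans (by simp [co])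
    · intro h i
      change ψ (co b₁ _ _ i) = 0
      rw [← co_cf, h]
      simp [co]

/-- The structure map. -/
noncomputable abbrev pr : Φ A ι →ₐ[A] P b₀ b₁ d₀ z := Ideal.Quotient.mkₐ A _

omit [Fintype κ] in
theorem pr_rel : cf C₀ (pr b₀ b₁ d₀ z) (Y b₀) * cf C₀ (pr b₀ b₁ d₀ z) (Y' b₀) = 1 ∧
    eqn d₀ z (P b₀ b₁ d₀ z) (cf C₀ (pr b₀ b₁ d₀ z) (Y b₀)) = 0 := by
  rw [← rel_eq_zero_iff b₀ b₁]
  intro k
  exact Ideal.Quotient.eq_zero_iff_mem.2 (Ideal.subset_span ⟨k, rfl⟩)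

/-- The universal unit. -/
noncomputable def yP : Additive (P b₀ b₁ d₀ z ⊗[A] C₀)ˣ :=
  Additive.ofMul ⟨cf C₀ (pr b₀ b₁ d₀ z) (Y b₀), cf C₀ (pr b₀ b₁ d₀ z) (Y' b₀), (pr_rel b₀ b₁ d₀ z).1,
    (mul_comm _ _).trans (pr_rel b₀ b₁ d₀ z).1⟩

theorem val_yP : ((yP b₀ b₁ d₀ z).toMul : P b₀ b₁ d₀ z ⊗[A] C₀) = cf C₀ (pr b₀ b₁ d₀ z) (Y b₀) := rfl

theorem val_inv_yP : (((yP b₀ b₁ d₀ z).toMul⁻¹ : (P b₀ b₁ d₀ z ⊗[A] C₀)ˣ) : P b₀ b₁ d₀ z ⊗[A] C₀) =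
    cf C₀ (pr b₀ b₁ d₀ z) (Y' b₀) := rfl

theorem Dm_yP : Dm (P b₀ b₁ d₀ z) d₀ (yP b₀ b₁ d₀ z) = zB (P b₀ b₁ d₀ z) z := by
  rw [← eqn_eq_zero_iff]
  exact (pr_rel b₀ b₁ d₀ z).2

/-- existence of the classifying map -/
theorem exists_hom {B : Type u} [CommRing B] [Algebra A B] (y : Additive (B ⊗[A] C₀)ˣ) (hy : Dm B d₀ y = zB B z) :
    ∃ φ : P b₀ b₁ d₀ z →ₐ[A] B, cfu C₀ φ (yP b₀ b₁ d₀ z) = y := by
  let ψ : Φ A ι →ₐ[A] B := MvPolynomial.aeval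
    (Sum.elim (co b₀ B (y.toMul : B ⊗[A] C₀)) (co b₀ B ((y.toMul⁻¹ : (B ⊗[A] C₀)ˣ) : B ⊗[A] C₀)))
  have h1 : cf C₀ ψ (Y b₀) = (y.toMul : B ⊗[A] C₀) := by
    rw [Y, cf_ofCo, ← ofCo_co b₀ (y.toMul : B ⊗[A] C₀)]
    congr 1
    funext i
    simp [ψ]
  have h2 : cf C₀ ψ (Y' b₀) = ((y.toMul⁻¹ : (B ⊗[A] C₀)ˣ) : B ⊗[A] C₀) := by
    rw [Y', cf_ofCo, ← ofCo_co b₀ ((y.toMul⁻¹ : (B ⊗[A] C₀)ˣ) : B ⊗[A] C₀)]
    congr 1
    funext i
    simp [ψ]
  have h3 : ∀ k, ψ (rel b₀ b₁ d₀ z k) = 0 := by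
    rw [rel_eq_zero_iff, h1, h2]
    exact ⟨Units.mul_inv _, (eqn_eq_zero_iff d₀ z B y).2 hy⟩
  have h4 : ∀ a ∈ Ideal.span (Set.range (rel b₀ b₁ d₀ z)), ψ a = 0 := by
    intro a ha
    have : Ideal.span (Set.range (rel b₀ b₁ d₀ z)) ≤ RingHom.ker ψ := by
      rw [Ideal.span_le]
      rintro _ ⟨k, rfl⟩
      exact h3 k
    exact this ha
  refine ⟨Ideal.Quotient.liftₐ _ ψ h4, ?_⟩
  apply Additive.toMul.injective
  ext
  change cf C₀ (Ideal.Quotient.liftₐ _ ψ h4) (cf C₀ (pr b₀ b₁ d₀ z) (Y b₀)) = _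
  rw [← h1]
  rw [Y, cf_ofCo, cf_ofCo, cf_ofCo]
  rfl

theorem hom_ext {B : Type u} [CommRing B] [Algebra A B] {φ φ' : P b₀ b₁ d₀ z →ₐ[A] B}
    (h : cfu C₀ φ (yP b₀ b₁ d₀ z) = cfu C₀ φ' (yP b₀ b₁ d₀ z)) : φ = φ' := by
  have h1 : cf C₀ φ (cf C₀ (pr b₀ b₁ d₀ z) (Y b₀)) = cf C₀ φ' (cf C₀ (pr b₀ b₁ d₀ z) (Y b₀)) :=
    congrArg (fun x => (x.toMul : B ⊗[A] C₀)) h
  have h2 : cf C₀ φ (cf C₀ (pr b₀ b₁ d₀ z) (Y' b₀)) = cf C₀ φ' (cf C₀ (pr b₀ b₁ d₀ z) (Y' b₀)) :=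
    congrArg (fun x => ((x.toMul⁻¹ : (B ⊗[A] C₀)ˣ) : B ⊗[A] C₀)) h
  rw [Y, cf_ofCo, cf_ofCo, cf_ofCo] at h1
  rw [Y', cf_ofCo, cf_ofCo, cf_ofCo] at h2
  apply Ideal.Quotient.algHom_ext
  apply MvPolynomial.algHom_ext
  rintro (i | i)
  · have := congrArg (fun x => co b₀ B x i) h1
    rwa [co_ofCo, co_ofCo] at this
  · have := congrArg (fun x => co b₀ B x i) h2
    rwa [co_ofCo, co_ofCo] at this

end Rep

section Smooth

variable {A : Type u} [CommRing A] {C₀ C₁ C₂ : Type u} [CommRing C₀] [CommRing C₁] [CommRing C₂]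
  [Algebra A C₀] [Algebra A C₁] [Algebra A C₂] {ι κ : Type u} [Fintype ι] [Fintype κ]
  (b₀ : Module.Basis ι A C₀) (b₁ : Module.Basis κ A C₁) {n : ℕ}

theorem cfu_comp {C : Type u} [CommRing C] [Algebra A C] {B B' B'' : Type u} [CommRing B] [CommRing B'] [CommRing B'']
    [Algebra A B] [Algebra A B'] [Algebra A B''] (φ : B →ₐ[A] B') (ψ : B' →ₐ[A] B'')
    (y : Additive (B ⊗[A] C)ˣ) : cfu C ψ (cfu C φ y) = cfu C (ψ.comp φ) y := by
  apply Additive.toMul.injective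
  ext
  change cf C ψ (cf C φ (y.toMul : B ⊗[A] C)) = cf C (ψ.comp φ) (y.toMul : B ⊗[A] C)
  generalize (y.toMul : B ⊗[A] C) = x
  induction x with
  | zero => simp
  | tmul b c => simp
  | add x y hx hy => simp only [map_add, hx, hy]

/-- The representing algebra is smooth. -/
theorem smooth_P {d₀ : Fin (n + 1) → C₀ →ₐ[A] C₁} {d₁ : Fin (n + 2) → C₁ →ₐ[A] C₂} (hd : Simpl d₀ d₁)
    (s₁ : C₁ →ₗ[A] C₀) (s₂ : C₂ →ₗ[A] C₁)
    (hs : ∀ x : C₁, alt (fun i => ((d₀ i : C₀ →+* C₁) : C₀ →+ C₁)) (s₁ x) +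
      s₂ (alt (fun i => ((d₁ i : C₁ →+* C₂) : C₁ →+ C₂)) x) = x)
    (z : Additive C₁ˣ) (hz : alt (fun i => um ((d₁ i : C₁ →+* C₂) : C₁ →* C₂)) z = 0) :
    Algebra.Smooth A (P b₀ b₁ d₀ z) := by
  refine ⟨?_, finitePresentation_P b₀ b₁ d₀ z⟩
  apply Algebra.FormallySmooth.of_comp_surjective
  intro B _ _ I hI g
  obtain ⟨y, hy1, hy2⟩ := exists_lift hd s₁ s₂ hs z hz hI (cfu C₀ g (yP b₀ b₁ d₀ z)) (by
    rw [← cfu_Dm, Dm_yP, cfu_zB])
  obtain ⟨φ, hφ⟩ := exists_hom b₀ b₁ d₀ z y hy1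
  refine ⟨φ, ?_⟩
  apply hom_ext b₀ b₁ d₀ z
  rw [← cfu_comp, hφ, hy2]

end Smooth

end K998.UnitCx
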